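import Mathlib.AlgebraicGeometry.Gluing
import Mathlib.AlgebraicGeometry.Restrict

/-!
# Gluing two morphisms on open subschemes
-/

set_option autoImplicit false
universe u

open CategoryTheory CategoryTheory.Limits AlgebraicGeometry

namespace Groth.Agent.Curve17

theorem exists_glue {X Y : Scheme.{u}} {U V : X.Opens} (f : U.toScheme ⟶ Y) (g : V.toScheme ⟶ Y)
    (h : X.homOfLE (inf_le_left : U ⊓ V ≤ U) ≫ f = X.homOfLE (inf_le_right : U ⊓ V ≤ V) ≫ g) :
    ∃ (W : X.Opens) (hU : U ≤ W) (hV : V ≤ W) (e : W.toScheme ⟶ Y),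
      W = U ⊔ V ∧ X.homOfLE hU ≫ e = f ∧ X.homOfLE hV ≫ e = g ∧
        ∀ {Z : Scheme.{u}} (a b : W.toScheme ⟶ Z), X.homOfLE hU ≫ a = X.homOfLE hU ≫ b →
          X.homOfLE hV ≫ a = X.homOfLE hV ≫ b → a = b := by
  let O : Bool → X.Opens := fun b => cond b U V
  let F : ∀ b, (O b).toScheme ⟶ Y := fun b => match b with
    | true => f
    | false => g
  have key : ∀ a b, X.homOfLE (inf_le_left : O a ⊓ O b ≤ O a) ≫ F a =
      X.homOfLE (inf_le_right : O a ⊓ O b ≤ O b) ≫ F b := by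
    intro a b
    cases a <;> cases b
    · rfl
    · change X.homOfLE (inf_le_left : V ⊓ U ≤ V) ≫ g = X.homOfLE (inf_le_right : V ⊓ U ≤ U) ≫ f
      have e1 := congr(X.homOfLE (le_inf inf_le_right inf_le_left : V ⊓ U ≤ U ⊓ V) ≫ $h)
      simpa only [← Category.assoc, Scheme.homOfLE_homOfLE] using e1.symm
    · exact h
    · rfl
  refine ⟨⨆ b, O b, le_iSup O true, le_iSup O false,
    (Scheme.Opens.iSupOpenCover O).glueMorphisms F fun a b => ?_, ?_, ?_, ?_, fun a b h1 h2 => ?_⟩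
  · refine (cancel_epi (isPullback_opens_inf_le (le_iSup O a) (le_iSup O b)).isoPullback.hom).mp ?_
    change _ ≫ pullback.fst (X.homOfLE (le_iSup O a)) (X.homOfLE (le_iSup O b)) ≫ _ =
      _ ≫ pullback.snd (X.homOfLE (le_iSup O a)) (X.homOfLE (le_iSup O b)) ≫ _
    rw [IsPullback.isoPullback_hom_fst_assoc, IsPullback.isoPullback_hom_snd_assoc]
    exact key a b
  · exact iSup_bool_eq
  · exact Scheme.Cover.ι_glueMorphisms (Scheme.Opens.iSupOpenCover O) F _ true
  · exact Scheme.Cover.ι_glueMorphisms (Scheme.Opens.iSupOpenCover O) F _ false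
  · exact Scheme.Cover.hom_ext (Scheme.Opens.iSupOpenCover O) a b fun c => match c with
      | true => h1
      | false => h2

end Groth.Agent.Curve17
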