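import Groth.Agent.Lib.VarDim.Top
import Mathlib.AlgebraicGeometry.FunctionField
import Mathlib.AlgebraicGeometry.Morphisms.Flat
import Mathlib.AlgebraicGeometry.Morphisms.Finite
import Mathlib.AlgebraicGeometry.Properties
import Mathlib.AlgebraicGeometry.Noetherian
import Mathlib.RingTheory.DiscreteValuationRing.TFAE
import Mathlib.RingTheory.Flat.TorsionFree
import Mathlib.RingTheory.KrullDimension.Field
import Mathlib.Tactic

/-!
# One-dimensional integral schemes

Points, stalks and non-constant morphisms of one-dimensional schemes.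
-/

set_option autoImplicit false
set_option linter.style.haveILetI false
universe u

open CategoryTheory AlgebraicGeometry TopologicalSpace Order

namespace Groth.Agent.Curve17

variable {X Y : Scheme.{u}}

theorem height_le_one (hd : topologicalKrullDim X ≤ 1) (x : X) : height x ≤ 1 := by
  rw [VarDim.scheme_dim_eq_iSup_height] at hd
  exact WithBot.coe_le_coe.1 (le_trans (le_iSup (fun x : X => ((height x : ℕ∞) : WithBot ℕ∞)) x) hd)

/-- In dimension at most one a non-closed point has no proper generalisation. -/
theorem eq_of_specializes (hd : topologicalKrullDim X ≤ 1) {x y : X}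
    (hx : ¬ IsClosed ({x} : Set X)) (h : y ⤳ x) : y = x := by
  by_contra hne
  obtain ⟨z, hz, hzx⟩ : ∃ z, x ⤳ z ∧ z ≠ x := by
    by_contra hh
    push Not at hh
    apply hx
    rw [← closure_eq_iff_isClosed]
    refine Set.Subset.antisymm (fun z hz => ?_) subset_closure
    exact hh z (specializes_iff_mem_closure.2 hz)
  have h1 : height z < height x :=
    height_strictMono (VarDim.lt_of_specializes_ne hz hzx) ((height_le_one hd z).trans_lt (ENat.natCast_lt_top 1))
  have h2 : height x < height y :=
    height_strictMono (VarDim.lt_of_specializes_ne h (Ne.symm hne)) ((height_le_one hd x).trans_lt (ENat.natCast_lt_top 1))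
  have h3 := height_le_one hd y
  have h4 : height x = 0 := by
    by_contra h0
    have : (1 : ℕ∞) ≤ height x := Order.one_le_iff_pos.2 (pos_of_ne_zero h0)
    exact absurd (lt_of_le_of_lt this h2) (not_lt.2 h3)
  rw [h4] at h1
  exact not_lt_bot h1

theorem isClosed_singleton [IrreducibleSpace X] (hd : topologicalKrullDim X ≤ 1) {x : X}
    (hx : x ≠ genericPoint X) : IsClosed ({x} : Set X) := by
  by_contra h
  exact hx (eq_of_specializes hd h (genericPoint_specializes x)).symm

theorem not_isClosed_genericPoint [IrreducibleSpace X] (hd : topologicalKrullDim X = 1) :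
    ¬ IsClosed ({genericPoint X} : Set X) := by
  intro h
  have h0 : height (genericPoint X) = 0 := by
    rw [height_eq_zero]
    intro z hz
    have hz' : z = genericPoint X := by
      have h1 : genericPoint X ⤳ z := hz
      exact (h1.mem_closed h rfl : z ∈ ({genericPoint X} : Set X))
    exact hz'.ge
  rw [VarDim.topologicalKrullDim_eq_height_genericPoint, h0] at hd
  exact zero_ne_one hd

theorem ne_genericPoint [IrreducibleSpace X] (hd : topologicalKrullDim X = 1) {x : X}
    (hx : IsClosed ({x} : Set X)) : x ≠ genericPoint X :=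
  fun h => not_isClosed_genericPoint hd (h ▸ hx)

theorem isClosed_singleton_iff [IrreducibleSpace X] (hd : topologicalKrullDim X = 1) (x : X) :
    IsClosed ({x} : Set X) ↔ x ≠ genericPoint X :=
  ⟨ne_genericPoint hd, isClosed_singleton hd.le⟩

theorem coheight_eq_one [IrreducibleSpace X] (hd : topologicalKrullDim X = 1) {x : X}
    (hx : IsClosed ({x} : Set X)) : coheight x = 1 := by
  have hlt : x < genericPoint X := VarDim.lt_of_specializes_ne (genericPoint_specializes x) (ne_genericPoint hd hx)
  refine le_antisymm (coheight_le fun p hp => ?_) ?_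
  · have hle : (p.length : ℕ∞) ≤ height p.last := length_le_height_last
    exact hle.trans (height_le_one hd.le _)
  · exact Order.one_le_iff_pos.2 (pos_of_ne_zero fun h0 => (coheight_eq_zero.1 h0).not_lt hlt)

theorem ringKrullDim_stalk [IrreducibleSpace X] (hd : topologicalKrullDim X = 1) {x : X}
    (hx : IsClosed ({x} : Set X)) : ringKrullDim (X.presheaf.stalk x) = 1 := by
  rw [ringKrullDim_stalk_eq_coheight, coheight_eq_one hd hx]
  rfl

theorem isDiscreteValuationRing_of_dim_one (R : Type u) [CommRing R] [IsDomain R] [IsNoetherianRing R]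
    [IsLocalRing R] [IsIntegrallyClosed R] (hdim : ringKrullDim R = 1) : IsDiscreteValuationRing R := by
  have hnf : ¬ IsField R := fun h => by
    rw [ringKrullDim_eq_zero_of_isField h] at hdim
    exact zero_ne_one hdim
  haveI : Ring.KrullDimLE 1 R := Ring.krullDimLE_iff.2 hdim.le
  have hmax : ∀ P : Ideal R, P ≠ ⊥ → P.IsPrime → P = IsLocalRing.maximalIdeal R := fun P h1 h2 =>
    IsLocalRing.eq_maximalIdeal (Ring.krullDimLE_one_iff_of_noZeroDivisors.mp ‹_› P h1 h2)
  have htfae : IsDiscreteValuationRing R ↔ IsIntegrallyClosed R ∧ ∃! P : Ideal R, P ≠ ⊥ ∧ P.IsPrime :=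
    (IsDiscreteValuationRing.TFAE R hnf).out 0 3
  refine htfae.2 ⟨inferInstance, ?_⟩
  refine ⟨IsLocalRing.maximalIdeal R, ⟨?_, inferInstance⟩, fun P hP => hmax P hP.1 hP.2⟩
  exact fun h => hnf (IsLocalRing.isField_iff_maximalIdeal_eq.2 h)

theorem isDiscreteValuationRing_stalk [IsIntegral X] [IsLocallyNoetherian X]
    (hd : topologicalKrullDim X = 1) {x : X} (hx : IsClosed ({x} : Set X))
    [IsIntegrallyClosed (X.presheaf.stalk x)] : IsDiscreteValuationRing (X.presheaf.stalk x) :=
  isDiscreteValuationRing_of_dim_one _ (ringKrullDim_stalk hd hx)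

theorem finite_of_isClosed [IrreducibleSpace X] [NoetherianSpace X] (hd : topologicalKrullDim X ≤ 1)
    {Z : Set X} (hZ : IsClosed Z) (hne : Z ≠ Set.univ) : Z.Finite := by
  obtain ⟨S, hfin, hclosed, hirr, hS⟩ :=
    NoetherianSpace.exists_finite_set_isClosed_irreducible hZ
  rw [hS]
  refine hfin.sUnion fun W hW => ?_
  obtain ⟨g, hg⟩ := QuasiSober.sober (hirr W hW) (hclosed W hW)
  have hgne : g ≠ genericPoint X := by
    rintro rfl
    apply hne
    rw [hS, Set.eq_univ_iff_forall]
    intro y
    refine ⟨W, hW, ?_⟩
    rw [← hg]
    exact specializes_iff_mem_closure.1 (genericPoint_specializes y)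
  rw [← hg.def, (isClosed_singleton hd hgne).closure_eq]
  exact Set.finite_singleton g

/-! ### Non-constant morphisms -/

theorem map_genericPoint [IrreducibleSpace X] [IrreducibleSpace Y] (hdY : topologicalKrullDim Y ≤ 1)
    (f : X ⟶ Y) (hnc : (Set.range f).Nontrivial) : f (genericPoint X) = genericPoint Y := by
  by_contra hne
  have hcl := isClosed_singleton hdY hne
  obtain ⟨a, ⟨x, rfl⟩, b, ⟨y, rfl⟩, hab⟩ := hnc
  have key : ∀ z, f z = f (genericPoint X) := fun z =>
    ((genericPoint_specializes z).map f.continuous).mem_closed hcl rfl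
  exact hab ((key x).trans (key y).symm)

theorem range_nontrivial [IrreducibleSpace X] [IrreducibleSpace Y] [JacobsonSpace Y]
    (hdX : topologicalKrullDim X ≤ 1) (hdY : topologicalKrullDim Y = 1)
    (f : X ⟶ Y) [LocallyOfFiniteType f] {x : X} (hx : IsClosed ({x} : Set X))
    (hf : f (genericPoint X) = genericPoint Y) : (Set.range f).Nontrivial := by
  refine ⟨_, ⟨x, rfl⟩, _, ⟨genericPoint X, rfl⟩, ?_⟩
  rw [hf]
  exact ne_genericPoint hdY (f.closePoints_subset_preimage_closedPoints hx)

theorem map_eq_genericPoint_iff [IrreducibleSpace X] [IrreducibleSpace Y] [JacobsonSpace Y]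
    (hdX : topologicalKrullDim X ≤ 1) (hdY : topologicalKrullDim Y = 1)
    (f : X ⟶ Y) [LocallyOfFiniteType f] (hf : f (genericPoint X) = genericPoint Y) (x : X) :
    f x = genericPoint Y ↔ x = genericPoint X := by
  refine ⟨fun h => ?_, fun h => h ▸ hf⟩
  by_contra hne
  exact ne_genericPoint hdY (f.closePoints_subset_preimage_closedPoints (isClosed_singleton hdX hne)) h

/-- A dominant morphism of curves has finite fibres. -/
theorem finite_preimage_singleton [IrreducibleSpace X] [NoetherianSpace X] [IrreducibleSpace Y] [JacobsonSpace Y]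
    (hdX : topologicalKrullDim X ≤ 1) (hdY : topologicalKrullDim Y = 1)
    (f : X ⟶ Y) [LocallyOfFiniteType f] (hf : f (genericPoint X) = genericPoint Y) (y : Y) :
    (f ⁻¹' {y}).Finite := by
  by_cases hy : y = genericPoint Y
  · subst hy
    refine (Set.finite_singleton (genericPoint X)).subset fun x hx => ?_
    exact (map_eq_genericPoint_iff hdX hdY f hf x).1 hx
  · refine finite_of_isClosed hdX ((isClosed_singleton hdY.le hy).preimage f.continuous) fun h => hy ?_
    have : genericPoint X ∈ f ⁻¹' {y} := by rw [h]; trivial
    exact this.symm.trans hf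

/-- The stalk maps of a dominant morphism of integral schemes are injective. -/
theorem stalkMap_injective [IsIntegral X] [IsIntegral Y] (f : X ⟶ Y)
    (hf : f (genericPoint X) = genericPoint Y) (x : X) : Function.Injective (f.stalkMap x) := by
  have h1 : genericPoint X ⤳ x := genericPoint_specializes x
  haveI : IrreducibleSpace Y := inferInstance
  let φ := Y.presheaf.stalkSpecializes (h1.map f.continuous) ≫ f.stalkMap (genericPoint X)
  have hφ : φ = f.stalkMap x ≫ X.presheaf.stalkSpecializes h1 :=
    Scheme.Hom.stalkSpecializes_stalkMap f (genericPoint X) x h1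
  have hinj : Function.Injective φ := by
    have hg : Function.Injective (Y.presheaf.stalkSpecializes (h1.map f.continuous)) := by
      have e : Y.presheaf.stalkSpecializes (h1.map f.continuous) =
          Y.presheaf.stalkSpecializes (genericPoint_specializes (f x)) ≫
            Y.presheaf.stalkSpecializes (specializes_of_eq hf) := by
        rw [TopCat.Presheaf.stalkSpecializes_comp]
      rw [e]
      intro a b hab
      rw [CommRingCat.comp_apply, CommRingCat.comp_apply] at hab
      have hiso : Function.Injective (Y.presheaf.stalkSpecializes (specializes_of_eq hf)) := by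
        intro a b hab
        have := congrArg (Y.presheaf.stalkSpecializes (specializes_of_eq hf.symm)) hab
        rwa [← CommRingCat.comp_apply, ← CommRingCat.comp_apply,
          TopCat.Presheaf.stalkSpecializes_comp, TopCat.Presheaf.stalkSpecializes_refl,
          CommRingCat.id_apply, CommRingCat.id_apply] at this
      exact IsFractionRing.injective (Y.presheaf.stalk (f x)) Y.functionField (hiso hab)
    haveI : Nontrivial (X.presheaf.stalk (genericPoint X)) := (inferInstance : Nontrivial X.functionField)
    have hstalk : Function.Injective (f.stalkMap (genericPoint X)) := by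
      have hF : IsField (Y.presheaf.stalk (f (genericPoint X))) := by
        rw [hf]; exact Field.toIsField Y.functionField
      letI := hF.toField
      exact (f.stalkMap (genericPoint X)).hom.injective
    exact fun a b hab => hg (hstalk hab)
  rw [hφ] at hinj
  exact fun a b hab => hinj (by rw [CommRingCat.comp_apply, CommRingCat.comp_apply, hab])

theorem flat_stalkMap_of_dvr [IsIntegral X] [IsIntegral Y] (f : X ⟶ Y)
    (hf : f (genericPoint X) = genericPoint Y) (x : X)
    (hd : IsPrincipalIdealRing (Y.presheaf.stalk (f x))) : (f.stalkMap x).hom.Flat := by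
  letI := (f.stalkMap x).hom.toAlgebra
  haveI : FaithfulSMul (Y.presheaf.stalk (f x)) (X.presheaf.stalk x) :=
    (faithfulSMul_iff_algebraMap_injective _ _).2 (stalkMap_injective f hf x)
  haveI : Module.IsTorsionFree (Y.presheaf.stalk (f x)) (X.presheaf.stalk x) := inferInstance
  exact (inferInstance : Module.Flat (Y.presheaf.stalk (f x)) (X.presheaf.stalk x))

end Groth.Agent.Curve17
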