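import Mathlib.AlgebraicGeometry.Morphisms.QuasiFinite
import Mathlib.AlgebraicGeometry.ZariskisMainTheorem
import Mathlib.AlgebraicGeometry.Morphisms.ClosedImmersion
import Mathlib.AlgebraicGeometry.Morphisms.FiniteType
import Mathlib.AlgebraicGeometry.AffineScheme
import Mathlib.RingTheory.Jacobson.Ring
import Mathlib.FieldTheory.IsAlgClosed.Basic
import Mathlib.Topology.JacobsonSpace

/-!
# A criterion for closed immersions over an algebraically closed field

A proper morphism that is injective on closed points and surjective on cotangent spaces at closed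
points is a closed immersion.
-/

set_option autoImplicit false
set_option linter.style.haveILetI false
universe u

open CategoryTheory AlgebraicGeometry IsLocalRing TopologicalSpace

namespace Groth.Agent.Curve17

variable {k : Type u} [Field k] [IsAlgClosed k]

/-- The affine case. -/
theorem surjective_of_cotangent {A B : Type u} [CommRing A] [CommRing B] [Algebra k A] [Algebra k B]
    [Algebra A B] [IsScalarTower k A B] [Algebra.FiniteType k A] [Module.Finite A B]
    (hinj : ∀ q₁ q₂ : Ideal B, q₁.IsMaximal → q₂.IsMaximal →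
      q₁.comap (algebraMap A B) = q₂.comap (algebraMap A B) → q₁ = q₂)
    (hT : ∀ q : Ideal B, q.IsMaximal →
      (q.comap (algebraMap A B)).map (algebraMap A B) ⊔ q ^ 2 = q) :
    Function.Surjective (algebraMap A B) := by
  haveI : Algebra.FiniteType k B := Algebra.FiniteType.trans (S := A) inferInstance inferInstance
  haveI : IsNoetherianRing A := Algebra.FiniteType.isNoetherianRing k A
  haveI : IsNoetherianRing B := Algebra.FiniteType.isNoetherianRing k B
  have hscal : ∀ (q : Ideal B), q.IsMaximal → ∀ b, ∃ c : k, b - algebraMap k B c ∈ q := by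
    intro q hq b
    letI := Ideal.Quotient.field q
    haveI : Module.Finite k (B ⧸ q) := finite_of_finite_type_of_isJacobsonRing k (B ⧸ q)
    obtain ⟨c, hc⟩ := (IsAlgClosed.algebraMap_bijective_of_isIntegral (k := k) (K := B ⧸ q)).2
      (Ideal.Quotient.mk q b)
    exact ⟨c, Ideal.Quotient.eq.1 hc.symm⟩
  -- modulo a maximal ideal of `A`, `B` is generated by the scalars
  have hmod : ∀ p : Ideal A, p.IsMaximal → ∀ b : B,
      ∃ a : A, b - algebraMap A B a ∈ p.map (algebraMap A B) := by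
    intro p hp b
    by_cases htop : p.map (algebraMap A B) = ⊤
    · exact ⟨0, by rw [htop]; trivial⟩
    obtain ⟨q, hq, hle⟩ := Ideal.exists_le_maximal _ htop
    have hover : ∀ q' : Ideal B, q'.IsMaximal → p.map (algebraMap A B) ≤ q' →
        q'.comap (algebraMap A B) = p := fun q' hq' hle' =>
      (hp.eq_of_le (Ideal.comap_ne_top _ hq'.ne_top) (Ideal.map_le_iff_le_comap.1 hle')).symm
    have huniq : ∀ q' : Ideal B, q'.IsMaximal → p.map (algebraMap A B) ≤ q' → q' = q :=
      fun q' hq' hle' => hinj q' q hq' hq ((hover q' hq' hle').trans (hover q hq hle).symm)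
    have hT' : p.map (algebraMap A B) ⊔ q ^ 2 = q := by
      have h := hT q hq; rwa [hover q hq hle] at h
    have hq0 : q ≤ p.map (algebraMap A B) := by
      let J : Ideal B := p.map (algebraMap A B)
      have hN : Submodule.map J.mkQ q ≤ q • Submodule.map J.mkQ q := by
        rw [← Submodule.map_smul'']
        intro x hx
        obtain ⟨y, hy, rfl⟩ := hx
        have hy' : y ∈ J ⊔ q ^ 2 := by rw [hT']; exact hy
        obtain ⟨j, hj, z, hz, rfl⟩ := Submodule.mem_sup.1 hy'
        refine ⟨z, by rw [smul_eq_mul, ← pow_two]; exact hz, ?_⟩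
        rw [map_add, (Submodule.Quotient.mk_eq_zero J).2 hj |> fun h => (show J.mkQ j = 0 from h), zero_add]
      obtain ⟨r, hr1, hr⟩ := Submodule.exists_sub_one_mem_and_smul_eq_zero_of_fg_of_le_smul q
        (Submodule.map J.mkQ q) ((IsNoetherian.noetherian q).map _) hN
      have hJr : J ⊔ Ideal.span {r} = ⊤ := by
        by_contra hJr
        obtain ⟨q', hq', hle'⟩ := Ideal.exists_le_maximal _ hJr
        rw [huniq q' hq' (le_trans le_sup_left hle'), sup_le_iff, Ideal.span_singleton_le_iff_mem] at hle'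
        exact hq.ne_top ((Ideal.eq_top_iff_one q).2 (by simpa using q.sub_mem hle'.2 hr1))
      intro y hy
      obtain ⟨j, hj, z, hz, hjz⟩ := Submodule.mem_sup.1 (hJr.ge (Submodule.mem_top (x := (1 : B))))
      obtain ⟨w, rfl⟩ := Ideal.mem_span_singleton'.1 hz
      have hry : r * y ∈ J := (Submodule.Quotient.mk_eq_zero J).1 (hr _ ⟨y, hy, rfl⟩)
      have hy' : y = j * y + w * (r * y) := by linear_combination (-y) * hjz
      rw [hy']
      exact J.add_mem (J.mul_mem_right _ hj) (J.mul_mem_left _ hry)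
    obtain ⟨c, hc⟩ := hscal q hq b
    exact ⟨algebraMap k A c, hq0 (by rwa [← IsScalarTower.algebraMap_apply])⟩
  let R := LinearMap.range (Algebra.linearMap A B)
  have htop : Module.annihilator A (B ⧸ R) = ⊤ := by
    by_contra hne
    obtain ⟨p, hp, hle⟩ := Ideal.exists_le_maximal _ hne
    have hsm : (⊤ : Submodule A (B ⧸ R)) ≤ p • ⊤ := by
      intro x _
      obtain ⟨b, rfl⟩ := R.mkQ_surjective x
      obtain ⟨a, ha⟩ := hmod p hp b
      have h1 : R.mkQ b = R.mkQ (b - algebraMap A B a) := by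
        rw [map_sub, (Submodule.Quotient.mk_eq_zero R).2 ⟨a, rfl⟩ |> fun h => (show R.mkQ (algebraMap A B a) = 0 from h), sub_zero]
      rw [h1, ← Submodule.range_mkQ R, ← Submodule.map_top, ← Submodule.map_smul'', Ideal.smul_top_eq_map]
      exact ⟨_, ha, rfl⟩
    obtain ⟨r, hr1, hr⟩ := Submodule.exists_sub_one_mem_and_smul_eq_zero_of_fg_of_le_smul p
      (⊤ : Submodule A (B ⧸ R)) Module.Finite.fg_top hsm
    have hrp : r ∈ p := hle (Module.mem_annihilator.2 fun m => hr m trivial)
    exact hp.ne_top ((Ideal.eq_top_iff_one p).2 (by simpa using p.sub_mem hrp hr1))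
  intro b
  have h1 : (1 : A) • R.mkQ b = 0 := Module.mem_annihilator.1 (htop ▸ Submodule.mem_top) _
  rw [one_smul] at h1
  exact (Submodule.Quotient.mk_eq_zero R).1 h1

omit [IsAlgClosed k] in
/-- A morphism that is injective on closed points, proper, between schemes of finite type is finite. -/
theorem isFinite_of_injOn_closedPoints {X Y : Scheme.{u}} (f : X ⟶ Y) [IsProper f]
    (q : Y ⟶ Spec (CommRingCat.of k)) [LocallyOfFiniteType q]
    (hinj : Set.InjOn f {x : X | IsClosed ({x} : Set X)}) : IsFinite f := by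
  haveI : JacobsonSpace X := LocallyOfFiniteType.jacobsonSpace (f ≫ q)
  haveI : LocallyQuasiFinite f := by
    rw [← Scheme.Hom.quasiFiniteLocus_eq_top_iff, ← top_le_iff]
    intro x _
    by_contra hx
    obtain ⟨y, hy, hyc⟩ := nonempty_inter_closedPoints (Z := ((f.quasiFiniteLocus : Set X))ᶜ)
      ⟨x, hx⟩ f.quasiFiniteLocus.2.isClosed_compl.isLocallyClosed
    rw [mem_closedPoints_iff] at hyc
    refine hy ?_
    rw [SetLike.mem_coe, Scheme.Hom.mem_quasiFiniteLocus, Scheme.Hom.quasiFiniteAt_iff_isOpen_singleton_asFiber]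
    have hfy : IsClosed ({f y} : Set Y) := by
      simpa [Set.image_singleton] using f.isClosedMap _ hyc
    have hpre : f ⁻¹' {f y} ⊆ {y} := by
      intro z hz
      by_contra hzy
      obtain ⟨w, ⟨hw1, hw2⟩, hwc⟩ := nonempty_inter_closedPoints (Z := f ⁻¹' {f y} ∩ {y}ᶜ)
        ⟨z, hz, hzy⟩ ((hfy.preimage f.continuous).isLocallyClosed.inter hyc.isOpen_compl.isLocallyClosed)
      rw [mem_closedPoints_iff] at hwc
      exact hw2 (hinj hwc hyc hw1)
    haveI : Subsingleton (f.fiber (f y)) := ⟨fun a b => (f.fiberHomeo (f y)).injective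
      (Subtype.ext ((hpre (f.fiberHomeo (f y) a).2).trans (hpre (f.fiberHomeo (f y) b).2).symm))⟩
    exact isOpen_discrete _
  exact IsFinite.of_isProper_of_locallyQuasiFinite f

omit [IsAlgClosed k] in
theorem sup_sq_eq_of_stalk {B S : Type u} [CommRing B] [CommRing S] [IsLocalRing S] [Algebra B S]
    (q : Ideal B) [q.IsMaximal] [IsLocalization.AtPrime S q] (J : Ideal B) (hJ : J ≤ q)
    (h : J.map (algebraMap B S) ⊔ maximalIdeal S ^ 2 = maximalIdeal S) : J ⊔ q ^ 2 = q := by
  refine le_antisymm (sup_le hJ (Ideal.pow_le_self two_ne_zero)) fun y hy => ?_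
  have hy' : algebraMap B S y ∈ (J ⊔ q ^ 2).map (algebraMap B S) := by
    rw [Ideal.map_sup, Ideal.map_pow, IsLocalization.AtPrime.map_eq_maximalIdeal q S, h]
    rw [← IsLocalization.AtPrime.map_eq_maximalIdeal q S]
    exact Ideal.mem_map_of_mem _ hy
  obtain ⟨s, hs, hsy⟩ := (IsLocalization.algebraMap_mem_map_algebraMap_iff q.primeCompl S _ _).1 hy'
  obtain ⟨t, w, hw, htw⟩ := (‹q.IsMaximal›).exists_inv hs
  have : y = t * (s * y) + w * y := by linear_combination (-y) * htw
  rw [this]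
  refine add_mem (Ideal.mul_mem_left _ _ hsy) (Ideal.mem_sup_right ?_)
  rw [pow_two]
  exact Ideal.mul_mem_mul hw hy

/-- Proper, injective on closed points and surjective on cotangent spaces at closed points implies
closed immersion. -/
theorem isClosedImmersion_of_cotangent {X Y : Scheme.{u}} (f : X ⟶ Y) [IsProper f]
    (q : Y ⟶ Spec (CommRingCat.of k)) [LocallyOfFiniteType q]
    (hinj : Set.InjOn f {x : X | IsClosed ({x} : Set X)})
    (hT : ∀ x : X, IsClosed ({x} : Set X) →
      Ideal.map (f.stalkMap x).hom (maximalIdeal (Y.presheaf.stalk (f x))) ⊔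
        maximalIdeal (X.presheaf.stalk x) ^ 2 = maximalIdeal (X.presheaf.stalk x)) :
    IsClosedImmersion f := by
  haveI := isFinite_of_injOn_closedPoints f q hinj
  haveI : JacobsonSpace X := LocallyOfFiniteType.jacobsonSpace (f ≫ q)
  rw [isClosedImmersion_iff_isAffineHom]
  refine ⟨inferInstance, fun U hU => ?_⟩
  have hV : IsAffineOpen (f ⁻¹ᵁ U) := hU.preimage f
  let φ : k →+* Γ(Y, U) := ((Scheme.ΓSpecIso (CommRingCat.of k)).inv ≫ q.appLE ⊤ U le_top).hom
  have hφ : φ.FiniteType := RingHom.FiniteType.comp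
    (q.finiteType_appLE (isAffineOpen_top (Spec (CommRingCat.of k))) hU le_top)
    (RingHom.FiniteType.of_surjective _
      (ConcreteCategory.bijective_of_isIso (Scheme.ΓSpecIso (CommRingCat.of k)).inv).2)
  letI := φ.toAlgebra
  haveI : Algebra.FiniteType k Γ(Y, U) := hφ
  letI := (f.app U).hom.toAlgebra
  letI : Algebra k Γ(X, f ⁻¹ᵁ U) := ((f.app U).hom.comp φ).toAlgebra
  haveI : IsScalarTower k Γ(Y, U) Γ(X, f ⁻¹ᵁ U) := IsScalarTower.of_algebraMap_eq' rfl
  haveI : Module.Finite Γ(Y, U) Γ(X, f ⁻¹ᵁ U) := IsFinite.finite_app (f := f) U hU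
  -- maximal ideals correspond to closed points
  have hpt : ∀ (m : Ideal Γ(X, f ⁻¹ᵁ U)), m.IsMaximal → ∃ (x : X) (hx : x ∈ f ⁻¹ᵁ U),
      IsClosed ({x} : Set X) ∧ (hV.primeIdealOf ⟨x, hx⟩).asIdeal = m := by
    intro m hm
    let P : PrimeSpectrum Γ(X, f ⁻¹ᵁ U) := ⟨m, hm.isPrime⟩
    have hxU : hV.fromSpec P ∈ f ⁻¹ᵁ U := by
      rw [← SetLike.mem_coe, ← hV.range_fromSpec]; exact ⟨P, rfl⟩
    refine ⟨hV.fromSpec P, hxU, ?_, ?_⟩
    · have h1 : P ∈ closedPoints (PrimeSpectrum Γ(X, f ⁻¹ᵁ U)) :=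
        mem_closedPoints_iff.2 ((PrimeSpectrum.isClosed_singleton_iff_isMaximal _).2 hm)
      have h2 : P ∈ hV.fromSpec ⁻¹' closedPoints X := hV.fromSpec.isOpenEmbedding.preimage_closedPoints ▸ h1
      exact mem_closedPoints_iff.1 h2
    · exact congrArg PrimeSpectrum.asIdeal (hV.fromSpec.isOpenEmbedding.injective
        (hV.fromSpec_primeIdealOf ⟨_, hxU⟩))
  have hcomap : ∀ (x : X) (hx : x ∈ f ⁻¹ᵁ U),
      (hV.primeIdealOf ⟨x, hx⟩).asIdeal.comap (algebraMap Γ(Y, U) Γ(X, f ⁻¹ᵁ U)) =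
        (hU.primeIdealOf ⟨f x, hx⟩).asIdeal := by
    intro x hx
    letI := Y.presheaf.algebra_section_stalk (U := U) ⟨f x, hx⟩
    letI := X.presheaf.algebra_section_stalk (U := f ⁻¹ᵁ U) ⟨x, hx⟩
    haveI := hU.isLocalization_stalk ⟨f x, hx⟩
    haveI := hV.isLocalization_stalk ⟨x, hx⟩
    rw [← IsLocalization.AtPrime.comap_maximalIdeal (X.presheaf.stalk x) (hV.primeIdealOf ⟨x, hx⟩).asIdeal,
      ← IsLocalization.AtPrime.comap_maximalIdeal (Y.presheaf.stalk (f x)) (hU.primeIdealOf ⟨f x, hx⟩).asIdeal]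
    ext a
    simp only [Ideal.mem_comap, IsLocalRing.mem_maximalIdeal, mem_nonunits_iff]
    refine not_congr ?_
    change IsUnit (X.presheaf.germ (f ⁻¹ᵁ U) x hx (f.app U a)) ↔ IsUnit (Y.presheaf.germ U (f x) hx a)
    erw [← Scheme.Hom.germ_stalkMap_apply f U x hx a]
    exact isUnit_map_iff (f.stalkMap x).hom _
  refine surjective_of_cotangent (k := k) (A := Γ(Y, U)) (B := Γ(X, f ⁻¹ᵁ U)) ?_ ?_
  · intro q₁ q₂ h₁ h₂ he
    obtain ⟨x₁, hx₁, hc₁, e₁⟩ := hpt q₁ h₁
    obtain ⟨x₂, hx₂, hc₂, e₂⟩ := hpt q₂ h₂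
    subst e₁ e₂
    rw [hcomap, hcomap] at he
    have hf : f x₁ = f x₂ := by
      have h := congrArg hU.fromSpec (PrimeSpectrum.ext he)
      rwa [hU.fromSpec_primeIdealOf, hU.fromSpec_primeIdealOf] at h
    obtain rfl := hinj hc₁ hc₂ hf
    rfl
  · intro m hm
    obtain ⟨x, hx, hc, e⟩ := hpt m hm
    subst e
    letI := Y.presheaf.algebra_section_stalk (U := U) ⟨f x, hx⟩
    letI := X.presheaf.algebra_section_stalk (U := f ⁻¹ᵁ U) ⟨x, hx⟩
    haveI := hU.isLocalization_stalk ⟨f x, hx⟩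
    haveI := hV.isLocalization_stalk ⟨x, hx⟩
    haveI := hm
    refine sup_sq_eq_of_stalk (S := X.presheaf.stalk x) _ _ Ideal.map_comap_le ?_
    have hsq : (algebraMap Γ(X, f ⁻¹ᵁ U) (X.presheaf.stalk x)).comp (algebraMap Γ(Y, U) Γ(X, f ⁻¹ᵁ U)) =
        (f.stalkMap x).hom.comp (algebraMap Γ(Y, U) (Y.presheaf.stalk (f x))) := by
      ext a
      exact (Scheme.Hom.germ_stalkMap_apply f U x hx a).symm
    rw [Ideal.map_map, hsq, ← Ideal.map_map, hcomap x hx,
      IsLocalization.AtPrime.map_eq_maximalIdeal _ (Y.presheaf.stalk (f x))]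
    exact hT x hc

end Groth.Agent.Curve17
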