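import Groth.Agent.Lib.Curve17.Birat
import Groth.Agent.Lib.VarDim.Irred
import Groth.Agent.S7830
import Mathlib.AlgebraicGeometry.Birational.RationalMap
import Mathlib.AlgebraicGeometry.ValuativeCriterion
import Mathlib.AlgebraicGeometry.Morphisms.Separated

/-!
# Normal curves are determined by their function fields
-/

set_option autoImplicit false
set_option linter.style.haveILetI false
universe u

open CategoryTheory CategoryTheory.Limits AlgebraicGeometry TopologicalSpace

namespace Groth.Agent.Curve17

variable {k : Type u} [Field k]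

/-- The structure map from the base field to the local ring at a point. -/
noncomputable def baseStalk {X : Scheme.{u}} (p : X ⟶ Spec (CommRingCat.of k)) (x : X) :
    CommRingCat.of k ⟶ X.presheaf.stalk x :=
  (Scheme.ΓSpecIso (CommRingCat.of k)).inv ≫ p.appTop ≫ X.presheaf.germ ⊤ x trivial

theorem SpecMap_baseStalk {X : Scheme.{u}} (p : X ⟶ Spec (CommRingCat.of k)) (x : X) :
    Spec.map (baseStalk p x) = X.fromSpecStalk x ≫ p := by
  apply ext_of_isAffine
  rw [Scheme.Hom.comp_appTop, Scheme.fromSpecStalk_appTop, baseStalk]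
  rw [← cancel_mono (Scheme.ΓSpecIso (X.presheaf.stalk x)).hom, Scheme.ΓSpecIso_naturality]
  simp

theorem stalkMap_baseStalk {X Y : Scheme.{u}} (pX : X ⟶ Spec (CommRingCat.of k))
    (pY : Y ⟶ Spec (CommRingCat.of k)) (f : X ⟶ Y) (w : f ≫ pY = pX) (x : X) :
    baseStalk pY (f x) ≫ f.stalkMap x = baseStalk pX x := by
  apply Spec.map_injective
  rw [Spec.map_comp, SpecMap_baseStalk, SpecMap_baseStalk, Scheme.SpecMap_stalkMap_fromSpecStalk_assoc, w]

theorem genMap_baseStalk {X Y : Scheme.{u}} [IrreducibleSpace X] [IrreducibleSpace Y]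
    (pX : X ⟶ Spec (CommRingCat.of k)) (pY : Y ⟶ Spec (CommRingCat.of k)) (f : X ⟶ Y) (w : f ≫ pY = pX)
    (e : f (genericPoint X) = genericPoint Y) :
    baseStalk pY (genericPoint Y) ≫ genMap f e = baseStalk pX (genericPoint X) := by
  apply Spec.map_injective
  rw [Spec.map_comp, SpecMap_baseStalk, SpecMap_baseStalk, genMap, Spec.map_comp, Category.assoc,
    Scheme.SpecMap_stalkSpecializes_fromSpecStalk_assoc, Scheme.SpecMap_stalkMap_fromSpecStalk_assoc, w]

variable {Y Z : Scheme.{u}} [IsIntegral Y] [IsIntegral Z]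
  (pY : Y ⟶ Spec (CommRingCat.of k)) (pZ : Z ⟶ Spec (CommRingCat.of k))

omit [IsIntegral Z] in
/-- A morphism from the function field of a normal curve to a proper scheme extends to the curve. -/
theorem exists_hom_of_spec [LocallyOfFiniteType pY]
    (hv : ∀ y : Y, ValuationRing (Y.presheaf.stalk y)) [IsProper pZ]
    (φ : Spec Y.functionField ⟶ Z) (hφ : φ ≫ pZ = Y.fromSpecStalk (genericPoint Y) ≫ pY) :
    ∃ h : Y ⟶ Z, h ≫ pZ = pY ∧ Y.fromSpecStalk (genericPoint Y) ≫ h = φ := by
  haveI : Z.IsSeparated := ⟨by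
    rw [← terminal.comp_from pZ]; infer_instance⟩
  let F : Y ⤏ Z := Scheme.RationalMap.ofFunctionField pY pZ φ hφ
  have hdom : F.domain = ⊤ := by
    refine top_le_iff.1 fun y _ => ?_
    rw [Scheme.RationalMap.mem_domain]
    haveI := hv y
    have hsq : CommSq φ (Spec.map (CommRingCat.ofHom (algebraMap (Y.presheaf.stalk y) Y.functionField))) pZ
        (Y.fromSpecStalk y ≫ pY) := ⟨by
      change φ ≫ pZ = Spec.map (Y.presheaf.stalkSpecializes (genericPoint_specializes y)) ≫ Y.fromSpecStalk y ≫ pY
      rw [hφ, Scheme.SpecMap_stalkSpecializes_fromSpecStalk_assoc]⟩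
    have hP : (ValuativeCriterion ⊓ @QuasiCompact ⊓ @QuasiSeparated ⊓ @LocallyOfFiniteType) pZ := by
      rw [← IsProper.eq_valuativeCriterion]; infer_instance
    obtain ⟨⟨ψ, hψ1, hψ2⟩⟩ := (hP.1.1.1.existence
      ({ R := Y.presheaf.stalk y, domain := (by infer_instance : IsDomain (Y.presheaf.stalk y)),
         valuationRing := (by infer_instance : ValuationRing (Y.presheaf.stalk y)),
         K := Y.functionField, field := (by infer_instance : Field Y.functionField),
         algebra := (by infer_instance : Algebra (Y.presheaf.stalk y) Y.functionField),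
         isFractionRing := (by infer_instance : IsFractionRing (Y.presheaf.stalk y) Y.functionField),
         i₁ := φ, i₂ := Y.fromSpecStalk y ≫ pY, commSq := hsq } : ValuativeCommSq pZ)).exists_lift
    refine ⟨Scheme.PartialMap.ofFromSpecStalk pY pZ ψ hψ2,
      Scheme.PartialMap.mem_domain_ofFromSpecStalk pY pZ ψ hψ2,
      Scheme.RationalMap.eq_of_fromFunctionField_eq _ _ ?_⟩
    rw [Scheme.RationalMap.fromFunctionField_ofFunctionField, Scheme.RationalMap.fromFunctionField_toRationalMap]
    set g := Scheme.PartialMap.ofFromSpecStalk pY pZ ψ hψ2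
    have hy := Scheme.PartialMap.mem_domain_ofFromSpecStalk pY pZ ψ hψ2
    have hg := Scheme.PartialMap.fromSpecStalkOfMem_ofFromSpecStalk pY pZ ψ hψ2
    refine Eq.trans ?_ ((congrArg (fun t => Spec.map (Y.presheaf.stalkSpecializes (genericPoint_specializes y)) ≫ t) hg).trans hψ1)
    change g.domain.fromSpecStalkOfMem (genericPoint Y) _ ≫ g.hom =
      Spec.map (Y.presheaf.stalkSpecializes (genericPoint_specializes y)) ≫
        g.domain.fromSpecStalkOfMem y hy ≫ g.hom
    rw [← Category.assoc]
    congr 1
    rw [← cancel_mono g.domain.ι]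
    simp
  have hFdom : F.toPartialMap.domain = ⊤ := hdom
  let h : Y ⟶ Z := (Scheme.topIso Y).inv ≫ (Y.isoOfEq hFdom).inv ≫ F.toPartialMap.hom
  have hgen : Y.fromSpecStalk (genericPoint Y) ≫ h = φ := by
    have h1 : F.toPartialMap.toRationalMap.fromFunctionField = φ := by
      rw [Scheme.RationalMap.toRationalMap_toPartialMap, Scheme.RationalMap.fromFunctionField_ofFunctionField]
    rw [Scheme.RationalMap.fromFunctionField_toRationalMap] at h1
    rw [← h1]
    change _ = F.toPartialMap.domain.fromSpecStalkOfMem _ _ ≫ F.toPartialMap.hom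
    simp only [h, ← Category.assoc]
    congr 1
    rw [← cancel_mono F.toPartialMap.domain.ι]
    simp
  refine ⟨h, ?_, hgen⟩
  haveI : IsDominant (Y.fromSpecStalk (genericPoint Y)) := by
    refine ⟨fun y => ?_⟩
    refine closure_mono (s := {genericPoint Y}) (t := Set.range (Y.fromSpecStalk (genericPoint Y))) ?_
      (specializes_iff_mem_closure.1 (genericPoint_specializes y))
    rintro _ rfl
    exact ⟨_, Scheme.fromSpecStalk_closedPoint⟩
  refine ext_of_isDominant_of_isSeparated (terminal.from _) (terminal.hom_ext _ _)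
    (Y.fromSpecStalk (genericPoint Y)) ?_
  rw [← Category.assoc, hgen, hφ]

/-- A map of function fields over `k` comes from a morphism of curves. -/
theorem exists_hom_of_functionField [LocallyOfFiniteType pY]
    (hv : ∀ y : Y, ValuationRing (Y.presheaf.stalk y)) [IsProper pZ]
    (θ : Z.functionField ⟶ Y.functionField)
    (hθ : baseStalk pZ (genericPoint Z) ≫ θ = baseStalk pY (genericPoint Y)) :
    ∃ (h : Y ⟶ Z) (e : h (genericPoint Y) = genericPoint Z), h ≫ pZ = pY ∧ genMap h e = θ := by
  obtain ⟨h, hh, hgen⟩ := exists_hom_of_spec pY pZ hv (Spec.map θ ≫ Z.fromSpecStalk (genericPoint Z)) (by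
    rw [Category.assoc, ← SpecMap_baseStalk, ← Spec.map_comp, hθ, SpecMap_baseStalk])
  have e : h (genericPoint Y) = genericPoint Z := by
    have h1 := congrArg (fun g => g (IsLocalRing.closedPoint Y.functionField)) hgen
    rw [show h (genericPoint Y) = h (Y.fromSpecStalk (genericPoint Y) (IsLocalRing.closedPoint _)) from
      (congrArg h Scheme.fromSpecStalk_closedPoint).symm]
    refine h1.trans ?_
    haveI : IsLocalHom θ.hom := ⟨fun a ha => isUnit_iff_ne_zero.2 fun h0 => by simp [h0] at ha⟩
    exact (congrArg (Z.fromSpecStalk (genericPoint Z)) (IsLocalRing.comap_closedPoint θ.hom)).trans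
      Scheme.fromSpecStalk_closedPoint
  refine ⟨h, e, hh, Spec.map_injective ?_⟩
  rw [← cancel_mono (Z.fromSpecStalk (genericPoint Z)), ← hgen, genMap, Spec.map_comp, Category.assoc,
    Scheme.SpecMap_stalkSpecializes_fromSpecStalk, Scheme.SpecMap_stalkMap_fromSpecStalk]

theorem valuationRing_stalk_of_normal [LocallyOfFiniteType pY] (hdY : topologicalKrullDim Y = 1)
    (hN : ∀ y : Y, IsIntegrallyClosed (Y.presheaf.stalk y)) (y : Y) :
    ValuationRing (Y.presheaf.stalk y) := by
  haveI : IsLocallyNoetherian Y := LocallyOfFiniteType.isLocallyNoetherian pY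
  by_cases hy : y = genericPoint Y
  · subst hy
    letI : Field (Y.presheaf.stalk (genericPoint Y)) := inferInstanceAs (Field Y.functionField)
    infer_instance
  · haveI := hN y
    haveI := isDiscreteValuationRing_stalk hdY (isClosed_singleton hdY.le hy)
    infer_instance

/-- Proper normal curves with isomorphic function fields are isomorphic. -/
theorem exists_iso_of_functionField [IsProper pY] [IsProper pZ] (hdY : topologicalKrullDim Y = 1)
    (hdZ : topologicalKrullDim Z = 1) (hnY : Pi1.IsNormalScheme Y) (hnZ : Pi1.IsNormalScheme Z)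
    (θ : Z.functionField ⟶ Y.functionField) (hbij : Function.Bijective θ)
    (hθ : baseStalk pZ (genericPoint Z) ≫ θ = baseStalk pY (genericPoint Y)) :
    ∃ (i : Y ≅ Z), i.hom ≫ pZ = pY := by
  obtain ⟨h, e, hh, hg⟩ := exists_hom_of_functionField pY pZ
    (valuationRing_stalk_of_normal pY hdY fun y => (hnY y).2) θ hθ
  haveI hiso : IsIso (genMap h e) := by
    rw [hg, ConcreteCategory.isIso_iff_bijective]; exact hbij
  haveI : IsIso (h.stalkMap (genericPoint Y)) := by
    haveI : IsIso (Z.presheaf.stalkSpecializes (specializes_of_eq e)) :=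
      ⟨Z.presheaf.stalkSpecializes (specializes_of_eq e.symm), by simp, by simp⟩
    haveI : IsIso (Z.presheaf.stalkSpecializes (specializes_of_eq e) ≫ h.stalkMap (genericPoint Y)) := hiso
    exact IsIso.of_isIso_comp_left (Z.presheaf.stalkSpecializes (specializes_of_eq e)) _
  haveI : IsIso h := Groth.Agent.S7830.result k pY pZ hdY hdZ hnZ h hh e inferInstance
  exact ⟨asIso h, hh⟩

end Groth.Agent.Curve17
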