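import Groth.Agent.Lib.Twist.UniversalExist
import Groth.Agent.Lib.Curve17.ClosedImm
import Groth.Agent.Lib.Curve17.FunctionField
import Groth.Agent.Lib.VarDim.Scheme
import Groth.Agent.Lib.RegSmooth17.Scheme
import Groth.Agent.Lib.ProjSpace.Basic

/-!
# Morphisms to projective space separating points and tangent vectors
-/

set_option autoImplicit false
set_option linter.style.haveILetI false
universe u

open CategoryTheory CategoryTheory.Limits AlgebraicGeometry IsLocalRing TopologicalSpace Opposite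

namespace Groth.Agent.Curve17

open Groth.Agent.M1 Groth.Agent.Twist

variable {k : Type u} [Field k] {n : ℕ}

theorem X_mem (i : Fin (n + 1)) :
    (MvPolynomial.X i : MvPolynomial (Fin (n + 1)) k) ∈ CohB1.polyGrading n k 1 :=
  MvPolynomial.isHomogeneous_X k i

/-- The linear form with given coefficients. -/
noncomputable def linForm (c : Fin (n + 1) → k) : MvPolynomial (Fin (n + 1)) k :=
  ∑ j, MvPolynomial.C (c j) * MvPolynomial.X j

theorem linForm_mem (c : Fin (n + 1) → k) : linForm c ∈ CohB1.polyGrading n k 1 :=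
  Submodule.sum_mem _ fun j _ => (MvPolynomial.isHomogeneous_X k j).C_mul (c j)

theorem exists_linForm_eq (i j : Fin (n + 1)) (a : k) :
    ∃ c : Fin (n + 1) → k, linForm c = MvPolynomial.X j - MvPolynomial.C a * MvPolynomial.X i := by
  refine ⟨fun l => (if l = j then 1 else 0) - a * (if l = i then 1 else 0), ?_⟩
  simp only [linForm, map_sub, sub_mul, Finset.sum_sub_distrib, apply_ite MvPolynomial.C, map_one,
    map_zero, ite_mul, one_mul, zero_mul, mul_ite, mul_one, mul_zero, Finset.sum_ite_eq', Finset.mem_univ, if_true]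

theorem aeval_C_mul_X_of_isHomogeneous {σ : Type*} (i : σ) (a : σ → k) {F : MvPolynomial σ k} {d : ℕ}
    (hF : F.IsHomogeneous d) :
    MvPolynomial.aeval (fun j => MvPolynomial.C (a j) * (MvPolynomial.X i : MvPolynomial σ k)) F =
      MvPolynomial.C (MvPolynomial.eval a F) * MvPolynomial.X i ^ d := by
  rw [MvPolynomial.aeval_def, MvPolynomial.eval₂_eq, MvPolynomial.eval_eq, map_sum, Finset.sum_mul]
  refine Finset.sum_congr rfl fun m hm => ?_
  have hd : ∑ j ∈ m.support, m j = d := by
    have h := hF (MvPolynomial.mem_support_iff.1 hm)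
    simpa [Finsupp.weight_apply, Finsupp.sum] using h
  simp only [MvPolynomial.algebraMap_eq, mul_pow, Finset.prod_mul_distrib, Finset.prod_pow_eq_pow_sum, hd,
    ← map_pow, ← map_prod, map_mul]
  ring

/-- The homogeneous prime of a rational point of projective space. -/
theorem mem_iff_eval_eq_zero (x : ProjectiveSpectrum (CohB1.polyGrading n k)) (i : Fin (n + 1))
    (hi : MvPolynomial.X i ∉ x.asHomogeneousIdeal.toIdeal) (a : Fin (n + 1) → k)
    (ha : ∀ j, MvPolynomial.X j - MvPolynomial.C (a j) * MvPolynomial.X i ∈ x.asHomogeneousIdeal.toIdeal)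
    {F : MvPolynomial (Fin (n + 1)) k} {d : ℕ} (hF : F.IsHomogeneous d) :
    F ∈ x.asHomogeneousIdeal.toIdeal ↔ MvPolynomial.eval a F = 0 := by
  haveI := x.isPrime
  let p := x.asHomogeneousIdeal.toIdeal
  have h : (Ideal.Quotient.mkₐ k p).comp
      (MvPolynomial.aeval (fun j => MvPolynomial.C (a j) * (MvPolynomial.X i : MvPolynomial (Fin (n + 1)) k))) =
      Ideal.Quotient.mkₐ k p := MvPolynomial.algHom_ext fun j => by
    rw [AlgHom.comp_apply, MvPolynomial.aeval_X]
    exact (Ideal.Quotient.eq.2 (ha j)).symm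
  have h1 := AlgHom.congr_fun h F
  rw [AlgHom.comp_apply, aeval_C_mul_X_of_isHomogeneous i a hF] at h1
  replace h1 : MvPolynomial.C (MvPolynomial.eval a F) * MvPolynomial.X i ^ d - F ∈ p := Ideal.Quotient.eq.1 h1
  constructor
  · intro hFp
    by_contra h0
    have h2 := add_mem h1 hFp
    rw [sub_add_cancel] at h2
    rcases (x.isPrime.mem_or_mem h2) with h3 | h3
    · exact x.isPrime.ne_top (Ideal.eq_top_of_isUnit_mem _ h3 ((isUnit_iff_ne_zero.2 h0).map MvPolynomial.C))
    · exact hi (x.isPrime.mem_of_pow_mem d h3)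
  · intro h0
    rw [h0, map_zero, zero_mul, zero_sub] at h1
    exact neg_mem_iff.1 h1

variable {X : Scheme.{u}}

theorem exists_X_notMem (x : Proj (CohB1.polyGrading n k)) :
    ∃ i, (MvPolynomial.X i : MvPolynomial (Fin (n + 1)) k) ∉ x.asHomogeneousIdeal.toIdeal := by
  have hgen0 : Algebra.adjoin (CohB1.polyGrading n k 0)
      (Set.range (MvPolynomial.X : Fin (n + 1) → MvPolynomial (Fin (n + 1)) k)) = ⊤ := top_le_iff.1 fun z _ => by
    induction z using MvPolynomial.induction_on with
    | C c =>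
      exact Subalgebra.algebraMap_mem _ (⟨MvPolynomial.C c, MvPolynomial.isHomogeneous_C _ c⟩ :
        CohB1.polyGrading n k 0)
    | add a b ha hb => exact add_mem (ha trivial) (hb trivial)
    | mul_X a j ha => exact mul_mem (ha trivial) (Algebra.subset_adjoin ⟨j, rfl⟩)
  have hx : x ∈ (⨆ i, Proj.basicOpen (CohB1.polyGrading n k) (MvPolynomial.X i : MvPolynomial (Fin (n + 1)) k)) := by
    rw [Proj.iSup_basicOpen_eq_top' (CohB1.polyGrading n k) _ (fun i => ⟨1, X_mem i⟩) hgen0]; trivial
  obtain ⟨i, hi⟩ := Opens.mem_iSup.1 hx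
  exact ⟨i, (Proj.mem_basicOpen _ _ _).1 hi⟩

/-- Two points with the same coordinate ratios are equal. -/
theorem eq_of_forall_mem (x y : ProjectiveSpectrum (CohB1.polyGrading n k)) (i : Fin (n + 1))
    (hi : MvPolynomial.X i ∉ x.asHomogeneousIdeal.toIdeal) (a : Fin (n + 1) → k)
    (hx : ∀ j, MvPolynomial.X j - MvPolynomial.C (a j) * MvPolynomial.X i ∈ x.asHomogeneousIdeal.toIdeal)
    (hy : ∀ j, MvPolynomial.X j - MvPolynomial.C (a j) * MvPolynomial.X i ∈ y.asHomogeneousIdeal.toIdeal) :
    x = y := by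
  have hiy : MvPolynomial.X i ∉ y.asHomogeneousIdeal.toIdeal := fun h => by
    obtain ⟨j, hj⟩ := exists_X_notMem y
    exact hj (by simpa using add_mem (hy j) (Ideal.mul_mem_left _ (MvPolynomial.C (a j)) h))
  have key : ∀ (z : ProjectiveSpectrum (CohB1.polyGrading n k)) (F : MvPolynomial (Fin (n + 1)) k) (d : ℕ),
      F ∈ z.asHomogeneousIdeal.toIdeal → MvPolynomial.homogeneousComponent d F ∈ z.asHomogeneousIdeal.toIdeal := by
    intro z F d hF
    rw [← MvPolynomial.decomposition.decompose'_apply]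
    exact z.asHomogeneousIdeal.isHomogeneous d hF
  refine ProjectiveSpectrum.ext (HomogeneousIdeal.toIdeal_injective (le_antisymm ?_ ?_))
  · intro F hF
    rw [← MvPolynomial.sum_homogeneousComponent F]
    exact sum_mem fun d _ => (mem_iff_eval_eq_zero y i hiy a hy
      (MvPolynomial.homogeneousComponent_isHomogeneous d F)).2 ((mem_iff_eval_eq_zero x i hi a hx
      (MvPolynomial.homogeneousComponent_isHomogeneous d F)).1 (key x F d hF))
  · intro F hF
    rw [← MvPolynomial.sum_homogeneousComponent F]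
    exact sum_mem fun d _ => (mem_iff_eval_eq_zero x i hi a hx
      (MvPolynomial.homogeneousComponent_isHomogeneous d F)).2 ((mem_iff_eval_eq_zero y i hiy a hy
      (MvPolynomial.homogeneousComponent_isHomogeneous d F)).1 (key y F d hF))

section local_ring

variable (pX : X ⟶ Spec (CommRingCat.of k)) (f : X ⟶ Proj (CohB1.polyGrading n k))

/-- Homogeneous polynomials evaluated in the local ring at `P`, dehomogenised at `X i`. -/
noncomputable def evAt (i : Fin (n + 1)) (P : X)
    (hP : P ∈ f ⁻¹ᵁ Proj.basicOpen (CohB1.polyGrading n k) (MvPolynomial.X i)) :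
    MvPolynomial (Fin (n + 1)) k →+* X.presheaf.stalk P :=
  (X.presheaf.germ (f ⁻¹ᵁ Proj.basicOpen (CohB1.polyGrading n k) (MvPolynomial.X i)) P hP).hom.comp
    (ProjUP.ev (CohB1.polyGrading n k) (X_mem i) f _ le_rfl)

variable (i : Fin (n + 1)) (P : X) (hP : P ∈ f ⁻¹ᵁ Proj.basicOpen (CohB1.polyGrading n k) (MvPolynomial.X i))

theorem evAt_X_self : evAt f i P hP (MvPolynomial.X i) = 1 := by
  rw [evAt, RingHom.comp_apply, ProjUP.ev_self, map_one]

theorem evAt_C (hf : f ≫ CohB1.ProjSpace.toSpec n k = pX) (c : k) :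
    evAt f i P hP (MvPolynomial.C c) = baseStalk pX P c := by
  rw [evAt, RingHom.comp_apply, ← MvPolynomial.algebraMap_eq, ProjUP.ev_algebraMap, baseStalk]
  erw [X.presheaf.germ_res_apply]
  rw [← hf]
  rfl

theorem not_isUnit_evAt_iff {a : MvPolynomial (Fin (n + 1)) k} (ha : a ∈ CohB1.polyGrading n k 1) :
    ¬ IsUnit (evAt f i P hP a) ↔ a ∈ (f P).asHomogeneousIdeal.toIdeal := by
  rw [evAt, RingHom.comp_apply, ← X.mem_basicOpen, ProjUP.basicOpen_ev _ _ _ _ _ ha]
  constructor
  · intro h
    by_contra hn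
    exact h ⟨hP, hn⟩
  · exact fun h hn => hn.2 h

theorem evAt_linForm_mem_iff (c : Fin (n + 1) → k) :
    evAt f i P hP (linForm c) ∈ maximalIdeal (X.presheaf.stalk P) ↔
      linForm c ∈ (f P).asHomogeneousIdeal.toIdeal := by
  rw [IsLocalRing.mem_maximalIdeal, mem_nonunits_iff, not_isUnit_evAt_iff f i P hP (linForm_mem c)]

/-- The pulled back section attached to a coefficient vector. -/
noncomputable abbrev vSec (c : Fin (n + 1) → k) :
    ProjUP.Γm ((Scheme.Modules.pullback f).obj (_root_.Twist.twist (CohB1.polyGrading n k) 1)) :=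
  ∑ j, _root_.ProjUP.toGlobal pX (c j) •
    ProjUP.sec (CohB1.polyGrading n k) f (X_mem j)

/-- The germ of the generator at `P`. -/
noncomputable def genAt :
    ((Scheme.Modules.pullback f).obj (_root_.Twist.twist (CohB1.polyGrading n k) 1)).presheaf.stalk P :=
  ((Scheme.Modules.pullback f).obj (_root_.Twist.twist (CohB1.polyGrading n k) 1)).presheaf.germ
    (f ⁻¹ᵁ Proj.basicOpen (CohB1.polyGrading n k) (MvPolynomial.X i)) P hP
    (mres _ le_top (ProjUP.sec (CohB1.polyGrading n k) f (X_mem i)))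

theorem bijective_smul_genAt :
    Function.Bijective fun c : X.presheaf.stalk P => c • genAt f i P hP :=
  (ProjUP.isGen_sec (CohB1.polyGrading n k) f (X_mem i)).stalk hP

theorem germ_vSec (hf : f ≫ CohB1.ProjSpace.toSpec n k = pX) (c : Fin (n + 1) → k) :
    ((Scheme.Modules.pullback f).obj (_root_.Twist.twist (CohB1.polyGrading n k) 1)).presheaf.germ ⊤ P (Opens.mem_top P)
      (vSec pX f c) = evAt f i P hP (linForm c) • genAt f i P hP := by
  let U := f ⁻¹ᵁ Proj.basicOpen (CohB1.polyGrading n k) (MvPolynomial.X i)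
  rw [vSec, map_sum, linForm, map_sum, Finset.sum_smul]
  refine Finset.sum_congr rfl fun j _ => ?_
  rw [map_mul, evAt_C pX f i P hP hf, mul_smul, germ_smul]
  refine congrArg₂ (fun a b => a • b) ?_ ?_
  · rw [baseStalk]; rfl
  · rw [← germ_mres _ (le_top : U ≤ ⊤) hP, ProjUP.sec_eq_ev_smul (CohB1.polyGrading n k) f
      (X_mem i) (X_mem j) U le_rfl, germ_smul]
    rfl

theorem germ_vSec_mem_iff (hf : f ≫ CohB1.ProjSpace.toSpec n k = pX) (c : Fin (n + 1) → k) :
    ((Scheme.Modules.pullback f).obj (_root_.Twist.twist (CohB1.polyGrading n k) 1)).presheaf.germ ⊤ P (Opens.mem_top P)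
      (vSec pX f c) ∈ maximalIdeal (X.presheaf.stalk P) •
        (⊤ : Submodule (X.presheaf.stalk P) _) ↔ linForm c ∈ (f P).asHomogeneousIdeal.toIdeal := by
  obtain ⟨i, hi⟩ := exists_X_notMem (f P)
  have hP : P ∈ f ⁻¹ᵁ Proj.basicOpen (CohB1.polyGrading n k) (MvPolynomial.X i) := hi
  rw [germ_vSec pX f i P hP hf c, ← evAt_linForm_mem_iff f i P hP c]
  let e := LinearMap.toSpanSingleton (X.presheaf.stalk P) _ (genAt f i P hP)
  have he : Function.Bijective e := bijective_smul_genAt f i P hP
  rw [← LinearMap.range_eq_top.2 he.2, ← Submodule.map_top, ← Submodule.map_smul'', Ideal.smul_eq_mul,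
    Ideal.mul_top]
  exact ⟨fun ⟨b, hb, hbe⟩ => (congrArg (· ∈ maximalIdeal _) (he.1 hbe)).mp hb, fun h => ⟨_, h, rfl⟩⟩

/-- The tangent condition, as a condition on ideals. -/
theorem tangent_iff (hf : f ≫ CohB1.ProjSpace.toSpec n k = pX) :
    (maximalIdeal (X.presheaf.stalk P) • (⊤ : Submodule (X.presheaf.stalk P)
        (((Scheme.Modules.pullback f).obj (_root_.Twist.twist (CohB1.polyGrading n k) 1)).presheaf.stalk P)) ≤
      Submodule.span (X.presheaf.stalk P)
        {v | ∃ c : Fin (n + 1) → k,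
          v = (((Scheme.Modules.pullback f).obj (_root_.Twist.twist (CohB1.polyGrading n k) 1)).presheaf.germ ⊤ P (Opens.mem_top P))
              (vSec pX f c) ∧
            v ∈ maximalIdeal (X.presheaf.stalk P) • (⊤ : Submodule (X.presheaf.stalk P) _)} ⊔
        maximalIdeal (X.presheaf.stalk P) ^ 2 • (⊤ : Submodule (X.presheaf.stalk P) _)) ↔
      maximalIdeal (X.presheaf.stalk P) ≤
        Ideal.span {u | ∃ c : Fin (n + 1) → k, linForm c ∈ (f P).asHomogeneousIdeal.toIdeal ∧
          u = evAt f i P hP (linForm c)} ⊔ maximalIdeal (X.presheaf.stalk P) ^ 2 := by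
  let e := LinearMap.toSpanSingleton (X.presheaf.stalk P) _ (genAt f i P hP)
  have he : Function.Bijective e := bijective_smul_genAt f i P hP
  have hI : ∀ I : Ideal (X.presheaf.stalk P), I • (⊤ : Submodule (X.presheaf.stalk P) _) = Submodule.map e I := by
    intro I
    rw [← LinearMap.range_eq_top.2 he.2, ← Submodule.map_top, ← Submodule.map_smul'', Ideal.smul_eq_mul,
      Ideal.mul_top]
  have hS : {v | ∃ c : Fin (n + 1) → k,
      v = (((Scheme.Modules.pullback f).obj (_root_.Twist.twist (CohB1.polyGrading n k) 1)).presheaf.germ ⊤ P (Opens.mem_top P))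
          (vSec pX f c) ∧
        v ∈ maximalIdeal (X.presheaf.stalk P) • (⊤ : Submodule (X.presheaf.stalk P) _)} =
      e '' {u | ∃ c : Fin (n + 1) → k, linForm c ∈ (f P).asHomogeneousIdeal.toIdeal ∧
          u = evAt f i P hP (linForm c)} := by
    ext v
    constructor
    · rintro ⟨c, rfl, hc⟩
      exact ⟨_, ⟨c, (germ_vSec_mem_iff pX f P hf c).1 hc, rfl⟩, (germ_vSec pX f i P hP hf c).symm⟩
    · rintro ⟨_, ⟨c, hc, rfl⟩, rfl⟩
      exact ⟨c, (germ_vSec pX f i P hP hf c).symm,
        (congrArg (· ∈ _) (germ_vSec pX f i P hP hf c)).mp ((germ_vSec_mem_iff pX f P hf c).2 hc)⟩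
  rw [hS, hI, hI, Submodule.span_image, ← Submodule.map_sup,
    Submodule.map_le_map_iff_of_injective he.1]

/-- The ideal generated by the linear forms vanishing at the image is the extended maximal ideal. -/
theorem span_evAt_eq_map [IsAlgClosed k] [LocallyOfFiniteType pX]
    (hf : f ≫ CohB1.ProjSpace.toSpec n k = pX) (hPc : IsClosed ({P} : Set X)) :
    Ideal.span {u | ∃ c : Fin (n + 1) → k, linForm c ∈ (f P).asHomogeneousIdeal.toIdeal ∧
        u = evAt f i P hP (linForm c)} =
      Ideal.map (f.stalkMap P).hom (maximalIdeal ((Proj (CohB1.polyGrading n k)).presheaf.stalk (f P))) := by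
  let D := Proj.basicOpen (CohB1.polyGrading n k) (MvPolynomial.X i : MvPolynomial (Fin (n + 1)) k)
  have hfP : f P ∈ D := hP
  have hev : ∀ a, evAt f i P hP a = f.stalkMap P ((Proj (CohB1.polyGrading n k)).presheaf.germ D (f P) hfP
      (Proj.awayToSection (CohB1.polyGrading n k) (MvPolynomial.X i)
        (EGA2.dehom (CohB1.polyGrading n k) (X_mem i) a))) := by
    intro a
    rw [evAt, RingHom.comp_apply, ProjUP.ev_apply, Scheme.Hom.germ_stalkMap_apply, Scheme.Hom.app_eq_appLE]
  refine le_antisymm ?_ ?_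
  · rw [Ideal.span_le]
    rintro _ ⟨c, hc, rfl⟩
    rw [← evAt_linForm_mem_iff f i P hP, hev, IsLocalRing.mem_maximalIdeal, mem_nonunits_iff] at hc
    rw [SetLike.mem_coe, hev]
    exact Ideal.mem_map_of_mem _ ((IsLocalRing.mem_maximalIdeal _).2 fun h => hc (h.map _))
  rw [Ideal.map_le_iff_le_comap]
  intro z hz
  rw [Ideal.mem_comap]
  let hD : IsAffineOpen D := Proj.isAffineOpen_basicOpen _ _ (X_mem i) Nat.one_pos
  letI := (Proj (CohB1.polyGrading n k)).presheaf.algebra_section_stalk (U := D) ⟨f P, hfP⟩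
  haveI := hD.isLocalization_stalk ⟨f P, hfP⟩
  obtain ⟨⟨r, s⟩, hrs⟩ := IsLocalization.surj (hD.primeIdealOf ⟨f P, hfP⟩).asIdeal.primeCompl z
  haveI : IsIso (Proj.awayToSection (CohB1.polyGrading n k) (MvPolynomial.X i : MvPolynomial (Fin (n + 1)) k)) := by
    rw [← Proj.basicOpenIsoAway_hom _ _ (X_mem i) Nat.one_pos]; infer_instance
  obtain ⟨w, hw⟩ := (ConcreteCategory.bijective_of_isIso
    (Proj.awayToSection (CohB1.polyGrading n k) (MvPolynomial.X i : MvPolynomial (Fin (n + 1)) k))).2 r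
  obtain ⟨a, ha⟩ := EGA2.dehom_surjective (CohB1.polyGrading n k) (X_mem i) w
  have hu : IsUnit (f.stalkMap P ((Proj (CohB1.polyGrading n k)).presheaf.germ D (f P) hfP (s : Γ(Proj _, D)))) :=
    (IsLocalization.map_units _ s).map (f.stalkMap P).hom
  have hmul : f.stalkMap P z * f.stalkMap P ((Proj (CohB1.polyGrading n k)).presheaf.germ D (f P) hfP (s : Γ(Proj _, D))) =
      evAt f i P hP a := by
    rw [hev, ha, hw, ← map_mul]
    exact congrArg (f.stalkMap P) hrs
  have ham : evAt f i P hP a ∈ maximalIdeal (X.presheaf.stalk P) := by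
    rw [← hmul]
    refine Ideal.mul_mem_right _ _ ((IsLocalRing.mem_maximalIdeal _).2 fun h => ?_)
    exact (IsLocalRing.mem_maximalIdeal z).1 hz (isUnit_of_map_unit (f.stalkMap P).hom z h)
  -- the residue field at a closed point is `k`
  have hscal : ∀ v : X.presheaf.stalk P, ∃ c : k, v - baseStalk pX P c ∈ maximalIdeal (X.presheaf.stalk P) := by
    intro v
    letI := VarDim.resAlg pX P
    haveI : Algebra.IsAlgebraic k (X.residueField P) := by
      have h := VarDim.trdeg_residueField pX P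
      rw [(VarDim.sdim_eq_zero_iff_isClosed pX P).2 hPc, Nat.cast_zero] at h
      exact trdeg_eq_zero_iff.1 h
    obtain ⟨c, hc⟩ := (IsAlgClosed.algebraMap_bijective_of_isIntegral (k := k) (K := X.residueField P)).2
      (X.residue P v)
    refine ⟨c, (residue_eq_zero_iff _).1 ?_⟩
    rw [map_sub, sub_eq_zero]
    exact hc.symm
  choose b hb using fun j => hscal (evAt f i P hP (MvPolynomial.X j))
  let J := Ideal.span {u | ∃ c : Fin (n + 1) → k, linForm c ∈ (f P).asHomogeneousIdeal.toIdeal ∧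
        u = evAt f i P hP (linForm c)}
  have hb1 : b i = 1 := by
    by_contra hne
    have h := hb i
    rw [evAt_X_self, ← map_one (baseStalk pX P).hom, ← map_sub] at h
    exact (IsLocalRing.mem_maximalIdeal _).1 h ((isUnit_iff_ne_zero.2 (sub_ne_zero.2 (Ne.symm hne))).map _)
  have hgenJ : ∀ j, evAt f i P hP (MvPolynomial.X j) - baseStalk pX P (b j) ∈ J := by
    intro j
    obtain ⟨c, hc⟩ := exists_linForm_eq i j (b j)
    have heq : evAt f i P hP (linForm c) = evAt f i P hP (MvPolynomial.X j) - baseStalk pX P (b j) := by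
      rw [hc, map_sub, map_mul, evAt_C pX f i P hP hf, evAt_X_self, mul_one]
    refine Ideal.subset_span ⟨c, ?_, heq.symm⟩
    rw [← evAt_linForm_mem_iff f i P hP, heq]
    exact hb j
  have hJ : evAt f i P hP a - baseStalk pX P (MvPolynomial.eval b a) ∈ J := by
    have h : (Ideal.Quotient.mk J).comp (evAt f i P hP) =
        ((Ideal.Quotient.mk J).comp (baseStalk pX P).hom).comp (MvPolynomial.eval b) := by
      refine MvPolynomial.ringHom_ext (fun c => ?_) (fun j => ?_)
      · simp only [RingHom.comp_apply, MvPolynomial.eval_C, evAt_C pX f i P hP hf]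
      · simp only [RingHom.comp_apply, MvPolynomial.eval_X]
        exact Ideal.Quotient.eq.2 (hgenJ j)
    exact Ideal.Quotient.eq.1 (RingHom.congr_fun h a)
  have hJm : J ≤ maximalIdeal (X.presheaf.stalk P) := Ideal.span_le.2 (by
    rintro _ ⟨c, hc, rfl⟩
    exact (evAt_linForm_mem_iff f i P hP c).2 hc)
  have h0 : MvPolynomial.eval b a = 0 := by
    by_contra h0
    have h := sub_mem ham (hJm hJ)
    rw [sub_sub_cancel] at h
    exact (IsLocalRing.mem_maximalIdeal _).1 h ((isUnit_iff_ne_zero.2 h0).map _)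
  rw [h0, map_zero, sub_zero] at hJ
  exact (Ideal.unit_mul_mem_iff_mem J hu).1 (by rw [mul_comm, hmul]; exact hJ)

include hP in
theorem exists_coords [IsAlgClosed k] [LocallyOfFiniteType pX]
    (hf : f ≫ CohB1.ProjSpace.toSpec n k = pX) (hPc : IsClosed ({P} : Set X)) :
    ∃ a : Fin (n + 1) → k,
      ∀ j, MvPolynomial.X j - MvPolynomial.C (a j) * MvPolynomial.X i ∈ (f P).asHomogeneousIdeal.toIdeal := by
  have hscal : ∀ v : X.presheaf.stalk P, ∃ c : k, v - baseStalk pX P c ∈ maximalIdeal (X.presheaf.stalk P) := by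
    intro v
    letI := VarDim.resAlg pX P
    haveI : Algebra.IsAlgebraic k (X.residueField P) := by
      have h := VarDim.trdeg_residueField pX P
      rw [(VarDim.sdim_eq_zero_iff_isClosed pX P).2 hPc, Nat.cast_zero] at h
      exact trdeg_eq_zero_iff.1 h
    obtain ⟨c, hc⟩ := (IsAlgClosed.algebraMap_bijective_of_isIntegral (k := k) (K := X.residueField P)).2
      (X.residue P v)
    refine ⟨c, (residue_eq_zero_iff _).1 ?_⟩
    rw [map_sub, sub_eq_zero]
    exact hc.symm
  choose b hb using fun j => hscal (evAt f i P hP (MvPolynomial.X j))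
  refine ⟨b, fun j => ?_⟩
  obtain ⟨c, hc⟩ := exists_linForm_eq i j (b j)
  rw [← hc, ← evAt_linForm_mem_iff f i P hP, hc, map_sub, map_mul, evAt_C pX f i P hP hf, evAt_X_self, mul_one]
  exact hb j

end local_ring

section main

variable [IsAlgClosed k] (pX : X ⟶ Spec (CommRingCat.of k)) [IsProper pX]
  (f : X ⟶ Proj (CohB1.polyGrading n k))

/-- The inverse image of `O(1)`. -/
noncomputable abbrev pullTwist : X.Modules :=
  (Scheme.Modules.pullback f).obj (_root_.Twist.twist (CohB1.polyGrading n k) 1)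

/-- The sections separate the closed point `P` from `Q`. -/
def SepAt (P Q : X) : Prop :=
  ∃ c : Fin (n + 1) → k,
    ((pullTwist f).presheaf.germ ⊤ P (Opens.mem_top P)) (vSec pX f c) ∈
      maximalIdeal (X.presheaf.stalk P) • (⊤ : Submodule (X.presheaf.stalk P) ((pullTwist f).presheaf.stalk P)) ∧
    ((pullTwist f).presheaf.germ ⊤ Q (Opens.mem_top Q)) (vSec pX f c) ∉
      maximalIdeal (X.presheaf.stalk Q) • (⊤ : Submodule (X.presheaf.stalk Q) ((pullTwist f).presheaf.stalk Q))

/-- The sections separate tangent vectors at `P`. -/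
def TangentAt (P : X) : Prop :=
  maximalIdeal (X.presheaf.stalk P) • (⊤ : Submodule (X.presheaf.stalk P) ((pullTwist f).presheaf.stalk P)) ≤
    Submodule.span (X.presheaf.stalk P)
      {v | ∃ c : Fin (n + 1) → k, v = ((pullTwist f).presheaf.germ ⊤ P (Opens.mem_top P)) (vSec pX f c) ∧
        v ∈ maximalIdeal (X.presheaf.stalk P) • (⊤ : Submodule (X.presheaf.stalk P) ((pullTwist f).presheaf.stalk P))} ⊔
      maximalIdeal (X.presheaf.stalk P) ^ 2 • (⊤ : Submodule (X.presheaf.stalk P) ((pullTwist f).presheaf.stalk P))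

/-- A morphism to projective space is a closed immersion iff it separates points and tangents. -/
theorem isClosedImmersion_iff_sep (hf : f ≫ CohB1.ProjSpace.toSpec n k = pX) :
    (IsClosedImmersion f →
      (∀ P Q : X, IsClosed ({P} : Set X) → IsClosed ({Q} : Set X) → P ≠ Q → SepAt pX f P Q) ∧
      ∀ P : X, IsClosed ({P} : Set X) → TangentAt pX f P) ∧
    ((∀ P Q : X, IsClosed ({P} : Set X) → IsClosed ({Q} : Set X) → P ≠ Q →
        SepAt pX f P Q ∨ SepAt pX f Q P) →
      (∀ P : X, IsClosed ({P} : Set X) → TangentAt pX f P) → IsClosedImmersion f) := by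
  refine ⟨fun _ => ⟨fun P Q hP hQ hne => ?_, fun P hP => ?_⟩, fun hsep htan => ?_⟩
  · obtain ⟨i, hi⟩ := exists_X_notMem (f P)
    obtain ⟨a, ha⟩ := exists_coords pX f i P hi hf hP
    obtain ⟨j, hj⟩ : ∃ j, MvPolynomial.X j - MvPolynomial.C (a j) * MvPolynomial.X i ∉
        (f Q).asHomogeneousIdeal.toIdeal := by
      by_contra h
      push Not at h
      exact hne (f.isClosedEmbedding.injective (eq_of_forall_mem (f P) (f Q) i hi a ha h))
    obtain ⟨c, hc⟩ := exists_linForm_eq i j (a j)
    exact ⟨c, (germ_vSec_mem_iff pX f P hf c).2 (hc ▸ ha j),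
      fun h => hj (hc ▸ (germ_vSec_mem_iff pX f Q hf c).1 h)⟩
  · obtain ⟨i, hi⟩ := exists_X_notMem (f P)
    refine (tangent_iff pX f i P hi hf).2 (le_trans ?_ le_sup_left)
    rw [span_evAt_eq_map pX f i P hi hf hP]
    intro z hz
    obtain ⟨w, rfl⟩ := f.stalkMap_surjective P z
    exact Ideal.mem_map_of_mem _ ((IsLocalRing.mem_maximalIdeal _).2 fun h =>
      (IsLocalRing.mem_maximalIdeal _).1 hz (h.map _))
  · haveI hPr : @IsProper (Proj (CohB1.polyGrading n k)) _ (CohB1.ProjSpace.toSpec n k) :=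
      Groth.Agent.ProjSpace.isProper_toSpec n k
    haveI : IsProper (f ≫ CohB1.ProjSpace.toSpec n k) := hf ▸ inferInstance
    haveI : IsProper f := IsProper.of_comp f (CohB1.ProjSpace.toSpec n k)
    refine isClosedImmersion_of_cotangent f (CohB1.ProjSpace.toSpec n k) ?_ fun P hP => ?_
    · intro P hP Q hQ he
      by_contra hne
      rcases hsep P Q hP hQ hne with ⟨c, h1, h2⟩ | ⟨c, h1, h2⟩
      · exact h2 ((germ_vSec_mem_iff pX f Q hf c).2 (he ▸ (germ_vSec_mem_iff pX f P hf c).1 h1))
      · exact h2 ((germ_vSec_mem_iff pX f P hf c).2 (he.symm ▸ (germ_vSec_mem_iff pX f Q hf c).1 h1))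
    · obtain ⟨i, hi⟩ := exists_X_notMem (f P)
      have h := (tangent_iff pX f i P hi hf).1 (htan P hP)
      rw [span_evAt_eq_map pX f i P hi hf hP] at h
      refine le_antisymm (sup_le ?_ (Ideal.pow_le_self two_ne_zero)) h
      exact Ideal.map_le_iff_le_comap.2 fun z hz => (IsLocalRing.mem_maximalIdeal _).2 fun h' =>
        (IsLocalRing.mem_maximalIdeal z).1 hz (isUnit_of_map_unit (f.stalkMap P).hom z h')

end main

end Groth.Agent.Curve17
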