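import Groth.Prelude.Def_MeroSh
import Groth.Agent.Lib.ModM1.Stalk

/-!
# Submodules cut out by conditions on germs
-/

set_option autoImplicit false
set_option linter.style.haveILetI false
universe u

open CategoryTheory AlgebraicGeometry TopologicalSpace Opposite

namespace Groth.Agent.Curve17

open Groth.Agent.M1

variable {X : Scheme.{u}} (F : X.Modules) (C : ∀ x : X, Submodule (X.presheaf.stalk x) (F.presheaf.stalk x))

/-- "Being the germs of a section". -/
noncomputable def germPred : TopCat.PrelocalPredicate (fun x : X => (F.presheaf.stalk x : Type u)) where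
  pred {U} f := ∃ m : Γ(F, U), ∀ x : U, f x = F.presheaf.germ U x.1 x.2 m
  res {V U} i f := by
    rintro ⟨m, hm⟩
    exact ⟨F.presheaf.map i.op m, fun x =>
      (hm ⟨x.1, i.le x.2⟩).trans (TopCat.Presheaf.germ_res_apply F.presheaf i x.1 x.2 m).symm⟩

/-- A family of germs coming locally from sections comes from a unique section. -/
theorem existsUnique_of_germPred {U : X.Opens} (f : ∀ x : U, (F.presheaf.stalk x.1 : Type u))
    (hf : (germPred F).sheafify.pred f) :
    ∃! m : Γ(F, U), ∀ x : U, F.presheaf.germ U x.1 x.2 m = f x := by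
  choose V hxV i m hm using hf
  obtain ⟨g, hg, -⟩ := TopCat.Sheaf.existsUnique_gluing' ⟨F.presheaf, F.isSheaf⟩ V U i
    (fun x hx => Opens.mem_iSup.2 ⟨⟨x, hx⟩, hxV ⟨x, hx⟩⟩) m fun a b => by
      refine TopCat.Presheaf.section_ext ⟨F.presheaf, F.isSheaf⟩ _ _ _ fun y hy => ?_
      exact ((TopCat.Presheaf.germ_res_apply F.presheaf (Opens.infLELeft (V a) (V b)) y hy (m a)).trans
        (hm a ⟨y, hy.1⟩).symm).trans ((TopCat.Presheaf.germ_res_apply F.presheaf (Opens.infLERight (V a) (V b))
          y hy (m b)).trans (hm b ⟨y, hy.2⟩).symm).symm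
  refine ⟨g, fun x => ?_, fun g' hg' => ?_⟩
  · refine Eq.trans ?_ (hm x ⟨x.1, hxV x⟩).symm
    rw [← hg x]
    exact (TopCat.Presheaf.germ_res_apply F.presheaf (i x) x.1 (hxV x) g).symm
  · refine TopCat.Presheaf.section_ext ⟨F.presheaf, F.isSheaf⟩ _ _ _ fun y hy => ?_
    refine (hg' ⟨y, hy⟩).trans ((hm ⟨y, hy⟩ ⟨y, hxV ⟨y, hy⟩⟩).trans ?_)
    rw [← hg ⟨y, hy⟩]
    exact TopCat.Presheaf.germ_res_apply F.presheaf (i ⟨y, hy⟩) y (hxV ⟨y, hy⟩) g

/-- Germs of a section lying in the given submodules. -/
noncomputable def subPred : TopCat.LocalPredicate (fun x : X => (F.presheaf.stalk x : Type u)) :=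
  (germPred F).sheafify.and
    { pred := fun {U} f => ∀ x : U, f x ∈ C x.1
      res := fun {V U} i f h x => h ⟨x.1, i.le x.2⟩
      locality := fun {U} f h x => by
        obtain ⟨V, hx, i, hV⟩ := h x
        exact hV ⟨x.1, hx⟩ }

theorem germPred_of_section {U : X.Opens} (m : Γ(F, U)) :
    (germPred F).sheafify.pred (fun x : U => F.presheaf.germ U x.1 x.2 m) :=
  TopCat.PrelocalPredicate.sheafifyOf ⟨m, fun _ => rfl⟩

instance : Mero.IsModPred (subPred F C) where
  zero U := by
    refine ⟨?_, fun x => (C x.1).zero_mem⟩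
    rw [show (0 : ∀ x : U, (F.presheaf.stalk x.1 : Type u)) = fun x : U => F.presheaf.germ U x.1 x.2 0 from
      funext fun x => (map_zero _).symm]
    exact germPred_of_section F 0
  add U f g hf hg := by
    refine ⟨?_, fun x => (C x.1).add_mem (hf.2 x) (hg.2 x)⟩
    obtain ⟨a, ha, -⟩ := existsUnique_of_germPred F f hf.1
    obtain ⟨b, hb, -⟩ := existsUnique_of_germPred F g hg.1
    rw [show f + g = fun x : U => F.presheaf.germ U x.1 x.2 (a + b) from
      funext fun x => by rw [map_add, ha, hb]; rfl]
    exact germPred_of_section F _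
  smul U r f hf := by
    refine ⟨?_, fun x => (C x.1).smul_mem _ (hf.2 x)⟩
    obtain ⟨a, ha, -⟩ := existsUnique_of_germPred F f hf.1
    rw [show (fun x : U => X.presheaf.germ U x.1 x.2 r • f x) = fun x : U => F.presheaf.germ U x.1 x.2 (r • a) from
      funext fun x => by rw [germ_smul, ha]]
    exact germPred_of_section F _

/-- The submodule of the sections whose germs lie in the given submodules. -/
noncomputable def subMod : X.Modules := Mero.modOf (subPred F C)

/-- The section underlying a section of `subMod`. -/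
noncomputable def toSec {U : X.Opens} (f : Γ(subMod F C, U)) : Γ(F, U) :=
  (existsUnique_of_germPred F f.1 f.2.1).choose

theorem germ_toSec {U : X.Opens} (f : Γ(subMod F C, U)) (x : U) :
    F.presheaf.germ U x.1 x.2 (toSec F C f) = f.1 x :=
  (existsUnique_of_germPred F f.1 f.2.1).choose_spec.1 x

theorem toSec_eq {U : X.Opens} (f : Γ(subMod F C, U)) (m : Γ(F, U))
    (h : ∀ x : U, F.presheaf.germ U x.1 x.2 m = f.1 x) : toSec F C f = m :=
  ((existsUnique_of_germPred F f.1 f.2.1).choose_spec.2 m h).symm

/-- The inclusion. -/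
noncomputable def subι : subMod F C ⟶ F :=
  ⟨PresheafOfModules.homMk (M₁ := (subMod F C).val) (M₂ := F.val)
    { app := fun U => AddCommGrpCat.ofHom
        { toFun := fun (f : Γ(subMod F C, U.unop)) => toSec F C f
          map_zero' := toSec_eq F C _ _ fun x => map_zero _
          map_add' := fun f g => toSec_eq F C (f + g) _ fun x => by
            exact (map_add _ _ _).trans (congrArg₂ (· + ·) (germ_toSec F C f x) (germ_toSec F C g x)) }
      naturality := fun {U V} i => by
        ext f
        refine toSec_eq F C _ _ fun x => ?_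
        exact (TopCat.Presheaf.germ_res_apply' F.presheaf i x.1 x.2 _).trans (germ_toSec F C f ⟨x.1, i.unop.le x.2⟩) }
    (fun U r f => toSec_eq F C _ _ fun x => by
      exact (germ_smul F x.2 _ _).trans (congrArg (_ • ·) (germ_toSec F C f x)))⟩

theorem subι_app {U : X.Opens} (f : Γ(subMod F C, U)) : (subι F C).app U f = toSec F C f := rfl

theorem subι_injective (U : X.Opens) : Function.Injective ((subι F C).app U) := fun f g h =>
  Subtype.ext (funext fun x => by
    rw [← germ_toSec F C f x, ← germ_toSec F C g x]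
    exact congrArg (F.presheaf.germ U x.1 x.2) h)

/-- The sections of the submodule. -/
theorem exists_preimage_iff {U : X.Opens} (m : Γ(F, U)) :
    (∃ f : Γ(subMod F C, U), (subι F C).app U f = m) ↔
      ∀ (x : X) (hx : x ∈ U), F.presheaf.germ U x hx m ∈ C x := by
  constructor
  · rintro ⟨f, rfl⟩ x hx
    rw [subι_app, germ_toSec F C f ⟨x, hx⟩]
    exact f.2.2 ⟨x, hx⟩
  · intro h
    exact ⟨⟨fun x => F.presheaf.germ U x.1 x.2 m, germPred_of_section F m, fun x => h x.1 x.2⟩,
      toSec_eq F C _ _ fun _ => rfl⟩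

end Groth.Agent.Curve17
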