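import Groth.Agent.Lib.Twist.UniversalExist
import Groth.Agent.Lib.ModM1.Stalk
import Groth.Agent.Lib.H12.DimZero
import Mathlib.AlgebraicGeometry.Morphisms.QuasiFinite

/-!
# Invertible modules are trivial near the fibres of finite morphisms
-/

set_option autoImplicit false
set_option linter.style.haveILetI false
universe u

open CategoryTheory AlgebraicGeometry TopologicalSpace Opposite IsLocalRing

namespace Groth.Agent.Curve17

open Groth.Agent.M1

variable {X : Scheme.{u}}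

/-- An invertible module has a section over an affine open generating at finitely many given points, none of
which specialises to another. -/
theorem exists_section_gen_at {L : X.Modules} (hL : PicF.IsInvertible L) {W : X.Opens} (hW : IsAffineOpen W)
    (F : Finset X) (hFW : ∀ x ∈ F, x ∈ W) (hF : ∀ x ∈ F, ∀ x' ∈ F, x' ⤳ x → x' = x) :
    ∃ s : Γ(L, W), ∀ x (_ : x ∈ F) (hx : x ∈ W), Function.Bijective fun c : X.presheaf.stalk x =>
      c • (L.presheaf.germ W x hx s : L.presheaf.stalk x) := by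
  classical
  haveI : Coh.IsQCoh L := Twist.isQCoh_of_local L hL
  have hm : ∀ x : F, ∃ m : Γ(L, W), Function.Bijective fun c : X.presheaf.stalk x.1 =>
      c • (L.presheaf.germ W x.1 (hFW x.1 x.2) m : L.presheaf.stalk x.1) := by
    intro x
    obtain ⟨D, g, hxD, hg⟩ := ProjUP.exists_isGen_of_invertible hL x.1
    obtain ⟨r, m, hr, h⟩ := exists_germ_smul_eq L hW (hFW x.1 x.2) (L.presheaf.germ D x.1 hxD g)
    refine ⟨m, ?_⟩
    rw [← h]
    have e : (fun c : X.presheaf.stalk x.1 => c • X.presheaf.germ W x.1 (hFW x.1 x.2) r •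
        (L.presheaf.germ D x.1 hxD g : L.presheaf.stalk x.1)) = (fun c : X.presheaf.stalk x.1 => c •
          (L.presheaf.germ D x.1 hxD g : L.presheaf.stalk x.1)) ∘
          fun c => c * X.presheaf.germ W x.1 (hFW x.1 x.2) r :=
      funext fun c => (mul_smul _ _ _).symm
    rw [e]
    exact (hg.stalk hxD).comp (Units.mulRight hr.unit).bijective
  choose m hm using hm
  have he : ∀ x : F, ∃ e : Γ(X, W), IsUnit (X.presheaf.germ W x.1 (hFW x.1 x.2) e) ∧
      ∀ x' : F, x' ≠ x → ¬ IsUnit (X.presheaf.germ W x'.1 (hFW x'.1 x'.2) e) := by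
    intro x
    have hne : ∀ x' : F, x' ≠ x → ∃ a : Γ(X, W), a ∈ (hW.primeIdealOf ⟨x'.1, hFW _ x'.2⟩).asIdeal ∧
        a ∉ (hW.primeIdealOf ⟨x.1, hFW _ x.2⟩).asIdeal := by
      intro x' hx'
      by_contra! hle
      refine hx' (Subtype.ext (hF x.1 x.2 x'.1 x'.2 ?_))
      have h := ((PrimeSpectrum.le_iff_specializes _ _).1
        (show hW.primeIdealOf ⟨x'.1, hFW _ x'.2⟩ ≤ hW.primeIdealOf ⟨x.1, hFW _ x.2⟩ from hle)).map
          hW.fromSpec.continuous
      rwa [hW.fromSpec_primeIdealOf, hW.fromSpec_primeIdealOf] at h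
    choose a ha ha' using hne
    refine ⟨∏ x' ∈ (Finset.univ.erase x).attach, a x'.1 (Finset.ne_of_mem_erase x'.2), ?_, fun x' hx' => ?_⟩
    · rw [map_prod, IsUnit.prod_iff]
      exact fun x' _ => (M1.isUnit_germ_iff hW (hFW x.1 x.2) _).2 (ha' _ _)
    · rw [M1.isUnit_germ_iff hW (hFW x'.1 x'.2), Ideal.mem_primeCompl_iff, not_not]
      exact Ideal.mem_of_dvd _ (Finset.dvd_prod_of_mem _ (Finset.mem_attach _ ⟨x', Finset.mem_erase.2 ⟨hx', Finset.mem_univ _⟩⟩))
        (ha x' hx')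
  choose e he he' using he
  refine ⟨∑ x : F, e x • m x, fun x hxF hxW => ?_⟩
  let x₀ : F := ⟨x, hxF⟩
  have hx : ∀ y : F, ∃ c, c • (L.presheaf.germ W x hxW (m x₀) : L.presheaf.stalk x) = L.presheaf.germ W x hxW (m y) :=
    fun y => (hm x₀).2 _
  choose c hc using hx
  let u := ∑ y : F, X.presheaf.germ W x hxW (e y) * c y
  have hu : IsUnit u := by
    have hm' : ∀ y ∈ Finset.univ.erase x₀, X.presheaf.germ W x hxW (e y) * c y ∈ maximalIdeal (X.presheaf.stalk x) :=
      fun y hy => Ideal.mul_mem_right _ _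
        ((mem_maximalIdeal _).2 (he' y x₀ (Finset.ne_of_mem_erase hy).symm))
    have hc0 : c x₀ = 1 := (hm x₀).1 ((hc x₀).trans (one_smul _ _).symm)
    by_contra hn
    have hsum : u ∈ maximalIdeal (X.presheaf.stalk x) := (mem_maximalIdeal u).2 hn
    simp only [u, ← Finset.add_sum_erase _ _ (Finset.mem_univ x₀)] at hsum
    have h1 := (Ideal.add_mem_iff_left _ (Ideal.sum_mem _ hm')).1 hsum
    rw [hc0, mul_one] at h1
    exact (mem_maximalIdeal _).1 h1 (he x₀)
  have hs : (L.presheaf.germ W x hxW (∑ y : F, e y • m y) : L.presheaf.stalk x) =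
      u • L.presheaf.germ W x hxW (m x₀) := by
    rw [map_sum, Finset.sum_smul]
    refine Finset.sum_congr rfl fun y _ => ?_
    rw [germ_smul, mul_smul, hc]
  rw [hs]
  have e' : (fun d : X.presheaf.stalk x => d • u • (L.presheaf.germ W x hxW (m x₀) : L.presheaf.stalk x)) =
      (fun d : X.presheaf.stalk x => d • (L.presheaf.germ W x hxW (m x₀) : L.presheaf.stalk x)) ∘ fun d => d * u :=
    funext fun d => (mul_smul _ _ _).symm
  rw [e']
  exact (hm x₀).comp (Units.mulRight hu.unit).bijective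

/-- The locus where a section generates is open. -/
theorem isOpen_genSet {L : X.Modules} (hL : PicF.IsInvertible L) {W : X.Opens} (s : Γ(L, W)) :
    IsOpen {x : X | ∃ hx : x ∈ W, Function.Bijective fun c : X.presheaf.stalk x =>
      c • (L.presheaf.germ W x hx s : L.presheaf.stalk x)} := by
  rw [isOpen_iff_forall_mem_open]
  rintro x ⟨hxW, hb⟩
  obtain ⟨D, g, hxD, hg⟩ := ProjUP.exists_isGen_of_invertible hL x
  obtain ⟨r, hr⟩ := (hg (W ⊓ D) inf_le_right).2 (mres L (inf_le_left : W ⊓ D ≤ W) s)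
  have hgr : ∀ (y : X) (hy : y ∈ W ⊓ D), (L.presheaf.germ W y hy.1 s : L.presheaf.stalk y) =
      X.presheaf.germ (W ⊓ D) y hy r • L.presheaf.germ D y hy.2 g := by
    intro y hy
    rw [← germ_mres L (inf_le_left : W ⊓ D ≤ W) hy, ← hr, germ_smul, germ_mres]
  refine ⟨X.basicOpen r, fun y hy => ?_, (X.basicOpen r).2, ?_⟩
  · have hy' := X.basicOpen_le r hy
    refine ⟨hy'.1, ?_⟩
    have hu := (X.mem_basicOpen r y hy').1 hy
    rw [hgr y hy']
    have e : (fun c : X.presheaf.stalk y => c • X.presheaf.germ (W ⊓ D) y hy' r •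
        (L.presheaf.germ D y hy'.2 g : L.presheaf.stalk y)) = (fun c : X.presheaf.stalk y => c •
          (L.presheaf.germ D y hy'.2 g : L.presheaf.stalk y)) ∘ fun c => c * X.presheaf.germ (W ⊓ D) y hy' r :=
      funext fun c => (mul_smul _ _ _).symm
    rw [e]
    exact (hg.stalk hy'.2).comp (Units.mulRight hu.unit).bijective
  · refine (X.mem_basicOpen r x ⟨hxW, hxD⟩).2 ?_
    obtain ⟨d, hd⟩ := hb.2 (L.presheaf.germ D x hxD g)
    rw [hgr x ⟨hxW, hxD⟩] at hd
    refine isUnit_iff_exists_inv'.2 ⟨d, (hg.stalk hxD).1 ?_⟩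
    show (d * _) • (L.presheaf.germ D x hxD g : L.presheaf.stalk x) = _ • _
    rw [mul_smul, one_smul]
    exact hd

theorem exists_trivial_near_fibre {Y : Scheme.{u}} (π : X ⟶ Y) [IsFinite π] (L : X.Modules)
    (hL : PicF.IsInvertible L) (y : Y) :
    ∃ V : Y.Opens, y ∈ V ∧ Nonempty (L.restrict (π ⁻¹ᵁ V).ι ≅ Coh.structureModule (↑(π ⁻¹ᵁ V))) := by
  classical
  obtain ⟨V₀, hV₀, hyV₀, -⟩ := exists_isAffineOpen_mem_and_subset (x := y) (U := ⊤) trivial
  let W := π ⁻¹ᵁ V₀
  let F : Finset X := (IsFinite.finite_preimage_singleton π y).toFinset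
  have hF : ∀ x, x ∈ F ↔ π x = y := fun x => Set.Finite.mem_toFinset _
  obtain ⟨s, hs⟩ := exists_section_gen_at hL (hV₀.preimage π) F
    (fun x hx => by show π x ∈ V₀; rw [(hF x).1 hx]; exact hyV₀)
    fun x hx x' hx' h => Groth.Agent.H12.eq_of_specializes_of_isIntegralHom π h (((hF x').1 hx').trans ((hF x).1 hx).symm)
  let G : Set X := {x : X | ∃ hx : x ∈ W, Function.Bijective fun c : X.presheaf.stalk x =>
      c • (L.presheaf.germ W x hx s : L.presheaf.stalk x)}
  let V : Y.Opens := V₀ ⊓ ⟨(π '' Gᶜ)ᶜ, (π.isClosedMap _ (isOpen_genSet hL s).isClosed_compl).isOpen_compl⟩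
  have hVW : π ⁻¹ᵁ V ≤ W := fun x hx => hx.1
  have hgood : ∀ x ∈ π ⁻¹ᵁ V, x ∈ G := fun x hx => by
    by_contra hn
    exact hx.2 ⟨x, hn, rfl⟩
  refine ⟨V, ⟨hyV₀, ?_⟩, ?_⟩
  · rintro ⟨x, hx, hxy⟩
    have hxW : x ∈ W := by show π x ∈ V₀; rw [hxy]; exact hyV₀
    exact hx ⟨hxW, hs x ((hF x).2 hxy) hxW⟩
  · refine Twist.nonempty_restrict_iso L _ (mres L hVW s) (Twist.isGen_of_stalk fun x hx => ?_)
    rw [germ_mres]
    exact (hgood x hx).2

end Groth.Agent.Curve17
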