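import Mathlib.FieldTheory.PurelyInseparable.Basic
import Mathlib.FieldTheory.PurelyInseparable.Exponent
import Mathlib.FieldTheory.IntermediateField.Adjoin.Algebra
import Mathlib.FieldTheory.IntermediateField.Algebraic
import Mathlib.RingTheory.EssentialFiniteness

/-!
# Purely inseparable subfields of separably generated fields of transcendence degree one
-/

set_option autoImplicit false
set_option linter.style.haveILetI false

open IntermediateField

namespace Groth.Agent.Curve17

/-- If `K` is separable over `k(t)` and purely inseparable over `L`, then `L = k(K^q)`, `q = [K : L]`. -/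
theorem exists_fieldRange_eq_adjoin_pow (k L K : Type*) [Field k] [Field L] [Field K]
    [Algebra k L] [Algebra k K] [Algebra L K] [IsScalarTower k L K] (p : ℕ) [ExpChar k p]
    [IsPurelyInseparable L K] [Algebra.EssFiniteType k K] (t : K) [Algebra.IsSeparable k⟮t⟯ K] :
    ∃ r : ℕ, (∀ a : K, ∃ b : L, algebraMap L K b = a ^ p ^ r) ∧
      (IsScalarTower.toAlgHom k L K).fieldRange =
        IntermediateField.adjoin k (Set.range fun a : K => a ^ p ^ r) := by
  haveI : ExpChar L p := expChar_of_injective_algebraMap (algebraMap k L).injective p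
  haveI : ExpChar K p := expChar_of_injective_algebraMap (algebraMap k K).injective p
  haveI : Algebra.EssFiniteType L K := Algebra.EssFiniteType.of_comp k L K
  haveI : Algebra.IsAlgebraic L K := Algebra.IsIntegral.isAlgebraic
  haveI : FiniteDimensional L K := Algebra.finite_of_essFiniteType_of_isAlgebraic
  obtain ⟨r, hr⟩ := IsPurelyInseparable.finrank_eq_pow L K p
  have hp1 : 1 ≤ p := expChar_pos k p
  have hpow : ∀ a : K, ∃ b : L, algebraMap L K b = a ^ p ^ r := fun a => by
    rcases eq_or_lt_of_le hp1 with h1 | h1
    · subst h1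
      have : ∃ b : L, algebraMap L K b = a := by
        obtain ⟨n, b, hb⟩ := IsPurelyInseparable.pow_mem L 1 a
        exact ⟨b, by simpa using hb⟩
      simpa using this
    · have hle : IsPurelyInseparable.elemExponent L a ≤ r := (Nat.pow_le_pow_iff_right h1).1 (by
        rw [← hr, ← IsPurelyInseparable.minpoly_natDegree_eq' L p a]
        exact minpoly.natDegree_le a)
      refine ⟨IsPurelyInseparable.elemReduct L a ^ p ^ (r - IsPurelyInseparable.elemExponent L a), ?_⟩
      rw [map_pow, IsPurelyInseparable.algebraMap_elemReduct_eq' L p, ← pow_mul, ← pow_add,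
        Nat.add_sub_cancel' hle]
  refine ⟨r, hpow, ?_⟩
  set R := (IsScalarTower.toAlgHom k L K).fieldRange with hR
  set S := Set.range (fun a : K => a ^ p ^ r) with hS
  set E := IntermediateField.adjoin k S with hE
  have hER : E ≤ R := by
    rw [hE, IntermediateField.adjoin_le_iff]
    rintro _ ⟨a, rfl⟩
    obtain ⟨b, hb⟩ := hpow a
    exact ⟨b, hb⟩
  -- `K = E(t)`
  let M : IntermediateField k K := (IntermediateField.adjoin E {t}).restrictScalars k
  have htM : k⟮t⟯ ≤ M := by
    rw [IntermediateField.adjoin_le_iff]
    intro x hx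
    rw [Set.mem_singleton_iff] at hx
    subst hx
    exact IntermediateField.mem_adjoin_simple_self E x
  have hEM : ∀ a : K, a ^ p ^ r ∈ M := fun a =>
    (IntermediateField.adjoin E {t}).algebraMap_mem
      ⟨a ^ p ^ r, IntermediateField.subset_adjoin k S ⟨a, rfl⟩⟩
  have htop : IntermediateField.adjoin E {t} = ⊤ := by
    let M' := IntermediateField.extendScalars htM
    haveI : Algebra.IsSeparable M' K := Algebra.isSeparable_tower_top_of_isSeparable k⟮t⟯ M' K
    haveI : ExpChar M' p := expChar_of_injective_algebraMap (algebraMap k M').injective p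
    haveI : IsPurelyInseparable M' K :=
      (isPurelyInseparable_iff_pow_mem M' p).2 fun a => ⟨r, ⟨a ^ p ^ r, hEM a⟩, rfl⟩
    rw [eq_top_iff]
    intro a _
    obtain ⟨b, rfl⟩ := (IsPurelyInseparable.bijective_algebraMap_of_isSeparable M' K).2 a
    exact b.2
  have htint : IsIntegral E t := by
    refine IsIntegral.of_pow (n := p ^ r) (pow_pos hp1 r) ?_
    exact isIntegral_algebraMap (x := (⟨t ^ p ^ r, IntermediateField.subset_adjoin k S ⟨t, rfl⟩⟩ : E))
  haveI : FiniteDimensional E K := by
    haveI := IntermediateField.adjoin.finiteDimensional htint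
    exact Module.Finite.equiv
      ((IntermediateField.equivOfEq htop).trans IntermediateField.topEquiv).toLinearEquiv
  refine (IntermediateField.eq_of_le_of_finrank_le' hER ?_).symm
  have h1 : Module.finrank R K = p ^ r := by
    rw [← hr]
    refine (Algebra.finrank_eq_of_equiv_equiv
      ((AlgEquiv.ofInjectiveField (IsScalarTower.toAlgHom k L K)).toRingEquiv) (RingEquiv.refl K) ?_).symm
    ext b; rfl
  rw [h1]
  have h2 : Module.finrank E K = Module.finrank E (IntermediateField.adjoin E {t}) := by
    rw [htop, IntermediateField.finrank_top']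
  rw [h2, IntermediateField.adjoin.finrank htint]
  let c : E := ⟨t ^ p ^ r, IntermediateField.subset_adjoin k S ⟨t, rfl⟩⟩
  have hmon : (Polynomial.X ^ p ^ r - Polynomial.C c).Monic :=
    Polynomial.monic_X_pow_sub_C c (pow_pos hp1 r).ne'
  refine le_trans (Polynomial.natDegree_le_natDegree (minpoly.min E t hmon ?_)) ?_
  · simp [c]
  · rw [Polynomial.natDegree_X_pow_sub_C]

end Groth.Agent.Curve17
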