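import Groth.Agent.Lib.Curve17.FunctionField
import Groth.Agent.Lib.VarDim.Scheme
import Mathlib.RingTheory.RingHom.LocallyStandardSmooth
import Mathlib.RingTheory.RingHom.StandardSmooth
import Mathlib.RingTheory.Unramified.Field
import Mathlib.RingTheory.Etale.Basic
import Mathlib.AlgebraicGeometry.Morphisms.Smooth
import Mathlib.AlgebraicGeometry.FunctionField

/-!
# Separating element of the function field of a smooth curve
-/

set_option autoImplicit false
set_option linter.style.haveILetI false
universe u

open CategoryTheory AlgebraicGeometry TopologicalSpace IntermediateField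

namespace Groth.Agent.Curve17

variable {k : Type u} [Field k]

/-- The function field as an algebra over the base field. -/
@[reducible] noncomputable def funAlg {X : Scheme.{u}} [IrreducibleSpace X]
    (p : X ⟶ Spec (CommRingCat.of k)) : Algebra k X.functionField :=
  (baseStalk p (genericPoint X)).hom.toAlgebra

/-- Separable generation by one element, for a field generated by an étale algebra over a polynomial ring. -/
theorem exists_separable_of_etale {n : ℕ} (B K : Type u) [CommRing B] [IsDomain B] [Field K]
    [Algebra k K] [Algebra B K] [IsFractionRing B K] [Algebra.EssFiniteType k K]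
    (g : MvPolynomial (Fin n) k →+* B) (hg : g.Etale)
    (hk : (algebraMap B K).comp (g.comp MvPolynomial.C) = algebraMap k K)
    (htr : Algebra.trdeg k K ≤ 1) :
    ∃ t : K, Algebra.IsSeparable k⟮t⟯ K := by
  letI := g.toAlgebra
  haveI : Algebra.Etale (MvPolynomial (Fin n) k) B := hg
  letI : Algebra (MvPolynomial (Fin n) k) K := ((algebraMap B K).comp g).toAlgebra
  haveI : IsScalarTower (MvPolynomial (Fin n) k) B K := IsScalarTower.of_algebraMap_eq' rfl
  haveI : IsScalarTower k (MvPolynomial (Fin n) k) K := IsScalarTower.of_algebraMap_eq' hk.symm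
  haveI : FaithfulSMul (MvPolynomial (Fin n) k) K := by
    rw [faithfulSMul_iff_algebraMap_injective]
    refine (IsFractionRing.injective B K).comp ?_
    rw [injective_iff_map_eq_zero]
    intro a ha
    by_contra h0
    have h1 : IsSMulRegular (MvPolynomial (Fin n) k) a := fun x y hxy => mul_left_cancel₀ h0 hxy
    have h2 : IsSMulRegular B a := h1.of_flat
    exact one_ne_zero (h2 (show a • (1 : B) = a • 0 by rw [smul_zero, Algebra.smul_def, mul_one]; exact ha))
  have hn : n ≤ 1 := by
    have h := trdeg_add_eq k (MvPolynomial (Fin n) k) (A := K)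
    rw [MvPolynomial.trdeg_of_isDomain, Cardinal.mk_fin, Cardinal.lift_natCast] at h
    have h3 : (n : Cardinal) ≤ 1 := le_trans (h ▸ le_self_add) htr
    exact_mod_cast h3
  let x : Fin n → K := fun i => algebraMap (MvPolynomial (Fin n) k) K (MvPolynomial.X i)
  let F := IntermediateField.adjoin k (Set.range x)
  let gF : MvPolynomial (Fin n) k →ₐ[k] F :=
    MvPolynomial.aeval fun i => (⟨x i, IntermediateField.subset_adjoin k _ ⟨i, rfl⟩⟩ : F)
  letI : Algebra (MvPolynomial (Fin n) k) F := gF.toRingHom.toAlgebra
  haveI : IsScalarTower (MvPolynomial (Fin n) k) F K := IsScalarTower.of_algebraMap_eq' (by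
    have : IsScalarTower.toAlgHom k (MvPolynomial (Fin n) k) K = F.val.comp gF :=
      MvPolynomial.algHom_ext fun i => by simp [gF, x]
    exact congrArg AlgHom.toRingHom this)
  haveI : Algebra.FormallyUnramified B K :=
    Algebra.FormallyUnramified.of_isLocalization (nonZeroDivisors B)
  haveI : Algebra.FormallyUnramified (MvPolynomial (Fin n) k) K :=
    Algebra.FormallyUnramified.comp _ B K
  haveI : Algebra.FormallyUnramified F K :=
    Algebra.FormallyUnramified.of_restrictScalars (MvPolynomial (Fin n) k) F K
  haveI : Algebra.EssFiniteType F K := Algebra.EssFiniteType.of_comp k F K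
  haveI hsep : Algebra.IsSeparable F K := (Algebra.FormallyUnramified.iff_isSeparable F K).1 inferInstance
  have key : ∀ t : K, Set.range x ⊆ {t} → Algebra.IsSeparable k⟮t⟯ K := fun t ht => by
    have hle : F ≤ k⟮t⟯ := IntermediateField.adjoin.mono k _ _ ht
    haveI : Algebra.IsSeparable (IntermediateField.extendScalars hle) K :=
      Algebra.isSeparable_tower_top_of_isSeparable F _ K
    exact this
  rcases Nat.le_one_iff_eq_zero_or_eq_one.1 hn with rfl | rfl
  · exact ⟨1, key 1 (by rintro _ ⟨i, _⟩; exact i.elim0)⟩
  · exact ⟨x 0, key (x 0) (by rintro _ ⟨i, rfl⟩; rw [Subsingleton.elim i 0]; rfl)⟩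

variable {X : Scheme.{u}} [IsIntegral X] (p : X ⟶ Spec (CommRingCat.of k))

theorem baseStalk_eq_germ_comp (V : X.Opens) [Nonempty V] :
    (baseStalk p (genericPoint X)).hom =
      (X.germToFunctionField V).hom.comp (VarDim.baseToSections p V) := by
  rw [baseStalk, VarDim.baseToSections, ← CommRingCat.hom_comp, Category.assoc, Category.assoc]
  congr 2
  rw [Scheme.germToFunctionField, TopCat.Presheaf.germ_res]

theorem essFiniteType_functionField [LocallyOfFiniteType p] :
    letI := funAlg p
    Algebra.EssFiniteType k X.functionField := by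
  letI := funAlg p
  obtain ⟨V, hV, hxV, -⟩ := exists_isAffineOpen_mem_and_subset (show genericPoint X ∈ (⊤ : X.Opens) from trivial)
  haveI : Nonempty V := ⟨⟨_, hxV⟩⟩
  letI : Algebra k Γ(X, V) := (VarDim.baseToSections p V).toAlgebra
  haveI : IsScalarTower k Γ(X, V) X.functionField :=
    IsScalarTower.of_algebraMap_eq' (baseStalk_eq_germ_comp p V)
  haveI : Algebra.FiniteType k Γ(X, V) := VarDim.finiteType_baseToSections p hV
  haveI := functionField_isFractionRing_of_isAffineOpen X V hV
  haveI : Algebra.EssFiniteType Γ(X, V) X.functionField :=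
    Algebra.EssFiniteType.of_isLocalization _ (nonZeroDivisors Γ(X, V))
  exact Algebra.EssFiniteType.comp k Γ(X, V) X.functionField

theorem trdeg_functionField [LocallyOfFiniteType p] :
    letI := funAlg p
    Algebra.trdeg k X.functionField = (VarDim.sdim p (genericPoint X) : Cardinal) := by
  letI := funAlg p
  letI := VarDim.resAlg p (genericPoint X)
  rw [← VarDim.trdeg_residueField p (genericPoint X)]
  have hbij : Function.Bijective (X.residue (genericPoint X)).hom :=
    ⟨RingHom.injective (show X.functionField →+* X.residueField (genericPoint X) from (X.residue (genericPoint X)).hom),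
      X.residue_surjective _⟩
  let ψ : X.functionField →ₐ[k] X.residueField (genericPoint X) :=
    { (X.residue (genericPoint X)).hom with
      commutes' := fun c => by
        change _ = VarDim.baseToRes p (genericPoint X) c
        rw [VarDim.baseToRes]
        rfl }
  exact (AlgEquiv.ofBijective ψ hbij).trdeg_eq

/-- The function field of a smooth curve is separably generated by one element. -/
theorem exists_separable_functionField [Smooth p] (hd : topologicalKrullDim X = 1) :
    letI := funAlg p
    ∃ t : X.functionField, Algebra.IsSeparable k⟮t⟯ X.functionField := by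
  letI := funAlg p
  obtain ⟨V, hV, hxV, -⟩ := exists_isAffineOpen_mem_and_subset (show genericPoint X ∈ (⊤ : X.Opens) from trivial)
  haveI : Nonempty V := ⟨⟨_, hxV⟩⟩
  haveI := functionField_isFractionRing_of_isAffineOpen X V hV
  haveI := essFiniteType_functionField p
  have htr : Algebra.trdeg k X.functionField ≤ 1 := by
    have h : VarDim.sdim p (genericPoint X) = 1 := by
      have h1 := (VarDim.dim_eq_sdim_genericPoint p).symm.trans hd
      exact_mod_cast h1
    rw [trdeg_functionField p, h, Nat.cast_one]
  have h2 : (VarDim.baseToSections p V).Smooth := by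
    have h1 := p.smooth_appLE (isAffineOpen_top (Spec (CommRingCat.of k))) hV (le_top : V ≤ p ⁻¹ᵁ ⊤)
    let e := (Scheme.ΓSpecIso (CommRingCat.of k)).symm.commRingCatIsoToRingEquiv
    exact RingHom.Smooth.comp (RingHom.Smooth.of_bijective e.bijective) h1
  obtain ⟨s, hs, hloc⟩ := h2.locally_isStandardSmooth
  obtain ⟨c, hc, hc0⟩ : ∃ c ∈ s, c ≠ 0 := by
    by_contra h
    push Not at h
    exact bot_ne_top ((le_bot_iff.1 (Ideal.span_le.2 fun c hc => h c hc)).symm.trans hs)
  obtain ⟨n, e, he, hetale⟩ := (hloc c hc).exists_etale_mvPolynomial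
  let B := Localization.Away c
  haveI : IsDomain B := IsLocalization.isDomain_of_le_nonZeroDivisors B (R := Γ(X, V))
    (powers_le_nonZeroDivisors_of_noZeroDivisors hc0)
  have hu : IsUnit (algebraMap Γ(X, V) X.functionField c) :=
    isUnit_iff_ne_zero.2 fun h0 => hc0 (IsFractionRing.injective Γ(X, V) X.functionField (by rw [h0, map_zero]))
  letI : Algebra B X.functionField := (IsLocalization.Away.lift c hu).toAlgebra
  haveI : IsScalarTower Γ(X, V) B X.functionField :=
    IsScalarTower.of_algebraMap_eq fun a => (IsLocalization.Away.lift_eq c hu a).symm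
  haveI : IsFractionRing B X.functionField :=
    IsFractionRing.isFractionRing_of_isDomain_of_isLocalization (Submonoid.powers c) B X.functionField
  refine exists_separable_of_etale B X.functionField e hetale ?_ htr
  rw [he, ← RingHom.comp_assoc, ← IsScalarTower.algebraMap_eq]
  exact (baseStalk_eq_germ_comp p V).symm

end Groth.Agent.Curve17
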