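import Groth.Agent.Lib.Curve17.FunctionField
import Groth.Agent.Lib.Curve17.PurelyInsep
import Groth.Agent.Lib.Curve17.SepGen
import Groth.Agent.Lib.SmoothReg17.Basic
import Mathlib.AlgebraicGeometry.Morphisms.UniversallyInjective
import Mathlib.AlgebraicGeometry.Morphisms.Integral
import Mathlib.Topology.KrullDimension
import Mathlib.AlgebraicGeometry.Morphisms.UnderlyingMap

/-!
# Purely inseparable images of smooth curves are Frobenius twists
-/

set_option autoImplicit false
set_option linter.style.haveILetI false
universe u

open CategoryTheory CategoryTheory.Limits AlgebraicGeometry TopologicalSpace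

namespace Groth.Agent.Curve17

variable {k : Type u} [Field k]

theorem SpecMap_genMap {X Y : Scheme.{u}} [IrreducibleSpace X] [IrreducibleSpace Y] (f : X ⟶ Y)
    (e : f (genericPoint X) = genericPoint Y) :
    Spec.map (genMap f e) ≫ Y.fromSpecStalk (genericPoint Y) =
      X.fromSpecStalk (genericPoint X) ≫ f := by
  rw [genMap, Spec.map_comp, Category.assoc, Scheme.SpecMap_stalkSpecializes_fromSpecStalk,
    Scheme.SpecMap_stalkMap_fromSpecStalk]

theorem genMap_comp {X Y Z : Scheme.{u}} [IrreducibleSpace X] [IrreducibleSpace Y] [IrreducibleSpace Z]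
    (f : X ⟶ Y) (e : f (genericPoint X) = genericPoint Y)
    (g : Y ⟶ Z) (e' : g (genericPoint Y) = genericPoint Z)
    (e'' : (f ≫ g) (genericPoint X) = genericPoint Z) :
    genMap (f ≫ g) e'' = genMap g e' ≫ genMap f e := by
  apply Spec.map_injective
  rw [← cancel_mono (Z.fromSpecStalk (genericPoint Z)), SpecMap_genMap, Spec.map_comp, Category.assoc,
    SpecMap_genMap, ← Category.assoc, ← Category.assoc, SpecMap_genMap]

theorem apply_genericPoint_of_surjective {X Y : Scheme.{u}} [IrreducibleSpace X] [IrreducibleSpace Y]
    (f : X ⟶ Y) (hf : Function.Surjective f) : f (genericPoint X) = genericPoint Y := by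
  have h := (genericPoint_spec X).image f.continuous
  rw [Set.image_univ, hf.range_eq, closure_univ] at h
  exact h.eq (genericPoint_spec Y)

section Frobenius

variable (k) (p r : ℕ) [ExpChar k p]

theorem universallyInjective_iterateFrobenius :
    UniversallyInjective (Spec.map (CommRingCat.ofHom (iterateFrobenius k p r))) := by
  rw [((tfae_universallyInjective (f := Spec.map (CommRingCat.ofHom (iterateFrobenius k p r)))).out 0 1 :
    UniversallyInjective _ ↔ _)]
  intro K _ g₁ g₂ hg
  obtain ⟨σ₁, rfl⟩ := Spec.map_surjective g₁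
  obtain ⟨σ₂, rfl⟩ := Spec.map_surjective g₂
  have h := Spec.map_injective ((Spec.map_comp _ _).trans (hg.trans (Spec.map_comp _ _).symm))
  congr 1
  ext a
  haveI : ExpChar K p := expChar_of_injective_ringHom σ₁.hom.injective p
  have ha : σ₁.hom (a ^ p ^ r) = σ₂.hom (a ^ p ^ r) := by
    have := congrArg (fun t => t.hom a) h
    simpa [iterateFrobenius_def] using this
  rw [map_pow, map_pow] at ha
  exact iterateFrobenius_inj K p r ha

theorem isIntegralHom_iterateFrobenius :
    IsIntegralHom (Spec.map (CommRingCat.ofHom (iterateFrobenius k p r))) := by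
  rw [IsIntegralHom.SpecMap_iff]
  intro x
  refine ⟨Polynomial.X ^ p ^ r - Polynomial.C x,
    Polynomial.monic_X_pow_sub_C x (pow_pos (expChar_pos k p) r).ne', ?_⟩
  simp [iterateFrobenius_def]

theorem isHomeomorph_fst_iterateFrobenius {X : Scheme.{u}} (pX : X ⟶ Spec (CommRingCat.of k)) :
    IsHomeomorph (pullback.fst pX (Spec.map (CommRingCat.ofHom (iterateFrobenius k p r)))) := by
  haveI := universallyInjective_iterateFrobenius k p r
  haveI := isIntegralHom_iterateFrobenius k p r
  haveI : Surjective (Spec.map (CommRingCat.ofHom (iterateFrobenius k p r))) :=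
    ⟨fun y => ⟨IsLocalRing.closedPoint k, Subsingleton.elim (α := PrimeSpectrum k) _ _⟩⟩
  haveI : UniversallyInjective (pullback.fst pX (Spec.map (CommRingCat.ofHom (iterateFrobenius k p r)))) :=
    MorphismProperty.of_isPullback (P := @UniversallyInjective) (IsPullback.of_hasPullback _ _).flip inferInstance
  rw [isHomeomorph_iff_continuous_isClosedMap_bijective]
  exact ⟨Scheme.Hom.continuous _, Scheme.Hom.isClosedMap _, Scheme.Hom.injective _, Scheme.Hom.surjective _⟩

end Frobenius

/-- A normal proper curve purely inseparably dominated by a smooth one is a Frobenius twist of it. -/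
theorem exists_iso_pullback_iterateFrobenius (p : ℕ) [ExpChar k p] {X Y : Scheme.{u}}
    [IsIntegral X] [IsIntegral Y]
    (pX : X ⟶ Spec (CommRingCat.of k)) (pY : Y ⟶ Spec (CommRingCat.of k))
    [IsProper pX] [IsProper pY] [Smooth pX]
    (hdX : topologicalKrullDim X = 1) (hdY : topologicalKrullDim Y = 1)
    (hnY : ∀ y : Y, IsIntegrallyClosed (Y.presheaf.stalk y))
    (f : X ⟶ Y) (hf : f ≫ pY = pX) (e : f (genericPoint X) = genericPoint Y)
    (hpi : letI := (genMap f e).hom.toAlgebra
      IsPurelyInseparable Y.functionField X.functionField) :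
    ∃ (r : ℕ) (i : Y ≅ pullback pX (Spec.map (CommRingCat.ofHom (iterateFrobenius k p r)))),
      i.hom ≫ pullback.snd pX (Spec.map (CommRingCat.ofHom (iterateFrobenius k p r))) = pY := by
  letI := funAlg pX
  letI := funAlg pY
  letI : Algebra Y.functionField X.functionField := (genMap f e).hom.toAlgebra
  haveI : IsScalarTower k Y.functionField X.functionField :=
    IsScalarTower.of_algebraMap_eq' (congrArg CommRingCat.Hom.hom (genMap_baseStalk pX pY f hf e)).symm
  haveI : IsPurelyInseparable Y.functionField X.functionField := hpi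
  haveI := essFiniteType_functionField pX
  obtain ⟨t, ht⟩ := exists_separable_functionField pX hdX
  haveI := ht
  obtain ⟨r, hpow, hrange⟩ := exists_fieldRange_eq_adjoin_pow k Y.functionField X.functionField p t
  haveI : ExpChar X.functionField p := expChar_of_injective_algebraMap (algebraMap k X.functionField).injective p
  refine ⟨r, ?_⟩
  set ψ := CommRingCat.ofHom (iterateFrobenius k p r) with hψ
  let L := X.functionField
  choose ρ₀ hρ₀ using hpow
  have hinj : Function.Injective (algebraMap Y.functionField X.functionField) := RingHom.injective _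
  let ρ : X.functionField →+* Y.functionField :=
    { toFun := ρ₀
      map_one' := hinj (by rw [hρ₀, one_pow, map_one])
      map_mul' := fun a b => hinj (by rw [map_mul, hρ₀, hρ₀, hρ₀, mul_pow])
      map_zero' := hinj (by rw [hρ₀, zero_pow (pow_pos (expChar_pos k p) r).ne', map_zero])
      map_add' := fun a b => hinj (by rw [map_add, hρ₀, hρ₀, hρ₀, add_pow_expChar_pow]) }
  have hρ : CommRingCat.ofHom ρ ≫ genMap f e = CommRingCat.ofHom (iterateFrobenius X.functionField p r) := by
    ext a
    exact (hρ₀ a).trans (iterateFrobenius_def p r a).symm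
  have hbase : baseStalk pX (genericPoint X) ≫ CommRingCat.ofHom ρ = ψ ≫ baseStalk pY (genericPoint Y) := by
    ext c
    apply hinj
    refine (hρ₀ _).trans ?_
    change _ = algebraMap Y.functionField X.functionField (algebraMap k Y.functionField (iterateFrobenius k p r c))
    rw [← IsScalarTower.algebraMap_apply, iterateFrobenius_def, map_pow]
    rfl
  set Z := pullback pX (Spec.map ψ) with hZ
  let pZ : Z ⟶ Spec (CommRingCat.of k) := pullback.snd pX (Spec.map ψ)
  let q : Z ⟶ X := pullback.fst pX (Spec.map ψ)
  have hq : IsHomeomorph q := isHomeomorph_fst_iterateFrobenius k p r pX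
  haveI : Smooth pZ := inferInstanceAs (Smooth (pullback.snd pX (Spec.map ψ)))
  haveI : IsProper pZ := inferInstanceAs (IsProper (pullback.snd pX (Spec.map ψ)))
  haveI : IrreducibleSpace Z := hq.homeomorph.symm.surjective.irreducibleSpace hq.homeomorph.symm.continuous
  haveI : _root_.IsReduced Γ(Spec (CommRingCat.of k), ⊤) := inferInstance
  haveI : IsReduced Z := by
    haveI : ∀ z : Z, _root_.IsReduced (Z.presheaf.stalk z) := fun z =>
      haveI := SmoothReg17.isDomain_stalk pZ z
      inferInstance
    exact isReduced_of_isReduced_stalk Z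
  haveI : IsIntegral Z := isIntegral_of_irreducibleSpace_of_isReduced Z
  have hdZ : topologicalKrullDim Z = 1 := (IsHomeomorph.topologicalKrullDim_eq _ hq).trans hdX
  have hnZ : Pi1.IsNormalScheme Z := fun z =>
    ⟨SmoothReg17.isDomain_stalk pZ z, SmoothReg17.isIntegrallyClosed_stalk pZ z⟩
  have eq : q (genericPoint Z) = genericPoint X := apply_genericPoint_of_surjective q hq.surjective
  let φ : Spec Y.functionField ⟶ Z := pullback.lift (Spec.map (CommRingCat.ofHom ρ) ≫ X.fromSpecStalk (genericPoint X))
    (Y.fromSpecStalk (genericPoint Y) ≫ pY) (by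
      rw [Category.assoc, ← SpecMap_baseStalk, ← SpecMap_baseStalk]
      exact (Spec.map_comp _ _).symm.trans ((congrArg Spec.map hbase).trans (Spec.map_comp _ _)))
  obtain ⟨h, hh, hgen⟩ := exists_hom_of_spec pY pZ (valuationRing_stalk_of_normal pY hdY hnY) φ
    (pullback.lift_snd _ _ _)
  have hgen' : Y.fromSpecStalk (genericPoint Y) ≫ h ≫ q =
      Spec.map (CommRingCat.ofHom ρ) ≫ X.fromSpecStalk (genericPoint X) := by
    rw [← Category.assoc, hgen]; exact pullback.lift_fst _ _ _
  have eh : h (genericPoint Y) = genericPoint Z := by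
    apply hq.injective
    rw [eq]
    have h1 := congrArg (fun g => g (IsLocalRing.closedPoint Y.functionField)) hgen'
    refine ((congrArg (fun y => q (h y)) Scheme.fromSpecStalk_closedPoint).symm.trans h1).trans ?_
    haveI : IsLocalHom ρ := ⟨fun a ha => isUnit_iff_ne_zero.2 fun h0 => by simp [h0] at ha⟩
    exact (congrArg (X.fromSpecStalk (genericPoint X)) (IsLocalRing.comap_closedPoint ρ)).trans
      Scheme.fromSpecStalk_closedPoint
  have eg : (f ≫ h) (genericPoint X) = genericPoint Z := (congrArg h e).trans eh
  have egq : ((f ≫ h) ≫ q) (genericPoint X) = genericPoint X := (congrArg q eg).trans eq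
  have hfrob : genMap q eq ≫ genMap (f ≫ h) eg = CommRingCat.ofHom (iterateFrobenius X.functionField p r) := by
    rw [← genMap_comp (f ≫ h) eg q eq egq, ← hρ]
    apply Spec.map_injective
    rw [← cancel_mono (X.fromSpecStalk (genericPoint X)), SpecMap_genMap]
    refine Eq.trans ?_ ((congrArg (· ≫ X.fromSpecStalk (genericPoint X))
      (Spec.map_comp (CommRingCat.ofHom ρ) (genMap f e))).trans (Category.assoc _ _ _)).symm
    refine Eq.trans ?_ (congrArg (Spec.map (genMap f e) ≫ ·) hgen')
    rw [← Category.assoc (Spec.map (genMap f e)), SpecMap_genMap]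
    simp only [Category.assoc]
  letI := funAlg pZ
  let σ : Z.functionField →ₐ[k] X.functionField :=
    { (genMap (f ≫ h) eg).hom with
      commutes' := fun c =>
        RingHom.congr_fun (congrArg CommRingCat.Hom.hom
          (genMap_baseStalk pX pZ (f ≫ h) (by rw [Category.assoc, hh, hf]) eg)) c }
  have hsurj : Function.Surjective (genMap h eh) := by
    intro b
    have hb : algebraMap Y.functionField X.functionField b ∈
        IntermediateField.adjoin k (Set.range fun a : X.functionField => a ^ p ^ r) := by
      rw [← hrange]; exact ⟨b, rfl⟩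
    have hle : IntermediateField.adjoin k (Set.range fun a : X.functionField => a ^ p ^ r) ≤ σ.fieldRange := by
      rw [IntermediateField.adjoin_le_iff]
      rintro _ ⟨a, rfl⟩
      exact ⟨genMap q eq a, (congrArg (fun t => t.hom a) hfrob).trans (iterateFrobenius_def p r a)⟩
    obtain ⟨z, hz⟩ := hle hb
    refine ⟨z, hinj (Eq.trans ?_ hz)⟩
    exact (congrArg (fun t => t.hom z) (genMap_comp f e h eh eg)).symm
  haveI hiso : IsIso (genMap h eh) := by
    rw [ConcreteCategory.isIso_iff_bijective]
    exact ⟨(show Z.functionField →+* Y.functionField from (genMap h eh).hom).injective, hsurj⟩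
  haveI : IsIso (h.stalkMap (genericPoint Y)) := by
    haveI : IsIso (Z.presheaf.stalkSpecializes (specializes_of_eq eh)) :=
      ⟨Z.presheaf.stalkSpecializes (specializes_of_eq eh.symm), by simp, by simp⟩
    haveI : IsIso (Z.presheaf.stalkSpecializes (specializes_of_eq eh) ≫ h.stalkMap (genericPoint Y)) := hiso
    exact IsIso.of_isIso_comp_left (Z.presheaf.stalkSpecializes (specializes_of_eq eh)) _
  haveI : IsIso h := Groth.Agent.S7830.result k pY pZ hdY hdZ hnZ h hh eh inferInstance
  exact ⟨asIso h, hh⟩

end Groth.Agent.Curve17
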