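import Groth.Agent.Lib.Curve17.ExtendInvMain

/-!
# Invertible modules on opens of factorial affine schemes
-/

set_option autoImplicit false
set_option linter.style.haveILetI false
universe u

open CategoryTheory AlgebraicGeometry TopologicalSpace Opposite IsLocalRing

namespace Groth.Agent.Curve17

open Groth.Agent.M1

variable {X : Scheme.{u}} {F : X.Modules} {U : X.Opens}

/-- On an affine factorial chart, a module invertible on an open has a generator there. -/
theorem exists_generator_ufd {W : X.Opens} (hW : IsAffineOpen W) [IsDomain Γ(X, W)]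
    [UniqueFactorizationMonoid Γ(X, W)] (hUW : U ≤ W)
    (hgen : ∀ p ∈ U, ∃ (D : X.Opens) (g : Γ(F, D)), p ∈ D ∧ Twist.IsGen F D g) :
    ∃ τ : Γ(F, U), Twist.IsGen F U τ := by
  classical
  by_cases hU : ∃ p, p ∈ U
  swap
  · exact ⟨0, Twist.isGen_of_stalk fun p hp => absurd ⟨p, hp⟩ hU⟩
  obtain ⟨p₀, hp₀⟩ := hU
  let η := gen hW
  have hηU : η ∈ U := (gen_specializes hW (hUW hp₀)).mem_open U.2 hp₀
  obtain ⟨D₀, g₀, hηD₀, hg₀⟩ := hgen η hηU
  let e : F.presheaf.stalk η := F.presheaf.germ D₀ η hηD₀ g₀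
  have he : IsGenG F e := hg₀.stalk hηD₀
  obtain ⟨f₀, hf₀D, hf₀η⟩ := hW.exists_basicOpen_le (V := D₀) ⟨η, hηD₀⟩ (gen_mem hW)
  have hf₀ : f₀ ≠ 0 := fun h => by
    subst h
    have hu := (X.mem_basicOpen (0 : Γ(X, W)) η (gen_mem hW)).1 hf₀η
    rw [map_zero] at hu
    exact not_isUnit_zero (M₀ := X.presheaf.stalk (gen hW)) hu
  letI : Field (X.presheaf.stalk η) := (isField_gen hW).toField
  letI : Algebra Γ(X, W) (X.presheaf.stalk η) := (X.presheaf.germ W η (gen_mem hW)).hom.toAlgebra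
  have hinjW : Function.Injective (algebraMap Γ(X, W) (X.presheaf.stalk η)) :=
    (injective_iff_map_eq_zero _).2 fun a ha => (germ_gen_eq_zero_iff hW a).1 ha
  haveI : FaithfulSMul Γ(X, W) (X.presheaf.stalk η) := (faithfulSMul_iff_algebraMap_injective _ _).2 hinjW
  haveI : IsFractionRing Γ(X, W) (X.presheaf.stalk η) := IsFractionRing.of_field _ _ fun z => by
    obtain ⟨a, s, hs, h⟩ := exists_germ_frac hW (gen_mem hW) z
    refine ⟨a, s, ?_⟩
    rw [eq_div_iff]
    · exact h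
    · exact hs.ne_zero
  -- germs and regularity
  have hspec : ∀ {p q : X} (hp : p ∈ W) (hq : q ∈ W),
      (hW.primeIdealOf ⟨q, hq⟩).asIdeal ≤ (hW.primeIdealOf ⟨p, hp⟩).asIdeal → q ⤳ p := fun hp hq h =>
    (specializes_iff_le hW hp hq).2 h
  have hunit : ∀ {p : X} (hp : p ∈ W) (x : X.presheaf.stalk η), UnitAt (hW.primeIdealOf ⟨p, hp⟩).asIdeal x →
      ∃ c : X.presheaf.stalk p, IsUnit c ∧ spO (gen_specializes hW hp) c = x := by
    intro p hp x ⟨a, s, ha, hs, hx⟩
    have hau := (isUnit_germ_iff hW hp a).2 ha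
    have hsu := (isUnit_germ_iff hW hp s).2 hs
    refine ⟨X.presheaf.germ W p hp a * ↑hsu.unit⁻¹, hau.mul (Units.isUnit _), ?_⟩
    have hs0 : spO (gen_specializes hW hp) (X.presheaf.germ W p hp s) ≠ 0 := (hsu.map _).ne_zero
    refine mul_right_cancel₀ hs0 ?_
    conv_lhs => rw [← map_mul, mul_assoc, IsUnit.val_inv_mul, mul_one]
    rw [spO_germ, spO_germ]
    exact hx.symm
  have hunit' : ∀ {p : X} (hp : p ∈ W) (c : X.presheaf.stalk p), IsUnit c →
      UnitAt (hW.primeIdealOf ⟨p, hp⟩).asIdeal (spO (gen_specializes hW hp) c) := by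
    intro p hp c hc
    obtain ⟨a, s, hs, h⟩ := exists_germ_frac hW hp c
    refine ⟨a, s, (isUnit_germ_iff hW hp a).1 (h ▸ hc.mul hs), (isUnit_germ_iff hW hp s).1 hs, ?_⟩
    have h' := congrArg (spO (gen_specializes hW hp)) h
    rw [map_mul, spO_germ, spO_germ] at h'
    exact h'
  -- coefficients
  have hcoef : ∀ p, p ∈ U → ∀ hp : p ∈ W, ∃ u : X.presheaf.stalk η, u ≠ 0 ∧ Good F (u • e) p := by
    intro p hpU hp
    obtain ⟨g, hg⟩ := exists_isGenG hgen hpU
    obtain ⟨u, hu⟩ := he.2 (spF F (gen_specializes hW hp) g)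
    exact ⟨u, (IsGenG.unit_of_smul F he ((show u • e = _ from hu).symm ▸ spF_isGenG hgen hpU _ hg)).ne_zero,
      gen_specializes hW hp, g, hg, hu.symm⟩
  choose u hu0 hu using hcoef
  -- the finitely many height one points to adjust
  have hpt : ∀ π : Γ(X, W), Prime π → ∃ (q : X) (hq : q ∈ W),
      (hW.primeIdealOf ⟨q, hq⟩).asIdeal = Ideal.span {π} := fun π hπ =>
    ⟨hW.fromSpec ⟨_, (Ideal.span_singleton_prime hπ.ne_zero).2 hπ⟩, fromSpec_mem' hW _,
      congrArg PrimeSpectrum.asIdeal (primeIdealOf_fromSpec' hW _)⟩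
  obtain ⟨fs, hfs, hfsd⟩ := UniqueFactorizationMonoid.exists_prime_factors f₀ hf₀
  let J := {q : X | q ∈ U ∧ ∃ π ∈ fs, ∃ hq : q ∈ W, (hW.primeIdealOf ⟨q, hq⟩).asIdeal = Ideal.span {π}}
  have hJfin : J.Finite := by
    refine Set.Finite.subset ((fs.toFinset.finite_toSet).biUnion fun π hπ => Set.Subsingleton.finite
      (s := {q : X | ∃ hq : q ∈ W, (hW.primeIdealOf ⟨q, hq⟩).asIdeal = Ideal.span {π}})
      fun a ⟨ha, ha'⟩ b ⟨hb, hb'⟩ => eq_of_ideal_eq hW hb ha (ha'.trans hb'.symm)) ?_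
    rintro q ⟨-, π, hπ, hq⟩
    exact Set.mem_iUnion₂.2 ⟨π, Multiset.mem_toFinset.2 hπ, hq⟩
  haveI : Finite J := hJfin.to_subtype
  choose π hπfs hπW hπe using fun z : J => z.2.2
  have hπ : ∀ z, Prime (π z) := fun z => hfs _ (hπfs z)
  let x : J → X.presheaf.stalk η := fun z => (u z.1 z.2.1 (hπW z))⁻¹
  obtain ⟨f, hf0, hfJ, hfne⟩ := exists_unitAt_prescribed π hπ (fun i j hij h => hij (Subtype.ext
    (eq_of_ideal_eq hW (hπW j) (hπW i) ((hπe i).trans ((Ideal.span_singleton_eq_span_singleton.2 h).trans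
      (hπe j).symm))))) x fun z => inv_ne_zero (hu0 _ _ _)
  let t := f • e
  have ht : IsGenG F t := IsGenG.smul_unit F he (isUnit_iff_ne_zero.2 hf0)
  have hgood : ∀ p, p ∈ U → Good F t p := by
    intro p hpU
    have hpW : p ∈ W := hUW hpU
    have key : ∀ ρ : Γ(X, W), Prime ρ → ρ ∈ (hW.primeIdealOf ⟨p, hpW⟩).asIdeal →
        UnitAt (Ideal.span {ρ}) (f / u p hpU hpW) := by
      intro ρ hρ hρp
      obtain ⟨q, hq, hqρ⟩ := hpt ρ hρ
      have hqp : q ⤳ p := hspec hpW hq (hqρ ▸ (Ideal.span_singleton_le_iff_mem _).2 hρp)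
      have hqU : q ∈ U := hqp.mem_open U.2 hpU
      -- `t` is good at `q`
      have hqt : Good F t q := by
        by_cases hqJ : q ∈ J
        · have h1 := hfJ ⟨q, hqJ⟩
          rw [← hπe ⟨q, hqJ⟩] at h1
          obtain ⟨c, hc, hcx⟩ := hunit hq _ h1
          have h2 := (hu q hqU hq).smul_unit (gen_specializes hW hq) hc
          rw [hcx, ← mul_smul] at h2
          rwa [show x ⟨q, hqJ⟩ = (u q hqU hq)⁻¹ from rfl, mul_comm _ f, mul_assoc,
            inv_mul_cancel₀ (hu0 q hqU hq), mul_one] at h2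
        · have h1 := hfne ρ hρ fun i hi => hqJ (by
            rw [eq_of_ideal_eq hW (hπW i) hq (hqρ.trans ((Ideal.span_singleton_eq_span_singleton.2 hi).trans
              (hπe i).symm))]
            exact i.2)
          rw [← hqρ] at h1
          have hqD : q ∈ D₀ := hf₀D (by
            rw [X.mem_basicOpen f₀ q hq, isUnit_germ_iff hW hq, hqρ, Ideal.mem_span_singleton]
            intro hdvd
            obtain ⟨π', hπ', hdvd'⟩ := hρ.exists_mem_multiset_dvd (hdvd.trans hfsd.symm.dvd)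
            exact hqJ ⟨hqU, π', hπ', hq, hqρ.trans (Ideal.span_singleton_eq_span_singleton.2
              (hρ.associated_of_dvd (hfs _ hπ') hdvd'))⟩)
          obtain ⟨c, hc, hcx⟩ := hunit hq _ h1
          have h2 := (good_of_section (t := e) (hη := hηD₀) rfl hg₀ hqD (gen_specializes hW hq)).smul_unit
            (gen_specializes hW hq) hc
          rwa [hcx] at h2
      obtain ⟨_, g, hg, hgt⟩ := hqt
      obtain ⟨_, g', hg', hgt'⟩ : Good F (u p hpU hpW • e) q :=
        ((Specializes.mem_open hqp (isOpen_good hgen hW (u p hpU hpW • e)) ⟨hpU, hpW, hu p hpU hpW⟩) :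
          q ∈ {q : X | q ∈ U ∧ q ∈ W ∧ Good F (u p hpU hpW • e) q}).2.2
      obtain ⟨c, hc⟩ := hg'.2 g
      have hcu : IsUnit c := IsGenG.unit_of_smul F hg' ((show c • g' = g from hc).symm ▸ hg)
      have h1 : spO (gen_specializes hW hq) c * u p hpU hpW = f := he.1 (by
        show (_ * _) • e = f • e
        rw [mul_smul, ← show spF F _ g' = _ from hgt', ← spF_smul, show c • g' = g from hc]
        exact hgt)
      rw [← hqρ, ← h1, mul_div_cancel_right₀ _ (hu0 p hpU hpW)]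
      exact hunit' hq c hcu
    have h1 : UnitAt (hW.primeIdealOf ⟨p, hpW⟩).asIdeal (f / u p hpU hpW) := unitAt_of_regAt
      (regAt_of_forall_prime fun ρ hρ hρp => (key ρ hρ hρp).regAt)
      (regAt_of_forall_prime fun ρ hρ hρp => (key ρ hρ hρp).inv.regAt) (div_ne_zero hf0 (hu0 _ _ _))
    obtain ⟨c, hc, hcx⟩ := hunit hpW _ h1
    have h2 := (hu p hpU hpW).smul_unit (gen_specializes hW hpW) hc
    rwa [hcx, ← mul_smul, div_mul_cancel₀ _ (hu0 _ _ _)] at h2
  -- the section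
  have hpred : ∀ p : U, ∃ g : F.presheaf.stalk p.1,
      IsGenG F g ∧ spF F (gen_specializes hW (hUW p.2)) g = t := fun p => by
    obtain ⟨_, g, hg, hgt⟩ := hgood p.1 p.2
    exact ⟨g, hg, hgt⟩
  choose σ hσ hσt using hpred
  obtain ⟨τ, hτ, -⟩ := existsUnique_of_germPred F σ fun p => by
    obtain ⟨D, g, hηD, hpD, hgt, hg⟩ := (hgood p.1 p.2).exists_section hgen p.2
    refine ⟨D ⊓ U, ⟨hpD, p.2⟩, homOfLE inf_le_right, mres F inf_le_left g, fun q => ?_⟩
    refine spF_injective_of_good hW ht (hUW q.2.2) (hgood q.1 q.2.2) ?_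
    show spF F _ (σ ⟨q.1, q.2.2⟩) = _
    rw [hσt ⟨q.1, q.2.2⟩, germ_mres, spF_germ]
    exact hgt.symm
  refine ⟨τ, Twist.isGen_of_stalk fun p hp => ?_⟩
  rw [show F.presheaf.germ U p hp τ = σ ⟨p, hp⟩ from hτ ⟨p, hp⟩]
  exact hσ ⟨p, hp⟩

/-- Invertible modules on opens of a factorial affine scheme are trivial. -/
theorem nonempty_iso_structureModule_of_ufd (hX : IsAffineOpen (⊤ : X.Opens)) [IsDomain Γ(X, ⊤)]
    [UniqueFactorizationMonoid Γ(X, ⊤)] (U : X.Opens) (L : (U : Scheme.{u}).Modules) (hL : PicF.IsInvertible L) :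
    Nonempty (L ≅ Coh.structureModule (U : Scheme.{u})) := by
  let P := (Scheme.Modules.pushforward U.ι).obj L
  let c : P.restrict U.ι ≅ L := asIso ((Scheme.Modules.restrictAdjunction U.ι).counit.app L)
  obtain ⟨τ, hτ⟩ := exists_generator_ufd (F := P) (U := U) hX le_top fun p hp => by
    refine exists_isGen_of_restrict U.ι P (fun y => ?_) ⟨p, hp⟩
    obtain ⟨D, hD, ⟨e⟩⟩ := hL y
    exact ⟨D, hD, ⟨(Scheme.Modules.restrictFunctor D.ι).mapIso c ≪≫ e⟩⟩
  obtain ⟨e⟩ := Twist.nonempty_restrict_iso P U τ hτ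
  exact ⟨c.symm ≪≫ e⟩

end Groth.Agent.Curve17
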