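import Groth.Agent.Lib.Curve17.ExtendInv
import Groth.Agent.Lib.Twist.UniversalExist

/-!
# Invertible modules extend across points with factorial local rings
-/

set_option autoImplicit false
set_option linter.style.haveILetI false
universe u

open CategoryTheory CategoryTheory.Limits AlgebraicGeometry TopologicalSpace Opposite

namespace Groth.Agent.Curve17

open Groth.Agent.M1

variable {X : Scheme.{u}}

/-- Generators of the restriction give generators. -/
theorem exists_isGen_of_restrict {Y : Scheme.{u}} (j : Y ⟶ X) [IsOpenImmersion j] (F : X.Modules)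
    (h : PicF.IsInvertible (F.restrict j)) (y : Y) :
    ∃ (D : X.Opens) (g : Γ(F, D)), j y ∈ D ∧ Twist.IsGen F D g := by
  obtain ⟨D, g, hyD, hg⟩ := ProjUP.exists_isGen_of_invertible h y
  refine ⟨j ''ᵁ D, g, ⟨y, hyD, rfl⟩, fun V hV => ?_⟩
  obtain ⟨W, hW, rfl⟩ : ∃ W : Y.Opens, W ≤ D ∧ j ''ᵁ W = V := by
    refine ⟨j ⁻¹ᵁ V, fun z hz => ?_, ?_⟩
    · obtain ⟨z', hz', h⟩ := hV hz
      exact j.isOpenEmbedding.injective h ▸ hz'
    · rw [Scheme.Hom.image_preimage_eq_opensRange_inf, inf_eq_right]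
      exact fun z hz => ⟨(hV hz).choose, (hV hz).choose_spec.2⟩
  have key : ∀ r : Γ(X, j ''ᵁ W), (r • mres F hV g : Γ(F, j ''ᵁ W)) =
      ((j.appIso W).hom r : Γ(Y, W)) • mres (F.restrict j) hW g := fun r => by
    show _ = ((j.appIso W).inv ((j.appIso W).hom r) : Γ(X, j ''ᵁ W)) • mres F (Scheme.Hom.image_mono _ hW) g
    rw [Iso.hom_inv_id_apply]
  simp only [key]
  exact (hg W hW).comp ((ConcreteCategory.isIso_iff_bijective (j.appIso W).hom).1 inferInstance)

theorem mres_bijective_of_le (M : X.Modules) {U V : X.Opens} (h : V ≤ U) (h' : U ≤ V) :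
    Function.Bijective (mres M h) := by
  refine ⟨fun a b e => ?_, fun b => ⟨mres M h' b, by rw [mres_mres, mres_id]⟩⟩
  have e' := congrArg (mres M h') e
  rwa [mres_mres, mres_mres, mres_id, mres_id] at e'

theorem subsingleton_sections_of_empty (M : X.Modules) (T : X.Opens) (h : T ≤ ⊥) :
    Subsingleton Γ(M, T) :=
  ⟨fun a b => modules_eq_of_locally_eq M T (fun i : PEmpty.{u+1} => i.elim) (fun i => i.elim)
    (h.trans bot_le) a b fun i => i.elim⟩

theorem subsingleton_pushforward {Y : Scheme.{u}} (j : Y ⟶ X) [IsOpenImmersion j] (M : Y.Modules)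
    (T : X.Opens) (h : Disjoint (T : Set X) (Set.range j)) :
    Subsingleton Γ((Scheme.Modules.pushforward j).obj M, T) :=
  subsingleton_sections_of_empty M (j ⁻¹ᵁ T) fun z hz => Set.disjoint_left.1 h hz ⟨z, rfl⟩

/-- Sections of a biproduct are pairs. -/
theorem biprod_app_bijective (P Q : X.Modules) (T : X.Opens) :
    Function.Bijective fun m : Γ(P ⊞ Q, T) =>
      ((biprod.fst : P ⊞ Q ⟶ P).app T m, (biprod.snd : P ⊞ Q ⟶ Q).app T m) := by
  have htot : ∀ m : Γ(P ⊞ Q, T), (biprod.inl : P ⟶ P ⊞ Q).app T ((biprod.fst : P ⊞ Q ⟶ P).app T m) +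
      (biprod.inr : Q ⟶ P ⊞ Q).app T ((biprod.snd : P ⊞ Q ⟶ Q).app T m) = m := fun m => by
    have h := congrArg (fun φ : (P ⊞ Q) ⟶ (P ⊞ Q) => φ.app T m) (biprod.total (X := P) (Y := Q))
    exact h
  refine ⟨fun m m' h => ?_, fun ab =>
    ⟨(biprod.inl : P ⟶ P ⊞ Q).app T ab.1 + (biprod.inr : Q ⟶ P ⊞ Q).app T ab.2, ?_⟩⟩
  · rw [← htot m, ← htot m', (Prod.mk.inj h).1, (Prod.mk.inj h).2]
  · have h1 := congrArg (fun φ : P ⟶ P => φ.app T ab.1) (biprod.inl_fst (X := P) (Y := Q))
    have h2 := congrArg (fun φ : Q ⟶ P => φ.app T ab.2) (biprod.inr_fst (X := P) (Y := Q))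
    have h3 := congrArg (fun φ : P ⟶ Q => φ.app T ab.1) (biprod.inl_snd (X := P) (Y := Q))
    have h4 := congrArg (fun φ : Q ⟶ Q => φ.app T ab.2) (biprod.inr_snd (X := P) (Y := Q))
    simp only [Scheme.Modules.Hom.comp_app, Scheme.Modules.Hom.zero_app, Scheme.Modules.Hom.id_app,
      CategoryTheory.comp_apply] at h1 h2 h3 h4
    refine Prod.ext ?_ ?_
    · show (biprod.fst : P ⊞ Q ⟶ P).app T _ = ab.1
      rw [map_add, h1, h2]
      exact add_zero _
    · show (biprod.snd : P ⊞ Q ⟶ Q).app T _ = ab.2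
      rw [map_add, h3, h4]
      exact zero_add _

theorem fst_app_bijective (P Q : X.Modules) (T : X.Opens) (hQ : Subsingleton Γ(Q, T)) :
    Function.Bijective ((biprod.fst : P ⊞ Q ⟶ P).app T) := by
  refine ⟨fun a b h => (biprod_app_bijective P Q T).1 (Prod.ext h (Subsingleton.elim _ _)), fun c => ?_⟩
  obtain ⟨m, hm⟩ := (biprod_app_bijective P Q T).2 (c, 0)
  exact ⟨m, congrArg Prod.fst hm⟩

theorem snd_app_bijective (P Q : X.Modules) (T : X.Opens) (hP : Subsingleton Γ(P, T)) :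
    Function.Bijective ((biprod.snd : P ⊞ Q ⟶ Q).app T) := by
  refine ⟨fun a b h => (biprod_app_bijective P Q T).1 (Prod.ext (Subsingleton.elim _ _) h), fun c => ?_⟩
  obtain ⟨m, hm⟩ := (biprod_app_bijective P Q T).2 (0, c)
  exact ⟨m, congrArg Prod.snd hm⟩

theorem disjoint_image_range {Y : Scheme.{u}} {U : X.Opens} (j : Y ⟶ X) [IsOpenImmersion j]
    (h : Disjoint (U : Set X) (Set.range j)) (W : (U : Scheme.{u}).Opens) :
    Disjoint ((U.ι ''ᵁ W : X.Opens) : Set X) (Set.range j) :=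
  h.mono_left (by rintro x ⟨z, -, rfl⟩; exact z.2)

theorem isIso_restrict_map {Y : Scheme.{u}} (j : Y ⟶ X) [IsOpenImmersion j] {M N : X.Modules} (φ : M ⟶ N)
    (h : ∀ W : Y.Opens, Function.Bijective (φ.app (j ''ᵁ W))) :
    IsIso ((Scheme.Modules.restrictFunctor j).map φ) :=
  Twist.isIso_of_bijective_app _ fun W => h W

theorem image_ι_le (U : X.Opens) (W : (U : Scheme.{u}).Opens) : U.ι ''ᵁ W ≤ U := by
  rintro x ⟨z, -, rfl⟩
  exact z.2

theorem nonempty_restrict_iso_of_bijective {Y : Scheme.{u}} (j : Y ⟶ X) [IsOpenImmersion j] {M N : X.Modules}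
    {L : Y.Modules} (φ : M ⟶ N) (e : N.restrict j ≅ L)
    (h : ∀ W : Y.Opens, Function.Bijective (φ.app (j ''ᵁ W))) : Nonempty (M.restrict j ≅ L) := by
  haveI := isIso_restrict_map j φ h
  exact ⟨asIso ((Scheme.Modules.restrictFunctor j).map φ) ≪≫ e⟩

/-- An invertible module on an open extends, if the local rings outside are factorial. -/
theorem exists_extension [IsLocallyNoetherian X] (U : X.Opens)
    (L : (U : Scheme.{u}).Modules) (hL : PicF.IsInvertible L)
    (hufd : ∀ x : X, x ∉ U → UniqueFactorizationMonoid (X.presheaf.stalk x)) :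
    ∃ L' : X.Modules, PicF.IsInvertible L' ∧ Nonempty (L'.restrict U.ι ≅ L) := by
  classical
  let U₀ : X.Opens := ⟨interior (U : Set X)ᶜ, isOpen_interior⟩
  have hdisj : Disjoint (U : Set X) (U₀ : Set X) :=
    (disjoint_compl_right (a := (U : Set X))).mono_right interior_subset
  have hr : Set.range U.ι = (U : Set X) := Scheme.Opens.range_ι U
  have hr₀ : Set.range U₀.ι = (U₀ : Set X) := Scheme.Opens.range_ι U₀
  let U' : X.Opens := U ⊔ U₀
  let P := (Scheme.Modules.pushforward U.ι).obj L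
  let Q := (Scheme.Modules.pushforward U₀.ι).obj (Coh.structureModule (U₀ : Scheme.{u}))
  let F : X.Modules := P ⊞ Q
  have hdense : Dense (U' : Set X) := by
    show Dense ((U : Set X) ∪ interior (U : Set X)ᶜ)
    rw [interior_compl, dense_iff_closure_eq, closure_union, Set.eq_univ_iff_forall]
    intro x
    by_cases h : x ∈ closure (U : Set X)
    · exact Or.inl h
    · exact Or.inr (subset_closure h)
  have hfst : ∀ W : (U : Scheme.{u}).Opens,
      Function.Bijective ((biprod.fst : F ⟶ P).app (U.ι ''ᵁ W)) := fun W =>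
    fst_app_bijective P Q _ (subsingleton_pushforward U₀.ι _ _
      (disjoint_image_range _ (by rw [hr₀]; exact hdisj) W))
  have hsnd : ∀ W : (U₀ : Scheme.{u}).Opens,
      Function.Bijective ((biprod.snd : F ⟶ Q).app (U₀.ι ''ᵁ W)) := fun W =>
    snd_app_bijective P Q _ (subsingleton_pushforward U.ι _ _
      (disjoint_image_range _ (by rw [hr]; exact hdisj.symm) W))
  haveI : IsIso ((Scheme.Modules.restrictFunctor U.ι).map (biprod.fst : F ⟶ P)) :=
    Twist.isIso_of_bijective_app _ fun W => hfst W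
  haveI : IsIso ((Scheme.Modules.restrictFunctor U₀.ι).map (biprod.snd : F ⟶ Q)) :=
    Twist.isIso_of_bijective_app _ fun W => hsnd W
  let eU : F.restrict U.ι ≅ L := asIso ((Scheme.Modules.restrictFunctor U.ι).map (biprod.fst : F ⟶ P)) ≪≫
    asIso ((Scheme.Modules.restrictAdjunction U.ι).counit.app L)
  let e₀ : F.restrict U₀.ι ≅ Coh.structureModule (U₀ : Scheme.{u}) :=
    asIso ((Scheme.Modules.restrictFunctor U₀.ι).map (biprod.snd : F ⟶ Q)) ≪≫
    asIso ((Scheme.Modules.restrictAdjunction U₀.ι).counit.app _)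
  have hgen : ∀ p ∈ U', ∃ (D : X.Opens) (g : Γ(F, D)), p ∈ D ∧ Twist.IsGen F D g := by
    intro p hp
    rcases hp with hp | hp
    · refine exists_isGen_of_restrict U.ι F (fun y => ?_) ⟨p, hp⟩
      obtain ⟨D, hD, ⟨e⟩⟩ := hL y
      exact ⟨D, hD, ⟨(Scheme.Modules.restrictFunctor D.ι).mapIso eU ≪≫ e⟩⟩
    · refine exists_isGen_of_restrict U₀.ι F (fun y => ?_) ⟨p, hp⟩
      exact ⟨⊤, trivial, ⟨(Scheme.Modules.restrictFunctor (⊤ : (U₀ : Scheme.{u}).Opens).ι).mapIso e₀ ≪≫
        Scheme.Modules.restrictUnitIso _⟩⟩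
  have hbij : ∀ T : X.Opens, Function.Bijective (mres F (inf_le_left : T ⊓ U' ≤ T)) := by
    intro T
    have hP : Function.Bijective (mres P (inf_le_left : T ⊓ U' ≤ T)) :=
      mres_bijective_of_le L (U.ι.preimage_mono inf_le_left) fun z hz => ⟨hz, Or.inl z.2⟩
    have hQ : Function.Bijective (mres Q (inf_le_left : T ⊓ U' ≤ T)) :=
      mres_bijective_of_le (Coh.structureModule (U₀ : Scheme.{u})) (U₀.ι.preimage_mono inf_le_left)
        fun z hz => ⟨hz, Or.inr z.2⟩
    refine ⟨fun a b h => (biprod_app_bijective P Q T).1 (Prod.ext (hP.1 ?_) (hQ.1 ?_)), fun c => ?_⟩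
    · show mres P _ ((biprod.fst : F ⟶ P).app T a) = mres P _ ((biprod.fst : F ⟶ P).app T b)
      rw [← app_mres, ← app_mres, h]
    · show mres Q _ ((biprod.snd : F ⟶ Q).app T a) = mres Q _ ((biprod.snd : F ⟶ Q).app T b)
      rw [← app_mres, ← app_mres, h]
    · obtain ⟨a, ha⟩ := hP.2 ((biprod.fst : F ⟶ P).app _ c)
      obtain ⟨b, hb⟩ := hQ.2 ((biprod.snd : F ⟶ Q).app _ c)
      obtain ⟨m, hm⟩ := (biprod_app_bijective P Q T).2 (a, b)
      refine ⟨m, (biprod_app_bijective P Q _).1 (Prod.ext ?_ ?_)⟩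
      · show (biprod.fst : F ⟶ P).app _ (mres F _ m) = _
        rw [app_mres, show (biprod.fst : F ⟶ P).app T m = a from congrArg Prod.fst hm, ha]
      · show (biprod.snd : F ⟶ Q).app _ (mres F _ m) = _
        rw [app_mres, show (biprod.snd : F ⟶ Q).app T m = b from congrArg Prod.snd hm, hb]
  let C := latt F U'
  let L' := subMod F C
  have hι : ∀ T : X.Opens, T ≤ U' → Function.Bijective ((subι F C).app T) := fun T hT =>
    ⟨subι_injective F C T, fun m => (exists_preimage_iff F C m).2 fun z hz => mem_latt_of_mem F (hT hz) _⟩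
  refine ⟨L', fun x => ?_, ?_⟩
  · by_cases hx : x ∈ U'
    · obtain ⟨D, g, hxD, hg⟩ := hgen x hx
      obtain ⟨s, hs⟩ := (hι (D ⊓ U') inf_le_right).2 (mres F inf_le_left g)
      refine ⟨D ⊓ U', ⟨hxD, hx⟩, Twist.nonempty_restrict_iso L' _ s fun V hV => ?_⟩
      have key : ∀ r : Γ(X, V), (subι F C).app V (r • mres L' hV s) = r • mres F (hV.trans inf_le_left) g := by
        intro r
        rw [Scheme.Modules.Hom.app_smul, app_mres, hs, mres_mres]
      refine ((hι V (hV.trans inf_le_right)).of_comp_iff' _).1 ?_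
      rw [show ⇑((subι F C).app V) ∘ (fun r : Γ(X, V) => r • mres L' hV s) =
        fun r => r • mres F (hV.trans inf_le_left) g from funext key]
      exact hg V _
    · obtain ⟨V, s, hxV, hs⟩ := exists_generator (F := F) hgen hdense
        (fun x hx => hufd x fun h => hx (Or.inl h)) hbij hx
      exact ⟨V, hxV, Twist.nonempty_restrict_iso L' V s hs⟩
  · exact nonempty_restrict_iso_of_bijective U.ι (subι F C) eU fun W =>
      hι _ ((image_ι_le U W).trans le_sup_left)

end Groth.Agent.Curve17
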