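import Groth.Agent.Lib.Curve17.UFDLattice
import Groth.Agent.Lib.ModM1.Stalk
import Mathlib.AlgebraicGeometry.FunctionField
import Mathlib.AlgebraicGeometry.Noetherian
import Mathlib.RingTheory.Ideal.MinimalPrime.Noetherian

/-!
# Local rings along an affine open with integral coordinate ring
-/

set_option autoImplicit false
set_option linter.style.haveILetI false
universe u

open CategoryTheory AlgebraicGeometry TopologicalSpace Opposite IsLocalRing

namespace Groth.Agent.Curve17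

open Groth.Agent.M1

variable {X : Scheme.{u}}

/-- Specialisation of germs of functions. -/
noncomputable abbrev spO {p q : X} (h : q ⤳ p) : X.presheaf.stalk p →+* X.presheaf.stalk q :=
  (X.presheaf.stalkSpecializes h).hom

/-- Specialisation of germs of sections of a module. -/
noncomputable abbrev spF (F : X.Modules) {p q : X} (h : q ⤳ p) :
    (F.presheaf.stalk p : Type u) →+ (F.presheaf.stalk q : Type u) :=
  (F.presheaf.stalkSpecializes h).hom

theorem spO_germ {p q : X} (h : q ⤳ p) (U : X.Opens) (hp : p ∈ U) (a : Γ(X, U)) :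
    spO h (X.presheaf.germ U p hp a) = X.presheaf.germ U q (h.mem_open U.2 hp) a :=
  X.presheaf.germ_stalkSpecializes_apply hp h a

theorem spF_germ (F : X.Modules) {p q : X} (h : q ⤳ p) (U : X.Opens) (hp : p ∈ U) (a : Γ(F, U)) :
    spF F h (F.presheaf.germ U p hp a) = F.presheaf.germ U q (h.mem_open U.2 hp) a :=
  F.presheaf.germ_stalkSpecializes_apply hp h a

theorem spO_spO {p q r : X} (h : q ⤳ p) (h' : r ⤳ q) (c : X.presheaf.stalk p) :
    spO h' (spO h c) = spO (h'.trans h) c := by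
  obtain ⟨V, hV, a, rfl⟩ := X.presheaf.exists_germ_eq c
  rw [spO_germ, spO_germ, spO_germ]

theorem spF_spF (F : X.Modules) {p q r : X} (h : q ⤳ p) (h' : r ⤳ q) (v : F.presheaf.stalk p) :
    spF F h' (spF F h v) = spF F (h'.trans h) v := by
  obtain ⟨V, hV, a, rfl⟩ := F.presheaf.exists_germ_eq v
  rw [spF_germ, spF_germ, spF_germ]

theorem spF_smul (F : X.Modules) {p q : X} (h : q ⤳ p) (c : X.presheaf.stalk p) (v : F.presheaf.stalk p) :
    spF F h (c • v) = spO h c • spF F h v := by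
  obtain ⟨V, hV, a, rfl⟩ := X.presheaf.exists_germ_eq c
  obtain ⟨V', hV', m, rfl⟩ := F.presheaf.exists_germ_eq v
  rw [← X.presheaf.germ_res_apply (homOfLE (inf_le_left : V ⊓ V' ≤ V)) p ⟨hV, hV'⟩ a,
    ← F.presheaf.germ_res_apply (homOfLE (inf_le_right : V ⊓ V' ≤ V')) p ⟨hV, hV'⟩ m, ← germ_smul,
    spF_germ, spF_germ, spO_germ, germ_smul]

section chart

variable {W : X.Opens} (hW : IsAffineOpen W)

theorem isUnit_germ_iff {p : X} (hp : p ∈ W) (a : Γ(X, W)) :
    IsUnit (X.presheaf.germ W p hp a) ↔ a ∉ (hW.primeIdealOf ⟨p, hp⟩).asIdeal := by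
  letI := X.presheaf.algebra_section_stalk (U := W) ⟨p, hp⟩
  haveI := hW.isLocalization_stalk ⟨p, hp⟩
  exact IsLocalization.AtPrime.isUnit_to_map_iff (X.presheaf.stalk p) (hW.primeIdealOf ⟨p, hp⟩).asIdeal a

include hW in
theorem exists_germ_frac {p : X} (hp : p ∈ W) (z : X.presheaf.stalk p) :
    ∃ a s : Γ(X, W), IsUnit (X.presheaf.germ W p hp s) ∧
      z * X.presheaf.germ W p hp s = X.presheaf.germ W p hp a := by
  letI := X.presheaf.algebra_section_stalk (U := W) ⟨p, hp⟩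
  haveI := hW.isLocalization_stalk ⟨p, hp⟩
  obtain ⟨⟨a, s⟩, h⟩ := IsLocalization.surj (hW.primeIdealOf ⟨p, hp⟩).asIdeal.primeCompl z
  exact ⟨a, s, IsLocalization.map_units (X.presheaf.stalk p) s, h⟩

theorem fromSpec_mem' (P : PrimeSpectrum Γ(X, W)) : hW.fromSpec P ∈ W := by
  rw [← SetLike.mem_coe, ← hW.range_fromSpec]; exact ⟨P, rfl⟩

theorem primeIdealOf_fromSpec' (P : PrimeSpectrum Γ(X, W)) :
    hW.primeIdealOf ⟨hW.fromSpec P, fromSpec_mem' hW P⟩ = P :=
  hW.fromSpec.isOpenEmbedding.injective (hW.fromSpec_primeIdealOf ⟨_, fromSpec_mem' hW P⟩)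

theorem specializes_iff_le {p q : X} (hp : p ∈ W) (hq : q ∈ W) :
    q ⤳ p ↔ (hW.primeIdealOf ⟨q, hq⟩).asIdeal ≤ (hW.primeIdealOf ⟨p, hp⟩).asIdeal := by
  refine Iff.trans ?_ (PrimeSpectrum.le_iff_specializes _ _).symm
  have h := hW.fromSpec.isOpenEmbedding.isInducing.specializes_iff (x := hW.primeIdealOf ⟨q, hq⟩)
    (y := hW.primeIdealOf ⟨p, hp⟩)
  rw [hW.fromSpec_primeIdealOf, hW.fromSpec_primeIdealOf] at h
  exact h

theorem eq_of_ideal_eq {p q : X} (hp : p ∈ W) (hq : q ∈ W)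
    (h : (hW.primeIdealOf ⟨q, hq⟩).asIdeal = (hW.primeIdealOf ⟨p, hp⟩).asIdeal) : q = p :=
  ((specializes_iff_le hW hp hq).2 h.le).antisymm ((specializes_iff_le hW hq hp).2 h.ge) |>.eq

variable [IsDomain Γ(X, W)]

/-- The generic point of the chart. -/
noncomputable def gen : X := hW.fromSpec (⟨⊥, Ideal.isPrime_bot⟩ : PrimeSpectrum Γ(X, W))

theorem gen_mem : gen hW ∈ W := fromSpec_mem' hW _

theorem primeIdealOf_gen : (hW.primeIdealOf ⟨gen hW, gen_mem hW⟩).asIdeal = ⊥ :=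
  congrArg PrimeSpectrum.asIdeal (primeIdealOf_fromSpec' hW ⟨⊥, Ideal.isPrime_bot⟩)

theorem gen_specializes {p : X} (hp : p ∈ W) : gen hW ⤳ p := by
  rw [specializes_iff_le hW hp (gen_mem hW), primeIdealOf_gen hW]; exact bot_le

theorem eq_gen_of_specializes {p : X} (h : p ⤳ gen hW) : p = gen hW := by
  have hp : p ∈ W := h.mem_open W.2 (gen_mem hW)
  refine eq_of_ideal_eq hW (gen_mem hW) hp ?_
  rw [primeIdealOf_gen hW]
  exact le_bot_iff.1 ((primeIdealOf_gen hW) ▸ (specializes_iff_le hW (gen_mem hW) hp).1 h)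

theorem germ_gen_eq_zero_iff (a : Γ(X, W)) : X.presheaf.germ W (gen hW) (gen_mem hW) a = 0 ↔ a = 0 := by
  refine ⟨fun h => ?_, fun h => by rw [h, map_zero]⟩
  by_contra ha
  have := (isUnit_germ_iff hW (gen_mem hW) a).2 (by rw [primeIdealOf_gen hW]; exact ha)
  rw [h] at this
  exact not_isUnit_zero this

theorem isField_gen : IsField (X.presheaf.stalk (gen hW)) := by
  refine ⟨⟨0, 1, zero_ne_one⟩, mul_comm, fun {z} hz => ?_⟩
  obtain ⟨a, s, hs, h⟩ := exists_germ_frac hW (gen_mem hW) z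
  have ha : a ≠ 0 := fun h0 => hz (hs.mul_left_eq_zero.1 (by rw [h, h0, map_zero]))
  have hu : IsUnit (z * X.presheaf.germ W (gen hW) (gen_mem hW) s) :=
    h ▸ (isUnit_germ_iff hW (gen_mem hW) a).2 (by rw [primeIdealOf_gen hW]; exact ha)
  exact (isUnit_of_mul_isUnit_left hu).exists_right_inv

theorem spO_injective {p : X} (hp : p ∈ W) : Function.Injective (spO (gen_specializes hW hp)) := by
  rw [injective_iff_map_eq_zero]
  intro z hz
  obtain ⟨a, s, hs, h⟩ := exists_germ_frac hW hp z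
  have h1 := congrArg (spO (gen_specializes hW hp)) h
  rw [map_mul, hz, zero_mul, spO_germ] at h1
  rw [(germ_gen_eq_zero_iff hW a).1 h1.symm, map_zero] at h
  exact hs.mul_left_eq_zero.1 h

end chart

section at_point

variable {W : X.Opens} (hW : IsAffineOpen W) [IsDomain Γ(X, W)] {y : X} (hy : y ∈ W)

/-- The prime of the local ring at `y` attached to a generisation. -/
noncomputable def primeAt {p : X} (h : p ⤳ y) : Ideal (X.presheaf.stalk y) :=
  (maximalIdeal (X.presheaf.stalk p)).comap (spO h)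

instance {p : X} (h : p ⤳ y) : (primeAt h).IsPrime := by
  rw [primeAt]; exact Ideal.comap_isPrime _ _

include hW hy in
theorem comap_primeAt {p : X} (h : p ⤳ y) :
    (primeAt h).comap (X.presheaf.germ W y hy).hom = (hW.primeIdealOf ⟨p, h.mem_open W.2 hy⟩).asIdeal := by
  ext a
  rw [primeAt, Ideal.mem_comap, Ideal.mem_comap, IsLocalRing.mem_maximalIdeal, mem_nonunits_iff, spO_germ,
    isUnit_germ_iff hW, not_not]

include hW hy in
theorem exists_point (P : Ideal (X.presheaf.stalk y)) [P.IsPrime] :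
    ∃ (p : X) (h : p ⤳ y), primeAt h = P := by
  letI := X.presheaf.algebra_section_stalk (U := W) ⟨y, hy⟩
  haveI := hW.isLocalization_stalk ⟨y, hy⟩
  let Q : PrimeSpectrum Γ(X, W) := ⟨P.comap (X.presheaf.germ W y hy).hom, Ideal.comap_isPrime _ _⟩
  have hle : Q.asIdeal ≤ (hW.primeIdealOf ⟨y, hy⟩).asIdeal := by
    intro a ha
    by_contra hn
    exact ‹P.IsPrime›.ne_top (Ideal.eq_top_of_isUnit_mem P ha ((isUnit_germ_iff hW hy a).2 hn))
  have h : hW.fromSpec Q ⤳ y := by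
    rw [specializes_iff_le hW hy (fromSpec_mem' hW Q), primeIdealOf_fromSpec' hW Q]; exact hle
  refine ⟨hW.fromSpec Q, h, ?_⟩
  rw [← IsLocalization.map_under (hW.primeIdealOf ⟨y, hy⟩).asIdeal.primeCompl (X.presheaf.stalk y) (primeAt h),
    ← IsLocalization.map_under (hW.primeIdealOf ⟨y, hy⟩).asIdeal.primeCompl (X.presheaf.stalk y) P]
  congr 1
  exact (comap_primeAt hW hy h).trans (congrArg PrimeSpectrum.asIdeal (primeIdealOf_fromSpec' hW Q))

include hW hy in
theorem specializes_of_primeAt_le {p q : X} (hp : p ⤳ y) (hq : q ⤳ y) (h : primeAt hq ≤ primeAt hp) :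
    q ⤳ p := by
  rw [specializes_iff_le hW (hp.mem_open W.2 hy) (hq.mem_open W.2 hy), ← comap_primeAt hW hy hp,
    ← comap_primeAt hW hy hq]
  exact Ideal.comap_mono h

theorem primeAt_mono {p q : X} (hp : p ⤳ y) (h : q ⤳ p) : primeAt (h.trans hp) ≤ primeAt hp := by
  intro a ha
  rw [primeAt, Ideal.mem_comap, IsLocalRing.mem_maximalIdeal, mem_nonunits_iff] at ha ⊢
  intro hu
  exact ha (by rw [← spO_spO hp h]; exact hu.map _)

include hW hy in
theorem eq_of_primeAt_eq {p q : X} (hp : p ⤳ y) (hq : q ⤳ y) (h : primeAt hq = primeAt hp) : q = p :=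
  ((specializes_of_primeAt_le hW hy hp hq h.le).antisymm (specializes_of_primeAt_le hW hy hq hp h.ge)).eq

theorem primeAt_gen : primeAt (gen_specializes hW hy) = ⊥ := by
  rw [eq_bot_iff]
  intro a ha
  refine (Submodule.mem_bot _).2 (spO_injective hW hy ?_)
  rw [map_zero]
  by_contra hne
  obtain ⟨b, hb⟩ := (isField_gen hW).mul_inv_cancel hne
  exact ha (isUnit_iff_exists_inv.2 ⟨b, hb⟩)

theorem primeAt_self : primeAt (specializes_rfl : y ⤳ y) = maximalIdeal (X.presheaf.stalk y) := by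
  ext a
  obtain ⟨V, hV, b, rfl⟩ := X.presheaf.exists_germ_eq a
  rw [primeAt, Ideal.mem_comap, spO_germ]

include hW hy in
theorem exists_codimOne [IsDomain (X.presheaf.stalk y)] [UniqueFactorizationMonoid (X.presheaf.stalk y)]
    {π : X.presheaf.stalk y} (hπ : Prime π) :
    ∃ (q : X) (h : q ⤳ y), primeAt h = Ideal.span {π} ∧
      (gen hW ≠ q ∧ gen hW ⤳ q ∧ ∀ p, p ⤳ q → p = q ∨ p = gen hW) := by
  haveI := (Ideal.span_singleton_prime hπ.ne_zero).2 hπ
  obtain ⟨q, h, hq⟩ := exists_point hW hy (Ideal.span {π})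
  refine ⟨q, h, hq, fun e => ?_, gen_specializes hW (h.mem_open W.2 hy), fun p hp => ?_⟩
  · subst e
    exact hπ.ne_zero (Ideal.span_singleton_eq_bot.1 (hq.symm.trans (primeAt_gen hW hy)))
  · by_cases hb : primeAt (hp.trans h) = ⊥
    · exact Or.inr (eq_of_primeAt_eq hW hy (gen_specializes hW hy) (hp.trans h) (hb.trans (primeAt_gen hW hy).symm))
    · obtain ⟨ρ, hρ, hρp⟩ := Ideal.IsPrime.exists_mem_prime_of_ne_bot inferInstance hb
      have hle : primeAt (hp.trans h) ≤ Ideal.span {π} := hq ▸ primeAt_mono h hp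
      refine Or.inl (eq_of_primeAt_eq hW hy h (hp.trans h) (le_antisymm (hq ▸ hle) ?_))
      rw [hq, Ideal.span_singleton_le_iff_mem]
      obtain ⟨u, hu⟩ := (hπ.associated_of_dvd hρp (Ideal.mem_span_singleton.1 (hle hρ))).symm
      rw [← hu]
      exact Ideal.mul_mem_right _ _ hρ

end at_point

/-- A point with domain local ring on a locally Noetherian scheme has an integral affine neighbourhood. -/
theorem exists_integral_chart [IsLocallyNoetherian X] (x : X) [IsDomain (X.presheaf.stalk x)] :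
    ∃ W : X.Opens, IsAffineOpen W ∧ x ∈ W ∧ IsDomain Γ(X, W) ∧ IsNoetherianRing Γ(X, W) := by
  obtain ⟨V, hV, hxV, -⟩ := exists_isAffineOpen_mem_and_subset (show x ∈ (⊤ : X.Opens) from trivial)
  haveI := IsLocallyNoetherian.component_noetherian (X := X) ⟨V, hV⟩
  letI := X.presheaf.algebra_section_stalk (U := V) ⟨x, hxV⟩
  haveI := hV.isLocalization_stalk ⟨x, hxV⟩
  let Q := (hV.primeIdealOf ⟨x, hxV⟩).asIdeal
  obtain ⟨S, hS⟩ := IsNoetherian.noetherian (RingHom.ker (algebraMap Γ(X, V) (X.presheaf.stalk x)))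
  have hk : ∀ a ∈ S, ∃ c : Q.primeCompl, (c : Γ(X, V)) * a = 0 := fun a ha =>
    (IsLocalization.map_eq_zero_iff Q.primeCompl (X.presheaf.stalk x) a).1
      (RingHom.mem_ker.1 (hS ▸ Ideal.subset_span ha))
  choose c hc using hk
  let C : Γ(X, V) := ∏ a ∈ S.attach, (c a.1 a.2 : Γ(X, V))
  have hCQ : C ∈ Q.primeCompl := Submonoid.prod_mem _ fun a _ => (c a.1 a.2).2
  have hker : ∀ a, algebraMap Γ(X, V) (X.presheaf.stalk x) a = 0 → C * a = 0 := fun a ha => by
    have hle : Ideal.span (S : Set Γ(X, V)) ≤ Submodule.comap (LinearMap.mulLeft Γ(X, V) C) (⊥ : Ideal Γ(X, V)) :=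
      Ideal.span_le.2 fun b hb => (Submodule.mem_bot Γ(X, V)).2 (by
        obtain ⟨d, hd⟩ := Finset.dvd_prod_of_mem (fun a : S => (c a.1 a.2 : Γ(X, V)))
          (Finset.mem_attach S ⟨b, hb⟩)
        change C * b = 0
        rw [show C = (c b hb : Γ(X, V)) * d from hd, mul_comm _ d, mul_assoc, hc b hb, mul_zero])
    exact (Submodule.mem_bot Γ(X, V)).1 (hle ((congrArg (a ∈ ·) hS).mpr (RingHom.mem_ker.2 ha)))
  have hxW : x ∈ X.basicOpen C := by
    rw [X.mem_basicOpen C x hxV]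
    exact IsLocalization.map_units (X.presheaf.stalk x) (⟨C, hCQ⟩ : Q.primeCompl)
  refine ⟨X.basicOpen C, hV.basicOpen C, hxW, ?_, IsLocallyNoetherian.component_noetherian (X := X) ⟨_, hV.basicOpen C⟩⟩
  letI : Algebra Γ(X, V) Γ(X, X.basicOpen C) := (X.presheaf.map (homOfLE (X.basicOpen_le C)).op).hom.toAlgebra
  haveI : IsLocalization.Away C Γ(X, X.basicOpen C) := hV.isLocalization_basicOpen C
  refine Function.Injective.isDomain (X.presheaf.germ (X.basicOpen C) x hxW).hom ?_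
  rw [injective_iff_map_eq_zero]
  intro z hz
  obtain ⟨⟨a, ⟨_, m, rfl⟩⟩, ha⟩ := IsLocalization.surj (Submonoid.powers C) z
  have h1 : algebraMap Γ(X, V) (X.presheaf.stalk x) a = 0 := by
    have h2 := congrArg (X.presheaf.germ (X.basicOpen C) x hxW) ha
    rw [map_mul, hz, zero_mul] at h2
    exact (X.presheaf.germ_res_apply (homOfLE (X.basicOpen_le C)) x hxW a).symm.trans h2.symm
  have h3 : algebraMap Γ(X, V) Γ(X, X.basicOpen C) a = 0 :=
    (IsLocalization.map_eq_zero_iff (Submonoid.powers C) Γ(X, X.basicOpen C) a).2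
      ⟨⟨C, Submonoid.mem_powers C⟩, hker a h1⟩
  exact (IsLocalization.map_units Γ(X, X.basicOpen C) (⟨C ^ m, m, rfl⟩ : Submonoid.powers C)).mul_left_eq_zero.1
    (ha.trans h3)

/-- The complement of an open in a Noetherian chart has finitely many generic points. -/
theorem exists_finite_generic_chart {W : X.Opens} (hW : IsAffineOpen W) [IsNoetherianRing Γ(X, W)]
    (O : X.Opens) : ∃ G : Set X, G.Finite ∧ (∀ g ∈ G, g ∈ W ∧ g ∉ O) ∧
      ∀ p ∈ W, p ∉ O → ∃ g ∈ G, g ⤳ p := by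
  let Z : Set (PrimeSpectrum Γ(X, W)) := hW.fromSpec ⁻¹' (O : Set X)ᶜ
  have hZ : IsClosed Z := O.2.isClosed_compl.preimage hW.fromSpec.continuous
  obtain ⟨I, hI⟩ := (PrimeSpectrum.isClosed_iff_zeroLocus_ideal Z).1 hZ
  refine ⟨hW.fromSpec '' {P | P.asIdeal ∈ I.minimalPrimes}, ?_, ?_, fun p hp hpO => ?_⟩
  · refine Set.Finite.image _ ?_
    exact (I.finite_minimalPrimes_of_isNoetherianRing).preimage fun P _ Q _ h => PrimeSpectrum.ext h
  · rintro _ ⟨P, hP, rfl⟩
    refine ⟨fromSpec_mem' hW P, ?_⟩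
    have : P ∈ Z := hI ▸ hP.1.2
    exact this
  · have hpZ : hW.primeIdealOf ⟨p, hp⟩ ∈ Z := by
      change hW.fromSpec _ ∈ (O : Set X)ᶜ
      rw [hW.fromSpec_primeIdealOf]
      exact hpO
    rw [hI] at hpZ
    obtain ⟨P, hP, hle⟩ := Ideal.exists_minimalPrimes_le (hpZ : I ≤ (hW.primeIdealOf ⟨p, hp⟩).asIdeal)
    refine ⟨hW.fromSpec ⟨P, hP.1.1⟩, ⟨⟨P, hP.1.1⟩, hP, rfl⟩, ?_⟩
    rw [specializes_iff_le hW hp (fromSpec_mem' hW _), primeIdealOf_fromSpec' hW]
    exact hle

end Groth.Agent.Curve17
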