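import Groth.Agent.Lib.Curve17.Basic
import Groth.Agent.Lib.SmoothReg17.Basic
import Mathlib.AlgebraicGeometry.Morphisms.Separated
import Mathlib.AlgebraicGeometry.Stalk

/-!
# Birational morphisms of curves
-/

set_option autoImplicit false
set_option linter.style.haveILetI false
universe u

open CategoryTheory AlgebraicGeometry TopologicalSpace Order

namespace Groth.Agent.Curve17

variable {X Y : Scheme.{u}}

/-- A local homomorphism out of a valuation ring into a domain is surjective as soon as every element
of the target is a quotient of elements of the source. -/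
theorem surjective_of_valuationRing {A B : Type u} [CommRing A] [IsDomain A] [ValuationRing A]
    [CommRing B] [IsDomain B] (φ : A →+* B) [IsLocalHom φ] (hinj : Function.Injective φ)
    (h : ∀ b, ∃ a s, s ≠ 0 ∧ φ a = φ s * b) : Function.Surjective φ := by
  intro b
  obtain ⟨a, s, hs, hab⟩ := h b
  have hφs : φ s ≠ 0 := fun h0 => hs (hinj (by rw [h0, map_zero]))
  obtain ⟨t, ht⟩ := ValuationRing.cond a s
  rcases ht with ht | ht
  · rcases eq_or_ne a 0 with rfl | ha
    · exact absurd (by simpa using ht.symm) hs
    have hφa : φ a ≠ 0 := fun h0 => ha (hinj (by rw [h0, map_zero]))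
    have h1 : φ t * b = 1 := by
      refine mul_left_cancel₀ hφa ?_
      rw [mul_one, ← mul_assoc, ← map_mul, ht, ← hab]
    have hu : IsUnit t := isUnit_of_map_unit φ t ((isUnit_iff_exists_inv).2 ⟨b, h1⟩)
    obtain ⟨v, rfl⟩ := hu
    refine ⟨↑v⁻¹, ?_⟩
    calc φ ↑v⁻¹ = φ ↑v⁻¹ * (φ ↑v * b) := by rw [h1, mul_one]
      _ = b := by rw [← mul_assoc, ← map_mul, Units.inv_mul, map_one, one_mul]
  · refine ⟨t, mul_left_cancel₀ hφs ?_⟩
    rw [← map_mul, ht, hab]

/-- The map of function fields of a dominant morphism of integral schemes. -/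
noncomputable def genMap [IrreducibleSpace X] [IrreducibleSpace Y] (f : X ⟶ Y)
    (e : f (genericPoint X) = genericPoint Y) :
    Y.presheaf.stalk (genericPoint Y) ⟶ X.presheaf.stalk (genericPoint X) :=
  Y.presheaf.stalkSpecializes (specializes_of_eq e) ≫ f.stalkMap (genericPoint X)

theorem stalkMap_comp_specializes [IrreducibleSpace X] [IrreducibleSpace Y] (f : X ⟶ Y)
    (e : f (genericPoint X) = genericPoint Y) (x : X) :
    f.stalkMap x ≫ X.presheaf.stalkSpecializes (genericPoint_specializes x) =
      Y.presheaf.stalkSpecializes (genericPoint_specializes (f x)) ≫ genMap f e := by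
  rw [genMap, ← Category.assoc, TopCat.Presheaf.stalkSpecializes_comp]
  exact (Scheme.Hom.stalkSpecializes_stalkMap f (genericPoint X) x (genericPoint_specializes x)).symm

/-- A birational morphism of integral schemes has bijective stalk maps at points over which
the target has valuation rings as stalks. -/
theorem bijective_stalkMap_of_birational [IsIntegral X] [IsIntegral Y] (f : X ⟶ Y)
    (e : f (genericPoint X) = genericPoint Y) (hbir : Function.Bijective (genMap f e))
    (x : X) (hv : ValuationRing (Y.presheaf.stalk (f x))) : Function.Bijective (f.stalkMap x) := by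
  refine ⟨stalkMap_injective f e x, ?_⟩
  haveI : IsLocalHom (f.stalkMap x).hom := inferInstance
  refine surjective_of_valuationRing (f.stalkMap x).hom (stalkMap_injective f e x) fun b => ?_
  obtain ⟨z, hz⟩ := hbir.2 (X.presheaf.stalkSpecializes (genericPoint_specializes x) b)
  obtain ⟨a, s, hs, hzs⟩ := IsFractionRing.div_surjective (Y.presheaf.stalk (f x)) z
  refine ⟨a, s, nonZeroDivisors.ne_zero hs, ?_⟩
  have hinjX : Function.Injective (X.presheaf.stalkSpecializes (genericPoint_specializes x)) :=
    IsFractionRing.injective (X.presheaf.stalk x) X.functionField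
  apply hinjX
  have key : ∀ c, X.presheaf.stalkSpecializes (genericPoint_specializes x) (f.stalkMap x c) =
      genMap f e (algebraMap (Y.presheaf.stalk (f x)) Y.functionField c) := fun c => by
    rw [← CommRingCat.comp_apply, stalkMap_comp_specializes f e x]
    rfl
  rw [map_mul, key, key, ← hz, ← map_mul]
  congr 1
  rw [← hzs]
  exact (mul_div_cancel₀ (algebraMap (Y.presheaf.stalk (f x)) Y.functionField a)
    (IsFractionRing.to_map_ne_zero_of_mem_nonZeroDivisors (K := Y.functionField) hs)).symm

/-- A birational separated morphism of curves with valuation rings as stalks of the target is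
injective. -/
theorem injective_of_birational [IsIntegral X] [IsIntegral Y] (f : X ⟶ Y) [IsSeparated f]
    (e : f (genericPoint X) = genericPoint Y)
    (hiso : ∀ x, IsIso (f.stalkMap x)) : Function.Injective f := by
  intro x₁ x₂ h
  haveI := hiso x₁; haveI := hiso x₂; haveI := hiso (genericPoint X)
  have hsp : f x₂ ⤳ f x₁ := specializes_of_eq h.symm
  have hsp' : f x₁ ⤳ f x₂ := specializes_of_eq h
  let h₂ : Y.presheaf.stalk (f x₁) ⟶ X.presheaf.stalk x₂ :=
    Y.presheaf.stalkSpecializes hsp ≫ f.stalkMap x₂
  haveI : IsIso (Y.presheaf.stalkSpecializes hsp) :=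
    ⟨Y.presheaf.stalkSpecializes hsp', by simp, by simp⟩
  let g₁ : Spec (Y.presheaf.stalk (f x₁)) ⟶ X := Spec.map (inv (f.stalkMap x₁)) ≫ X.fromSpecStalk x₁
  let g₂ : Spec (Y.presheaf.stalk (f x₁)) ⟶ X := Spec.map (inv h₂) ≫ X.fromSpecStalk x₂
  have e1 : g₁ ≫ f = Y.fromSpecStalk (f x₁) := by
    simp [g₁, ← Scheme.SpecMap_stalkMap_fromSpecStalk]
  have e2 : g₂ ≫ f = Y.fromSpecStalk (f x₁) := by
    simp only [g₂, Category.assoc, ← Scheme.SpecMap_stalkMap_fromSpecStalk, ← Spec.map_comp_assoc]
    have : f.stalkMap x₂ ≫ inv h₂ = Y.presheaf.stalkSpecializes hsp' := by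
      rw [IsIso.comp_inv_eq]
      simp [h₂]
    rw [this, Scheme.SpecMap_stalkSpecializes_fromSpecStalk]
  let ι : Spec Y.functionField ⟶ Spec (Y.presheaf.stalk (f x₁)) :=
    Spec.map (Y.presheaf.stalkSpecializes (genericPoint_specializes (f x₁)))
  haveI : IsDominant ι := by
    have hinj : Function.Injective (Y.presheaf.stalkSpecializes (genericPoint_specializes (f x₁))) :=
      IsFractionRing.injective (Y.presheaf.stalk (f x₁)) Y.functionField
    refine ⟨?_⟩
    exact (PrimeSpectrum.denseRange_comap_iff_ker_le_nilRadical _).2 (by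
      rw [(RingHom.injective_iff_ker_eq_bot _).1 hinj]; exact bot_le)
  haveI : IsIso (genMap f e) := by
    haveI : IsIso (Y.presheaf.stalkSpecializes (specializes_of_eq e)) :=
      ⟨Y.presheaf.stalkSpecializes (specializes_of_eq e.symm), by simp, by simp⟩
    unfold genMap; infer_instance
  have c1 : inv (f.stalkMap x₁) ≫ Y.presheaf.stalkSpecializes (genericPoint_specializes (f x₁)) =
      X.presheaf.stalkSpecializes (genericPoint_specializes x₁) ≫ inv (genMap f e) := by
    rw [IsIso.inv_comp_eq, ← Category.assoc, IsIso.eq_comp_inv, stalkMap_comp_specializes f e x₁]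
  have c2 : inv h₂ ≫ Y.presheaf.stalkSpecializes (genericPoint_specializes (f x₁)) =
      X.presheaf.stalkSpecializes (genericPoint_specializes x₂) ≫ inv (genMap f e) := by
    rw [IsIso.inv_comp_eq, ← Category.assoc, IsIso.eq_comp_inv]
    simp only [h₂, Category.assoc, stalkMap_comp_specializes f e x₂,
      TopCat.Presheaf.stalkSpecializes_comp_assoc]
  have hι : ι ≫ g₁ = ι ≫ g₂ := by
    simp only [ι, g₁, g₂, ← Spec.map_comp_assoc, c1, c2]
    simp only [Spec.map_comp, Category.assoc, Scheme.SpecMap_stalkSpecializes_fromSpecStalk]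
  have hg : g₁ = g₂ := ext_of_isDominant_of_isSeparated f (e1.trans e2.symm) ι hι
  have p1 : g₁ (IsLocalRing.closedPoint _) = x₁ := by
    show X.fromSpecStalk x₁ ((Spec.map (inv (f.stalkMap x₁))) _) = x₁
    exact (congrArg (X.fromSpecStalk x₁) (IsLocalRing.comap_closedPoint _)).trans
      Scheme.fromSpecStalk_closedPoint
  have p2 : g₂ (IsLocalRing.closedPoint _) = x₂ := by
    show X.fromSpecStalk x₂ ((Spec.map (inv h₂)) _) = x₂
    haveI : IsLocalHom (inv h₂).hom := isLocalHom_of_isIso _
    exact (congrArg (X.fromSpecStalk x₂) (IsLocalRing.comap_closedPoint _)).trans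
      Scheme.fromSpecStalk_closedPoint
  rw [← p1, hg, p2]

end Groth.Agent.Curve17
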