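import Groth.Agent.Lib.Curve17.IntChart
import Groth.Agent.Lib.Curve17.SubSheaf
import Groth.Agent.Lib.Twist.Gen
import Groth.Agent.Lib.Twist.Triv
import Groth.Prelude.Def_Pic

/-!
# Extending invertible modules across points with factorial local rings
-/

set_option autoImplicit false
set_option linter.style.haveILetI false
universe u

open CategoryTheory AlgebraicGeometry TopologicalSpace Opposite IsLocalRing

namespace Groth.Agent.Curve17

open Groth.Agent.M1

variable {X : Scheme.{u}} (F : X.Modules)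

/-- A generator of a stalk. -/
def IsGenG {p : X} (g : F.presheaf.stalk p) : Prop :=
  Function.Bijective fun c : X.presheaf.stalk p => c • g

theorem IsGenG.smul_unit {p : X} {g : F.presheaf.stalk p} (hg : IsGenG F g) {c : X.presheaf.stalk p}
    (hc : IsUnit c) : IsGenG F (c • g) := by
  obtain ⟨c, rfl⟩ := hc
  refine ⟨fun a b h => ?_, fun v => ?_⟩
  · simp only [← mul_smul] at h
    exact c.isUnit.mul_left_inj.1 (hg.1 h)
  · obtain ⟨a, ha⟩ := hg.2 v
    exact ⟨a * ↑c⁻¹, by simp only [← mul_smul, mul_assoc, Units.inv_mul, mul_one]; exact ha⟩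

theorem IsGenG.unit_of_smul {p : X} {g : F.presheaf.stalk p} (hg : IsGenG F g) {c : X.presheaf.stalk p}
    (h : IsGenG F (c • g)) : IsUnit c := by
  obtain ⟨d, hd⟩ := h.2 g
  refine isUnit_iff_exists_inv'.2 ⟨d, hg.1 ?_⟩
  simp only [mul_smul, one_smul]
  exact hd

open scoped Classical in
/-- A chosen generator of the stalk, when there is one. -/
noncomputable def eGen (η : X) : F.presheaf.stalk η :=
  if h : ∃ g : F.presheaf.stalk η, IsGenG F g then h.choose else 0

/-- `η` is the only proper generisation of `z`. -/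
def CodimOne (z η : X) : Prop := η ≠ z ∧ η ⤳ z ∧ ∀ p, p ⤳ z → p = z ∨ p = η

/-- The lattices at the points of codimension one outside `U`. -/
noncomputable def latt (U : X.Opens) (z : X) : Submodule (X.presheaf.stalk z) (F.presheaf.stalk z) where
  carrier := {v | z ∉ U → ∀ (η : X) (h : η ⤳ z), CodimOne z η →
    ∃ r : X.presheaf.stalk z, spF F h v = spO h r • eGen F η}
  zero_mem' := fun _ η h _ => ⟨0, by rw [map_zero, map_zero, zero_smul]⟩
  add_mem' := by
    intro a b ha hb hz η h hc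
    obtain ⟨r, hr⟩ := ha hz η h hc
    obtain ⟨s, hs⟩ := hb hz η h hc
    exact ⟨r + s, by rw [map_add, map_add, add_smul, hr, hs]⟩
  smul_mem' := by
    intro c a ha hz η h hc
    obtain ⟨r, hr⟩ := ha hz η h hc
    exact ⟨c * r, by rw [spF_smul, hr, map_mul, mul_smul]⟩

theorem mem_latt_of_mem {U : X.Opens} {z : X} (hz : z ∈ U) (v : F.presheaf.stalk z) : v ∈ latt F U z :=
  fun h => absurd hz h

/-- `t` comes from a generator at `p`. -/
def Good {η : X} (t : F.presheaf.stalk η) (p : X) : Prop :=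
  ∃ (h : η ⤳ p) (g : F.presheaf.stalk p), IsGenG F g ∧ spF F h g = t

variable {F} {U : X.Opens} (hgen : ∀ p ∈ U, ∃ (D : X.Opens) (g : Γ(F, D)), p ∈ D ∧ Twist.IsGen F D g)

include hgen in
theorem exists_isGenG {p : X} (hp : p ∈ U) : ∃ g : F.presheaf.stalk p, IsGenG F g := by
  obtain ⟨D, g, hD, hg⟩ := hgen p hp
  exact ⟨_, hg.stalk hD⟩

include hgen in
theorem spF_isGenG {p q : X} (hp : p ∈ U) (h : q ⤳ p) {g : F.presheaf.stalk p} (hg : IsGenG F g) :
    IsGenG F (spF F h g) := by
  obtain ⟨D, g₀, hD, hg₀⟩ := hgen p hp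
  obtain ⟨c, hc⟩ := (hg₀.stalk hD).2 g
  have hc' : c • F.presheaf.germ D p hD g₀ = g := hc
  have hu : IsUnit c := IsGenG.unit_of_smul F (hg₀.stalk hD) (hc'.symm ▸ hg)
  rw [← hc', spF_smul, spF_germ]
  exact IsGenG.smul_unit F (hg₀.stalk (h.mem_open D.2 hD)) (hu.map _)

include hgen in
/-- Near a good point, `t` is given by a generating section. -/
theorem Good.exists_section {η : X} {t : F.presheaf.stalk η} {p : X} (hp : p ∈ U) (hG : Good F t p) :
    ∃ (D : X.Opens) (g : Γ(F, D)) (hη : η ∈ D), p ∈ D ∧ F.presheaf.germ D η hη g = t ∧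
      Twist.IsGen F D g := by
  obtain ⟨h, g, hg, ht⟩ := hG
  obtain ⟨D, g₀, hD, hg₀⟩ := hgen p hp
  obtain ⟨c, hc⟩ := (hg₀.stalk hD).2 g
  have hc' : c • F.presheaf.germ D p hD g₀ = g := hc
  have hu : IsUnit c := IsGenG.unit_of_smul F (hg₀.stalk hD) (hc'.symm ▸ hg)
  obtain ⟨V, hpV, r, rfl⟩ := X.presheaf.exists_germ_eq c
  let D' := X.basicOpen r ⊓ D
  have hpD : p ∈ D' := ⟨(X.mem_basicOpen r p hpV).2 hu, hD⟩
  let r' : Γ(X, D') := X.presheaf.map (homOfLE (inf_le_left.trans (X.basicOpen_le r) : D' ≤ V)).op r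
  have hr' : ∀ (q : X) (hq : q ∈ D'), X.presheaf.germ D' q hq r' = X.presheaf.germ V q ((X.basicOpen_le r) hq.1) r :=
    fun q hq => X.presheaf.germ_res_apply _ q hq r
  refine ⟨D', r' • mres F (inf_le_right : D' ≤ D) g₀, h.mem_open D'.2 hpD, hpD, ?_, ?_⟩
  · rw [← ht, ← hc', spF_smul, spF_germ, spO_germ, germ_smul, germ_mres, hr']
  · refine Twist.isGen_of_stalk fun q hq => ?_
    rw [germ_smul, germ_mres, hr']
    exact IsGenG.smul_unit F (hg₀.stalk hq.2) ((X.mem_basicOpen r q (X.basicOpen_le r hq.1)).1 hq.1)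

theorem good_of_section {η : X} {t : F.presheaf.stalk η} {D : X.Opens} {g : Γ(F, D)} {hη : η ∈ D}
    (ht : F.presheaf.germ D η hη g = t) (hg : Twist.IsGen F D g) {p : X} (hp : p ∈ D) (h : η ⤳ p) :
    Good F t p :=
  ⟨h, _, hg.stalk hp, by rw [spF_germ]; exact ht⟩

theorem Good.smul_unit {η p : X} {t : F.presheaf.stalk η} (hG : Good F t p) (h : η ⤳ p)
    {c : X.presheaf.stalk p} (hc : IsUnit c) : Good F (spO h c • t) p := by
  obtain ⟨_, g, hg, ht⟩ := hG
  exact ⟨h, c • g, IsGenG.smul_unit F hg hc, by rw [spF_smul, ht]⟩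

section chart

variable {W : X.Opens} (hW : IsAffineOpen W) [IsDomain Γ(X, W)]

include hgen in
/-- The good locus of `t` inside `U ⊓ W`. -/
theorem isOpen_good (t : F.presheaf.stalk (gen hW)) :
    IsOpen {p : X | p ∈ U ∧ p ∈ W ∧ Good F t p} := by
  rw [isOpen_iff_forall_mem_open]
  rintro p ⟨hpU, hpW, hG⟩
  obtain ⟨D, g, hη, hpD, ht, hg⟩ := hG.exists_section hgen hpU
  exact ⟨(D ⊓ U ⊓ W : X.Opens), fun q hq => ⟨hq.1.2, hq.2, good_of_section ht hg hq.1.1 (gen_specializes hW hq.2)⟩,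
    (D ⊓ U ⊓ W).2, ⟨⟨hpD, hpU⟩, hpW⟩⟩

/-- Generators at good points have zero torsion. -/
theorem eq_of_smul_eq {t : F.presheaf.stalk (gen hW)} (ht : IsGenG F t) {p : X} (hpW : p ∈ W)
    {c d : X.presheaf.stalk p}
    (h : spO (gen_specializes hW hpW) c • t = spO (gen_specializes hW hpW) d • t) : c = d :=
  spO_injective hW hpW (ht.1 h)

/-- Specialisation to the generic point is injective on stalks at good points. -/
theorem spF_injective_of_good {t : F.presheaf.stalk (gen hW)} (ht : IsGenG F t) {p : X} (hpW : p ∈ W)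
    (hG : Good F t p) : Function.Injective (spF F (gen_specializes hW hpW)) := by
  obtain ⟨h, g, hg, hgt⟩ := hG
  intro a b hab
  obtain ⟨c, rfl⟩ := hg.2 a
  obtain ⟨d, rfl⟩ := hg.2 b
  rw [spF_smul, spF_smul, show spF F (gen_specializes hW hpW) g = t from hgt] at hab
  rw [eq_of_smul_eq hW ht hpW hab]

end chart

variable [IsLocallyNoetherian X] (hdense : Dense (U : Set X))
  (hufd : ∀ x : X, x ∉ U → UniqueFactorizationMonoid (X.presheaf.stalk x))
  (hbij : ∀ T : X.Opens, Function.Bijective (mres F (inf_le_left : T ⊓ U ≤ T)))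

include hgen hdense hufd hbij in
/-- Near a point outside `U` the lattice submodule has a generator. -/
theorem exists_generator {y : X} (hy : y ∉ U) :
    ∃ (V : X.Opens) (s : Γ(subMod F (latt F U), V)), y ∈ V ∧ Twist.IsGen (subMod F (latt F U)) V s := by
  haveI := hufd y hy
  haveI : IsDomain (X.presheaf.stalk y) := IsDomain.mk
  obtain ⟨W, hW, hyW, hdom, hnoeth⟩ := exists_integral_chart y
  haveI := hdom
  haveI := hnoeth
  let η := gen hW
  have hη : η ⤳ y := gen_specializes hW hyW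
  have hηU : η ∈ U := by
    obtain ⟨q, hqW, hqU⟩ := hdense.inter_open_nonempty W W.2 ⟨y, hyW⟩
    exact (gen_specializes hW hqW).mem_open U.2 hqU
  let e := eGen F η
  have he : IsGenG F e := by
    have h := exists_isGenG hgen hηU
    simp only [e, eGen, dif_pos h]
    exact h.choose_spec
  -- the field of fractions of the local ring at `y`
  letI : Field (X.presheaf.stalk η) := (isField_gen hW).toField
  letI : Algebra (X.presheaf.stalk y) (X.presheaf.stalk η) := (spO hη).toAlgebra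
  have hinjy : Function.Injective (algebraMap (X.presheaf.stalk y) (X.presheaf.stalk η)) :=
    spO_injective hW hyW
  haveI : FaithfulSMul (X.presheaf.stalk y) (X.presheaf.stalk η) :=
    (faithfulSMul_iff_algebraMap_injective _ _).2 hinjy
  haveI : IsFractionRing (X.presheaf.stalk y) (X.presheaf.stalk η) := IsFractionRing.of_field _ _ fun z => by
    obtain ⟨a, s, hs, h⟩ := exists_germ_frac hW (gen_mem hW) z
    refine ⟨X.presheaf.germ W y hyW a, X.presheaf.germ W y hyW s, ?_⟩
    rw [eq_div_iff]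
    · change z * spO hη _ = spO hη _
      rw [spO_germ, spO_germ]; exact h
    · change spO hη _ ≠ 0
      rw [spO_germ]; exact hs.ne_zero
  -- coefficients with respect to `e`
  have hcoef : ∀ p, p ∈ U → ∀ hp : p ∈ W, ∃ u : X.presheaf.stalk η, u ≠ 0 ∧ Good F (u • e) p := by
    intro p hpU hp
    obtain ⟨g, hg⟩ := exists_isGenG hgen hpU
    obtain ⟨u, hu⟩ := he.2 (spF F (gen_specializes hW hp) g)
    exact ⟨u, (IsGenG.unit_of_smul F he ((show u • e = _ from hu).symm ▸ spF_isGenG hgen hpU _ hg)).ne_zero,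
      gen_specializes hW hp, g, hg, hu.symm⟩
  choose u hu0 hu using hcoef
  -- translating stalks at generisations of `y`
  have hunit : ∀ {p : X} (hp : p ⤳ y) (x : X.presheaf.stalk η), UnitAt (primeAt hp) x →
      ∃ c : X.presheaf.stalk p, IsUnit c ∧ spO (gen_specializes hW (hp.mem_open W.2 hyW)) c = x := by
    intro p hp x ⟨a, s, ha, hs, hx⟩
    have hsu : IsUnit (spO hp s) := not_not.1 fun h => hs h
    have hau : IsUnit (spO hp a) := not_not.1 fun h => ha h
    refine ⟨spO hp a * ↑hsu.unit⁻¹, hau.mul (Units.isUnit _), ?_⟩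
    have hs0 : spO hη s ≠ 0 := by
      rw [← spO_spO hp (gen_specializes hW (hp.mem_open W.2 hyW))]
      exact (hsu.map _).ne_zero
    refine mul_right_cancel₀ hs0 (Eq.trans ?_ hx.symm)
    conv_lhs => rw [← spO_spO hp (gen_specializes hW (hp.mem_open W.2 hyW)), ← map_mul, mul_assoc,
      IsUnit.val_inv_mul, mul_one, spO_spO]
    rfl
  -- codimension one points
  have hηmem : ∀ (O : X.Opens) (p : X), p ∈ W → p ∈ O → η ∈ O := fun O p hp hpO =>
    (gen_specializes hW hp).mem_open O.2 hpO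
  let O₁ : X.Opens := ⟨{p | p ∈ U ∧ p ∈ W ∧ Good F e p}, isOpen_good hgen hW e⟩
  have hηGood : ∀ (t : F.presheaf.stalk η), IsGenG F t → Good F t η := fun t ht =>
    ⟨specializes_rfl, t, ht, by
      obtain ⟨V, hV, m, rfl⟩ := F.presheaf.exists_germ_eq t
      rw [spF_germ]⟩
  have hηO₁ : η ∈ O₁ := ⟨hηU, gen_mem hW, hηGood e he⟩
  obtain ⟨G, hGfin, hG, hGcov⟩ := exists_finite_generic_chart hW O₁
  let J := {z : X | z ∈ G ∧ z ⤳ y ∧ CodimOne z η}
  haveI : Finite J := (hGfin.subset fun z hz => hz.1).to_subtype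
  have hJπ : ∀ z : J, ∃ π : X.presheaf.stalk y, Prime π ∧ primeAt z.2.2.1 = Ideal.span {π} := by
    intro z
    have hne : primeAt z.2.2.1 ≠ ⊥ := fun hb =>
      z.2.2.2.1 (eq_of_primeAt_eq hW hyW hη z.2.2.1 (hb.trans (primeAt_gen hW hyW).symm)).symm
    obtain ⟨π, hπP, hπ⟩ := Ideal.IsPrime.exists_mem_prime_of_ne_bot inferInstance hne
    obtain ⟨q, hq, hqe, hqc⟩ := exists_codimOne hW hyW hπ
    have hqz : q ⤳ z.1 := specializes_of_primeAt_le hW hyW z.2.2.1 hq
      (hqe ▸ (Ideal.span_singleton_le_iff_mem _).2 hπP)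
    rcases z.2.2.2.2.2 q hqz with h | h
    · subst h; exact ⟨π, hπ, hqe⟩
    · exact absurd h.symm hqc.1
  choose π hπ hπz using hJπ
  classical
  let x : J → X.presheaf.stalk η := fun z =>
    if h : z.1 ∈ U then (u z.1 h (hG z.1 z.2.1).1)⁻¹ else 1
  have hx : ∀ z, x z ≠ 0 := fun z => by
    simp only [x]; split_ifs with h
    · exact inv_ne_zero (hu0 _ _ _)
    · exact one_ne_zero
  obtain ⟨f, hf0, hfJ, hfne⟩ := exists_unitAt_prescribed π hπ (fun i j hij h => hij (Subtype.ext
    (eq_of_primeAt_eq hW hyW j.2.2.1 i.2.2.1 ((hπz i).trans ((Ideal.span_singleton_eq_span_singleton.2 h).trans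
      (hπz j).symm))))) x hx
  let t := f • e
  have ht : IsGenG F t := IsGenG.smul_unit F he (isUnit_iff_ne_zero.2 hf0)
  -- behaviour of `t` at codimension one points
  have hcod : ∀ (q : X) (hq : q ⤳ y) (ρ : X.presheaf.stalk y), Prime ρ → primeAt hq = Ideal.span {ρ} →
      CodimOne q η → (q ∈ U → Good F t q) ∧ (q ∉ U → UnitAt (primeAt hq) f) := by
    intro q hq ρ hρ hqρ hc
    have hqW : q ∈ W := hq.mem_open W.2 hyW
    by_cases hqJ : q ∈ J
    · let z : J := ⟨q, hqJ⟩
      have h1 := hfJ z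
      rw [← hπz z] at h1
      refine ⟨fun hqU => ?_, fun hqU => ?_⟩
      · simp only [x, dif_pos (show z.1 ∈ U from hqU)] at h1
        obtain ⟨c, hc, hcx⟩ := hunit hq _ h1
        have h2 := (hu q hqU (hG z.1 z.2.1).1).smul_unit (gen_specializes hW hqW) hc
        rw [hcx, ← mul_smul] at h2
        rwa [mul_comm _ f, mul_assoc, inv_mul_cancel₀ (hu0 q hqU _), mul_one] at h2
      · simp only [x, dif_neg (show z.1 ∉ U from hqU), one_mul] at h1
        exact h1
    · have h1 := hfne ρ hρ fun i hi => hqJ (by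
        rw [eq_of_primeAt_eq hW hyW i.2.2.1 hq (hqρ.trans ((Ideal.span_singleton_eq_span_singleton.2 hi).trans
          (hπz i).symm))]
        exact i.2)
      rw [← hqρ] at h1
      have hqO : q ∈ O₁ := by
        by_contra hn
        obtain ⟨g, hg, hgq⟩ := hGcov q hqW hn
        rcases hc.2.2 g hgq with h | h
        · exact hqJ ⟨h ▸ hg, hq, hc⟩
        · exact (hG g hg).2 (h ▸ hηO₁)
      refine ⟨fun _ => ?_, fun _ => h1⟩
      obtain ⟨c, hc, hcx⟩ := hunit hq _ h1
      have h2 := hqO.2.2.smul_unit (gen_specializes hW hqW) hc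
      rwa [hcx] at h2
  -- `t` generates at all generisations of `y` in `U`
  have hgood : ∀ p, p ⤳ y → p ∈ U → Good F t p := by
    intro p hp hpU
    have hpW : p ∈ W := hp.mem_open W.2 hyW
    have key : ∀ ρ : X.presheaf.stalk y, Prime ρ → ρ ∈ primeAt hp →
        UnitAt (Ideal.span {ρ}) (f / u p hpU hpW) := by
      intro ρ hρ hρp
      obtain ⟨q, hq, hqρ, hqc⟩ := exists_codimOne hW hyW hρ
      have hqp : q ⤳ p := specializes_of_primeAt_le hW hyW hp hq (hqρ ▸ (Ideal.span_singleton_le_iff_mem _).2 hρp)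
      have hqU : q ∈ U := hqp.mem_open U.2 hpU
      obtain ⟨_, g, hg, hgt⟩ := (hcod q hq ρ hρ hqρ hqc).1 hqU
      obtain ⟨_, g', hg', hgt'⟩ : Good F (u p hpU hpW • e) q :=
        ((Specializes.mem_open hqp (isOpen_good hgen hW (u p hpU hpW • e)) ⟨hpU, hpW, hu p hpU hpW⟩) :
          q ∈ {q : X | q ∈ U ∧ q ∈ W ∧ Good F (u p hpU hpW • e) q}).2.2
      obtain ⟨c, hc⟩ := hg'.2 g
      have hcu : IsUnit c := IsGenG.unit_of_smul F hg' ((show c • g' = g from hc).symm ▸ hg)
      have h1 : spO (gen_specializes hW (hq.mem_open W.2 hyW)) c * u p hpU hpW = f := he.1 (by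
        show (_ * _) • e = f • e
        rw [mul_smul, ← show spF F _ g' = _ from hgt', ← spF_smul, show c • g' = g from hc]
        exact hgt)
      rw [← hqρ, ← h1, mul_div_cancel_right₀ _ (hu0 p hpU hpW)]
      obtain ⟨a, s, hs, hcs⟩ := exists_germ_frac hW (hq.mem_open W.2 hyW) c
      refine ⟨X.presheaf.germ W y hyW a, X.presheaf.germ W y hyW s, fun h => ?_, fun h => ?_, ?_⟩
      · rw [primeAt, Ideal.mem_comap, spO_germ, ← hcs] at h
        exact h (hcu.mul hs)
      · rw [primeAt, Ideal.mem_comap, spO_germ] at h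
        exact h hs
      · show _ * spO hη _ = spO hη _
        rw [spO_germ, spO_germ, ← spO_germ (gen_specializes hW (hq.mem_open W.2 hyW)) W (hq.mem_open W.2 hyW) s,
          ← map_mul, hcs, spO_germ]
    have h1 : UnitAt (primeAt hp) (f / u p hpU hpW) := unitAt_of_regAt
      (regAt_of_forall_prime fun ρ hρ hρp => (key ρ hρ hρp).regAt)
      (regAt_of_forall_prime fun ρ hρ hρp => (key ρ hρ hρp).inv.regAt) (div_ne_zero hf0 (hu0 _ _ _))
    obtain ⟨c, hc, hcx⟩ := hunit hp _ h1
    have h2 := (hu p hpU hpW).smul_unit (gen_specializes hW hpW) hc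
    rwa [hcx, ← mul_smul, div_mul_cancel₀ _ (hu0 _ _ _)] at h2
  -- shrinking the chart
  let O₂ : X.Opens := ⟨{p | p ∈ U ∧ p ∈ W ∧ Good F t p}, isOpen_good hgen hW t⟩
  have hηO₂ : η ∈ O₂ := ⟨hηU, gen_mem hW, hηGood t ht⟩
  obtain ⟨G₂, hG₂fin, hG₂, hG₂cov⟩ := exists_finite_generic_chart hW O₂
  let V : X.Opens := W ⊓ ⟨(⋃ g ∈ {g ∈ G₂ | ¬ g ⤳ y}, closure {g})ᶜ,
    ((Set.Finite.subset hG₂fin (Set.sep_subset _ _)).isClosed_biUnion fun g _ => isClosed_closure).isOpen_compl⟩
  have hyV : y ∈ V := ⟨hyW, fun h => by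
    simp only [Set.mem_iUnion] at h
    obtain ⟨g, hg, hgy⟩ := h
    exact hg.2 (specializes_iff_mem_closure.2 hgy)⟩
  have hVG : ∀ {p : X}, p ∈ V → ∀ g ∈ G₂, g ⤳ p → g ⤳ y := fun {p} hp g hg hgp => by
    by_contra hn
    exact hp.2 (Set.mem_iUnion₂.2 ⟨g, ⟨hg, hn⟩, specializes_iff_mem_closure.1 hgp⟩)
  have hVU : ∀ p, p ∈ V → p ∈ U → Good F t p := by
    intro p hp hpU
    by_contra hn
    obtain ⟨g, hg, hgp⟩ := hG₂cov p hp.1 fun h => hn h.2.2
    exact (hG₂ g hg).2 ⟨hgp.mem_open U.2 hpU, (hG₂ g hg).1, hgood g (hVG hp g hg hgp) (hgp.mem_open U.2 hpU)⟩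
  have hVcod : ∀ z, z ∈ V → z ∉ U → ∀ η', CodimOne z η' → η' = η ∧ ∃ hzy : z ⤳ y, UnitAt (primeAt hzy) f := by
    intro z hz hzU η' hc
    have hzη : η ≠ z := fun h => hzU (h ▸ hηU)
    rcases hc.2.2 η (gen_specializes hW hz.1) with h | h
    · exact absurd h hzη
    · subst h
      obtain ⟨g, hg, hgz⟩ := hG₂cov z hz.1 fun h => hzU h.1
      rcases hc.2.2 g hgz with h | h
      · subst h
        have hzy : g ⤳ y := hVG hz g hg specializes_rfl
        have hne : primeAt hzy ≠ ⊥ := fun hb =>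
          hzη (eq_of_primeAt_eq hW hyW hη hzy (hb.trans (primeAt_gen hW hyW).symm)).symm
        obtain ⟨ρ, hρP, hρ⟩ := Ideal.IsPrime.exists_mem_prime_of_ne_bot inferInstance hne
        obtain ⟨q, hq, hqe, hqc⟩ := exists_codimOne hW hyW hρ
        rcases hc.2.2 q (specializes_of_primeAt_le hW hyW hzy hq
          (hqe ▸ (Ideal.span_singleton_le_iff_mem _).2 hρP)) with h | h
        · subst h
          exact ⟨rfl, hzy, (hcod q hq ρ hρ hqe hqc).2 hzU⟩
        · exact absurd h.symm hqc.1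
      · exact absurd (h ▸ hηO₂) (hG₂ g hg).2
  -- the generating section
  have hpred : ∀ p : (V ⊓ U : X.Opens), ∃ g : F.presheaf.stalk p.1,
      IsGenG F g ∧ spF F (gen_specializes hW p.2.1.1) g = t := fun p => by
    obtain ⟨_, g, hg, hgt⟩ := hVU p.1 p.2.1 p.2.2
    exact ⟨g, hg, hgt⟩
  choose σ hσ hσt using hpred
  obtain ⟨τ₀, hτ₀, -⟩ := existsUnique_of_germPred F σ fun p => by
    obtain ⟨D, g, hηD, hpD, hgt, hg⟩ := (hVU p.1 p.2.1 p.2.2).exists_section hgen p.2.2
    refine ⟨D ⊓ (V ⊓ U), ⟨hpD, p.2⟩, homOfLE inf_le_right, mres F inf_le_left g, fun q => ?_⟩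
    refine spF_injective_of_good hW ht q.2.2.1.1 (hVU q.1 q.2.2.1 q.2.2.2) ?_
    show spF F _ (σ ⟨q.1, q.2.2⟩) = _
    rw [hσt ⟨q.1, q.2.2⟩, germ_mres, spF_germ]
    exact hgt.symm
  obtain ⟨τ, hτ⟩ := (hbij V).2 τ₀
  have hτgerm : ∀ (p : X) (hp : p ∈ V) (hpU : p ∈ U), F.presheaf.germ V p hp τ = σ ⟨p, hp, hpU⟩ := by
    intro p hp hpU
    rw [← hτ₀ ⟨p, hp, hpU⟩, ← hτ, germ_mres]
  have hηV : η ∈ V := hηmem V y hyW hyV
  have hτη : ∀ (p : X) (hp : p ∈ V), spF F (gen_specializes hW hp.1) (F.presheaf.germ V p hp τ) = t := by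
    intro p hp
    rw [spF_germ]
    have h := hσt ⟨η, hηV, hηU⟩
    rw [← hτgerm η hηV hηU, spF_germ] at h
    exact h
  obtain ⟨s₀, hs₀⟩ := (exists_preimage_iff F (latt F U) τ).2 fun z hz hzU η' h hc => by
    obtain ⟨rfl, hzy, hf⟩ := hVcod z hz hzU η' hc
    obtain ⟨c, -, hc'⟩ := hunit hzy _ hf
    exact ⟨c, (hτη z hz).trans (congrArg (· • e) hc'.symm)⟩
  refine ⟨V, s₀, hyV, fun T hT => ?_⟩
  -- the submodule is free on the generator
  have hgerm : ∀ (r : Γ(X, T)) (p : X) (hp : p ∈ T),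
      spF F (gen_specializes hW (hT hp).1) (F.presheaf.germ T p hp (r • mres F hT τ)) =
        spO (gen_specializes hW (hT hp).1) (X.presheaf.germ T p hp r) • t := by
    intro r p hp
    rw [germ_smul, germ_mres, spF_smul, hτη]
  have hsub : ∀ r : Γ(X, T), (subι F (latt F U)).app T (r • mres (subMod F (latt F U)) hT s₀) = r • mres F hT τ := by
    intro r
    rw [Scheme.Modules.Hom.app_smul, app_mres, hs₀]
  constructor
  · intro r r' h
    refine TopCat.Presheaf.section_ext X.sheaf T r r' fun p hp => ?_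
    refine eq_of_smul_eq hW ht (hT hp).1 ?_
    refine ((hgerm r p hp).symm.trans ?_).trans (hgerm r' p hp)
    congr 2
    rw [← hsub, ← hsub]
    exact congrArg _ h
  · intro s
    let m := (subι F (latt F U)).app T s
    have hm : ∀ (z : X) (hz : z ∈ T), F.presheaf.germ T z hz m ∈ latt F U z :=
      (exists_preimage_iff F (latt F U) m).1 ⟨s, rfl⟩
    have hcoe : ∀ (p : X) (hp : p ∈ T), ∃ c : X.presheaf.stalk p,
        spO (gen_specializes hW (hT hp).1) c • t = spF F (gen_specializes hW (hT hp).1) (F.presheaf.germ T p hp m) := by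
      intro p hp
      by_cases hpU : p ∈ U
      · obtain ⟨_, g, hg, hgt⟩ := hVU p (hT hp) hpU
        obtain ⟨c, hc⟩ := hg.2 (F.presheaf.germ T p hp m)
        refine ⟨c, ?_⟩
        rw [← show c • g = F.presheaf.germ T p hp m from hc, spF_smul]
        exact congrArg _ hgt.symm
      · haveI := hufd p hpU
        haveI : IsDomain (X.presheaf.stalk p) := IsDomain.mk
        obtain ⟨x, hx⟩ := ht.2 (spF F (gen_specializes hW (hT hp).1) (F.presheaf.germ T p hp m))
        replace hx : x • t = _ := hx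
        have hpW : p ∈ W := (hT hp).1
        letI : Algebra (X.presheaf.stalk p) (X.presheaf.stalk η) := (spO (gen_specializes hW hpW)).toAlgebra
        haveI : FaithfulSMul (X.presheaf.stalk p) (X.presheaf.stalk η) :=
          (faithfulSMul_iff_algebraMap_injective _ _).2 (spO_injective hW hpW)
        haveI : IsFractionRing (X.presheaf.stalk p) (X.presheaf.stalk η) := IsFractionRing.of_field _ _ fun z => by
          obtain ⟨a, b, hb, h⟩ := exists_germ_frac hW (gen_mem hW) z
          refine ⟨X.presheaf.germ W p hpW a, X.presheaf.germ W p hpW b, ?_⟩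
          rw [eq_div_iff]
          · change z * spO (gen_specializes hW hpW) _ = spO (gen_specializes hW hpW) _
            rw [spO_germ, spO_germ]; exact h
          · change spO (gen_specializes hW hpW) _ ≠ 0
            rw [spO_germ]; exact hb.ne_zero
        have hreg : RegAt (primeAt (specializes_rfl : p ⤳ p)) x := by
          refine regAt_of_forall_prime fun ρ hρ _ => ?_
          obtain ⟨q, hq, hqρ, hqc⟩ := exists_codimOne hW hpW hρ
          have hqT : q ∈ T := hq.mem_open T.2 hp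
          have hqm : spF F (gen_specializes hW (hT hqT).1) (F.presheaf.germ T q hqT m) = x • t := by
            rw [hx, spF_germ, spF_germ]
          have hreg' : ∃ r : X.presheaf.stalk q, spO (gen_specializes hW (hT hqT).1) r = x := by
            by_cases hqU : q ∈ U
            · obtain ⟨_, g, hg, hgt⟩ := hVU q (hT hqT) hqU
              obtain ⟨r, hr⟩ := hg.2 (F.presheaf.germ T q hqT m)
              refine ⟨r, ht.1 ?_⟩
              show _ • t = x • t
              rw [← hqm, ← show r • g = _ from hr, spF_smul]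
              exact congrArg _ hgt.symm
            · obtain ⟨r, hr⟩ := hm q hqT hqU η (gen_specializes hW (hT hqT).1) hqc
              obtain ⟨-, hzy, hf⟩ := hVcod q (hT hqT) hqU η hqc
              obtain ⟨c, hc, hc'⟩ := hunit hzy _ hf
              refine ⟨r * ↑hc.unit⁻¹, ht.1 ?_⟩
              show _ • t = x • t
              rw [← hqm, hr, map_mul]
              show (_ * _) • f • e = _
              rw [← mul_smul, mul_assoc, ← hc', ← map_mul, IsUnit.val_inv_mul, map_one, mul_one]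
          obtain ⟨r, rfl⟩ := hreg'
          rw [← hqρ]
          obtain ⟨a, b, hb, hab⟩ := exists_germ_frac hW (hq.mem_open W.2 hpW) r
          refine ⟨X.presheaf.germ W p hpW a, X.presheaf.germ W p hpW b, fun h => ?_, ?_⟩
          · rw [primeAt, Ideal.mem_comap, spO_germ] at h
            exact h hb
          · show _ * spO _ _ = spO _ _
            rw [spO_germ, spO_germ, ← spO_germ (gen_specializes hW (hq.mem_open W.2 hpW)) W (hq.mem_open W.2 hpW) b,
              ← map_mul, hab, spO_germ]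
        obtain ⟨a, b, hb, hab⟩ := hreg
        have hbu : IsUnit b := by
          rw [primeAt_self] at hb
          exact not_not.1 fun h => hb h
        refine ⟨a * ↑hbu.unit⁻¹, ?_⟩
        rw [← hx]
        congr 1
        rw [map_mul, ← show x * spO (gen_specializes hW hpW) b = spO (gen_specializes hW hpW) a from hab, mul_assoc,
          ← map_mul, IsUnit.mul_val_inv, map_one, mul_one]
    choose c hc using hcoe
    have hcompat : ∀ (p q : X) (hp : p ∈ T) (hq : q ∈ T) (D : X.Opens) (a : Γ(X, D)) (hpD : p ∈ D) (hqD : q ∈ D),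
        X.presheaf.germ D p hpD a = c p hp → X.presheaf.germ D q hqD a = c q hq := by
      intro p q hp hq D a hpD hqD hpa
      refine eq_of_smul_eq hW ht (hT hq).1 ?_
      rw [hc, spO_germ, spF_germ]
      have h := hc p hp
      rw [← hpa, spO_germ, spF_germ] at h
      exact h
    choose D hD a ha using fun p : T => X.presheaf.exists_germ_eq (c p.1 p.2)
    obtain ⟨r, hr, -⟩ := TopCat.Sheaf.existsUnique_gluing' X.sheaf (fun p => D p ⊓ T) T
      (fun p => homOfLE inf_le_right) (fun x hx => Opens.mem_iSup.2 ⟨⟨x, hx⟩, hD _, hx⟩)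
      (fun p => X.presheaf.map (homOfLE (inf_le_left : D p ⊓ T ≤ D p)).op (a p)) fun p q => by
        refine TopCat.Presheaf.section_ext X.sheaf _ _ _ fun z hz => ?_
        refine ((X.presheaf.germ_res_apply _ z hz _).trans ((X.presheaf.germ_res_apply _ z _ _).trans
          (hcompat p.1 z p.2 hz.1.2 (D p) (a p) (hD p) hz.1.1 (ha p)))).trans
          ((X.presheaf.germ_res_apply _ z hz _).trans ((X.presheaf.germ_res_apply _ z _ _).trans
          (hcompat q.1 z q.2 hz.1.2 (D q) (a q) (hD q) hz.2.1 (ha q)))).symm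
    refine ⟨r, subι_injective F (latt F U) T ?_⟩
    refine (hsub r).trans ((hbij T).1 ?_)
    refine TopCat.Presheaf.section_ext ⟨F.presheaf, F.isSheaf⟩ _ _ _ fun p hp => ?_
    refine spF_injective_of_good hW ht (hT hp.1).1 (hVU p (hT hp.1) hp.2) ?_
    change spF F _ (F.presheaf.germ (T ⊓ U) p hp (mres F inf_le_left _)) =
      spF F _ (F.presheaf.germ (T ⊓ U) p hp (mres F inf_le_left m))
    rw [germ_mres, germ_mres, hgerm r p hp.1, ← hc p hp.1]
    congr 2
    have hz : X.presheaf.germ (D ⟨p, hp.1⟩ ⊓ T) p ⟨hD _, hp.1⟩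
        (X.presheaf.map (homOfLE (inf_le_right : D ⟨p, hp.1⟩ ⊓ T ≤ T)).op r) = c p hp.1 :=
      (congrArg _ (hr ⟨p, hp.1⟩)).trans ((X.presheaf.germ_res_apply _ p _ _).trans (ha _))
    exact (X.presheaf.germ_res_apply _ p _ r).symm.trans hz

end Groth.Agent.Curve17
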