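import Groth.Agent.Lib.Curve17.SubSheaf
import Groth.Agent.Lib.Curve17.IntChart
import Groth.Agent.Lib.CohFound.StalkLin
import Groth.Agent.Lib.CurveCoh17.Vanish
import Groth.Agent.Lib.DetDeg13.Basis
import Groth.Agent.Lib.FinCov29.Rank
import Groth.Agent.Lib.RefHull26.Local

/-!
# Modifications of a module at finitely many points of a one-dimensional integral scheme
-/

set_option linter.style.haveILetI false
set_option autoImplicit false
set_option backward.isDefEq.respectTransparency.types false

universe u

open CategoryTheory TopologicalSpace Opposite CategoryTheory.Limits AlgebraicGeometry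

namespace Groth.Agent.Curve17

open Groth.Agent.M1 Groth.Agent.P1Split

variable {X : Scheme.{u}} {F : X.Modules} {C : ∀ x : X, Submodule (X.presheaf.stalk x) (F.presheaf.stalk x)}
  {n : ℕ}

instance mono_subι' : Mono (subι F C) := (mono_iff_app _).2 (subι_injective F C)

/-- The linear combinations of the germs of sections. -/
noncomputable abbrev lcG {V : X.Opens} (s : Fin n → Γ(F, V)) (x : X) (hx : x ∈ V) :
    (Fin n → X.presheaf.stalk x) →ₗ[X.presheaf.stalk x] F.presheaf.stalk x :=
  Fintype.linearCombination (X.presheaf.stalk x) fun i => (F.presheaf.germ V x hx (s i) : F.presheaf.stalk x)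

theorem range_stL_subι_le (x : X) : LinearMap.range (CohFound.stL (subι F C) x) ≤ C x := by
  rintro _ ⟨b, rfl⟩
  obtain ⟨U, hU, f, rfl⟩ := (subMod F C).presheaf.exists_germ_eq b
  rw [CohFound.stL_germ]
  exact (exists_preimage_iff F C _).1 ⟨f, rfl⟩ x hU

/-- Sections which are independent and span the prescribed submodules form a basis. -/
theorem isBas_subMod {V : X.Opens} {s : Fin n → Γ(F, V)} (σ : Fin n → Γ(subMod F C, V))
    (hσ : ∀ i, (subι F C).app V (σ i) = s i)
    (h : ∀ (x : X) (hx : x ∈ V), Function.Injective (lcG s x hx) ∧ C x ≤ LinearMap.range (lcG s x hx)) :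
    IsBas (subMod F C) V σ := by
  refine isBas_of_stalk fun x hx => ?_
  have key : ∀ c : Fin n → X.presheaf.stalk x, CohFound.stL (subι F C) x (lcG σ x hx c) = lcG s x hx c := fun c => by
    simp only [Fintype.linearCombination_apply, map_sum, map_smul, CohFound.stL_germ, hσ]
  have hinj := CohFound.stL_injective_of_mono (subι F C) x
  show Function.Bijective (lcG σ x hx)
  refine ⟨fun c d hcd => (h x hx).1 (by rw [← key, ← key, hcd]), fun b => ?_⟩
  obtain ⟨c, hc⟩ := (h x hx).2 (range_stL_subι_le x ⟨b, rfl⟩)
  exact ⟨c, hinj ((key c).trans hc)⟩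

theorem le_range_stL_subι {V : X.Opens} {s : Fin n → Γ(F, V)} (σ : Fin n → Γ(subMod F C, V))
    (hσ : ∀ i, (subι F C).app V (σ i) = s i) {x : X} (hx : x ∈ V) (h : C x ≤ LinearMap.range (lcG s x hx)) :
    C x ≤ LinearMap.range (CohFound.stL (subι F C) x) := by
  intro a ha
  obtain ⟨c, rfl⟩ := h ha
  refine ⟨lcG σ x hx c, ?_⟩
  simp only [Fintype.linearCombination_apply, map_sum, map_smul, CohFound.stL_germ, hσ]

/-- Sections which are a basis at one point of a trivialising open are one nearby. -/
theorem exists_isBas_open' {D₀ : X.Opens} {e : Fin n → Γ(F, D₀)} (he : IsBas F D₀ e) {W : X.Opens}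
    (t : Fin n → Γ(F, W)) {y : X} (hyD : y ∈ D₀) (hy : y ∈ W) (ht : Function.Bijective (lcG t y hy)) :
    ∃ (D : X.Opens) (h : D ≤ W), y ∈ D ∧ D ≤ D₀ ∧ IsBas F D fun i => mres F h (t i) := by
  classical
  let V := D₀ ⊓ W
  choose T hT using fun j => (he V inf_le_left).2 (mres F inf_le_right (t j))
  let d : Γ(X, V) := Matrix.det (Matrix.of fun i j => T j i)
  have hgerm : ∀ (x : X) (hx : x ∈ V) (j : Fin n), F.presheaf.germ W x hx.2 (t j) =
      ∑ i, X.presheaf.germ V x hx (T j i) • (F.presheaf.germ D₀ x hx.1 (e i) : F.presheaf.stalk x) := fun x hx j => by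
    rw [← germ_mres F (inf_le_right : V ≤ W) hx, ← hT j]
    simp only [germ_sum_smul]
    exact Finset.sum_congr rfl fun i _ => congrArg _ (germ_mres F (inf_le_left : D₀ ⊓ W ≤ D₀) hx (e i))
  have hdet : ∀ (x : X) (hx : x ∈ V), (Matrix.of fun i j => X.presheaf.germ V x hx (T j i)).det =
      X.presheaf.germ V x hx d := fun x hx => (RingHom.map_det (X.presheaf.germ V x hx).hom _).symm
  have hyV : y ∈ V := ⟨hyD, hy⟩
  have hu : IsUnit (X.presheaf.germ V y hyV d) := by
    let Le := LinearEquiv.ofBijective _ (DetDeg13.isBas_bij he hyV.1)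
    let Lt := LinearEquiv.ofBijective _ ht
    rw [← hdet y hyV]
    let A : Matrix (Fin n) (Fin n) (X.presheaf.stalk y) := Matrix.of fun i j => X.presheaf.germ V y hyV (T j i)
    let B : Matrix (Fin n) (Fin n) (X.presheaf.stalk y) :=
      Matrix.of fun i j => Lt.symm (F.presheaf.germ D₀ y hyV.1 (e j)) i
    have hAB : A * B = 1 := by
      ext l j
      have h1 : (F.presheaf.germ D₀ y hyV.1 (e j) : F.presheaf.stalk y) =
          Le (fun l => ∑ i, A l i * B i j) := by
        conv_lhs => rw [← Lt.apply_symm_apply (F.presheaf.germ D₀ y hyV.1 (e j))]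
        show ∑ i, B i j • F.presheaf.germ W y hyV.2 (t i) = ∑ l, (∑ i, A l i * B i j) • _
        simp only [hgerm y hyV, Finset.smul_sum, Finset.sum_smul, smul_smul]
        rw [Finset.sum_comm]
        exact Finset.sum_congr rfl fun i _ => Finset.sum_congr rfl fun k _ => by rw [mul_comm]; rfl
      have h2 : (F.presheaf.germ D₀ y hyV.1 (e j) : F.presheaf.stalk y) = Le (Pi.single j 1) := by
        show _ = Fintype.linearCombination (X.presheaf.stalk y) _ (Pi.single j 1)
        rw [Fintype.linearCombination_apply_single, one_smul]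
      have h3 := congrFun (Le.injective (h1.symm.trans h2)) l
      rw [Matrix.mul_apply, Matrix.one_apply]
      rw [Pi.single_apply] at h3
      exact h3
    exact IsUnit.of_mul_eq_one B.det (by rw [← Matrix.det_mul, hAB, Matrix.det_one])
  refine ⟨X.basicOpen d, (X.basicOpen_le d).trans inf_le_right, (X.mem_basicOpen d y hyV).2 hu,
    (X.basicOpen_le d).trans inf_le_left, isBas_of_stalk ?_⟩
  intro x hx
  have hxV : x ∈ V := X.basicOpen_le d hx
  have : (fun i => (F.presheaf.germ (X.basicOpen d) x hx (mres F ((X.basicOpen_le d).trans inf_le_right) (t i)) :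
      F.presheaf.stalk x)) = fun i => F.presheaf.germ W x hxV.2 (t i) := funext fun i => germ_mres _ _ _ _
  show Function.Bijective (Fintype.linearCombination (X.presheaf.stalk x) fun i =>
    (F.presheaf.germ (X.basicOpen d) x hx (mres F ((X.basicOpen_le d).trans inf_le_right) (t i)) : F.presheaf.stalk x))
  rw [this]
  exact DetDeg13.bijective_linearCombination_of_det (DetDeg13.isBas_bij he hxV.1) _
    ((hdet x hxV).symm ▸ (X.mem_basicOpen d x hxV).1 hx) (hgerm x hxV)

/-- A modification at finitely many points by free lattices is locally free. -/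
theorem isFinLocFreeOfRank_subMod [IsIntegral X] [IsNoetherian X] (hd : topologicalKrullDim X ≤ 1)
    {D₀ : X.Opens} {e : Fin n → Γ(F, D₀)} (he : IsBas F D₀ e) (hη : genericPoint X ∈ D₀)
    (hC : ∀ x ∈ D₀, C x = ⊤)
    (hb : ∀ x, x ∉ D₀ → ∃ v : Fin n → (F.presheaf.stalk x : Type u),
      Function.Injective (Fintype.linearCombination (X.presheaf.stalk x) v) ∧
      C x = LinearMap.range (Fintype.linearCombination (X.presheaf.stalk x) v) ∧
      Function.Bijective (Fintype.linearCombination (X.presheaf.stalk (genericPoint X))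
        fun i => spF F (genericPoint_specializes x) (v i))) :
    FlatMod.IsFinLocFreeOfRank n (subMod F C) ∧
      ∀ x, C x ≤ LinearMap.range (CohFound.stL (subι F C) x) := by
  classical
  suffices h : ∀ y : X, ∃ (V : X.Opens) (σ : Fin n → Γ(subMod F C, V)), y ∈ V ∧ IsBas (subMod F C) V σ ∧
      C y ≤ LinearMap.range (CohFound.stL (subι F C) y) by
    choose V σ hV hσ hr using h
    exact ⟨FinCov29.isFinLocFreeOfRank_of_bases fun y => ⟨V y, σ y, hV y, hσ y⟩, hr⟩
  intro y
  by_cases hy : y ∈ D₀
  · have hbij := fun (x : X) (hx : x ∈ D₀) => DetDeg13.isBas_bij he hx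
    choose σ hσ using fun i => (exists_preimage_iff F C (e i)).2 fun x hx => by rw [hC x hx]; trivial
    refine ⟨D₀, σ, hy, isBas_subMod σ hσ fun x hx => ⟨(hbij x hx).1, fun a _ => (hbij x hx).2 a⟩,
      le_range_stL_subι σ hσ hy fun a _ => (hbij y hy).2 a⟩
  · obtain ⟨v, hvi, hvC, hvη⟩ := hb y hy
    choose U hyU s hs using fun i => F.presheaf.exists_germ_eq (v i)
    let V₁ : X.Opens := ⟨⋂ i, (U i : Set X), isOpen_iInter_of_finite fun i => (U i).2⟩
    have hV₁ : ∀ i, V₁ ≤ U i := fun i x hx => Set.mem_iInter.1 hx i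
    have hy₁ : y ∈ V₁ := Set.mem_iInter.2 hyU
    let t : Fin n → Γ(F, V₁) := fun i => mres F (hV₁ i) (s i)
    have hty : ∀ i, F.presheaf.germ V₁ y hy₁ (t i) = v i := fun i => (germ_mres F (hV₁ i) hy₁ (s i)).trans (hs i)
    have hη₁ : genericPoint X ∈ V₁ := (genericPoint_specializes y).mem_open V₁.2 hy₁
    obtain ⟨W, hW, hηW, hWD, hWb⟩ := exists_isBas_open' he t hη hη₁ (by
      have : (fun i => (F.presheaf.germ V₁ (genericPoint X) hη₁ (t i) : F.presheaf.stalk (genericPoint X))) =
          fun i => spF F (genericPoint_specializes y) (v i) := funext fun i => by rw [← hty, spF_germ]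
      show Function.Bijective (Fintype.linearCombination (X.presheaf.stalk (genericPoint X)) fun i =>
        (F.presheaf.germ V₁ (genericPoint X) hη₁ (t i) : F.presheaf.stalk (genericPoint X)))
      rw [this]; exact hvη)
    obtain ⟨S, hS, hScl⟩ := CurveCoh17.exists_finset_closedPoints hd (C := (W : Set X)ᶜ) W.isOpen.isClosed_compl
      fun g hg hgC => hgC ((hg _ (genericPoint_specializes g)) ▸ hηW)
    let V : X.Opens := V₁ ⊓ ⟨(⋃ x ∈ S.erase y, {x})ᶜ,
      (isClosed_biUnion_finset fun x hx => hScl x (Finset.mem_of_mem_erase hx)).isOpen_compl⟩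
    have hyV : y ∈ V := ⟨hy₁, fun h => by
      simp only [Set.mem_iUnion, Set.mem_singleton_iff] at h
      obtain ⟨x, hx, rfl⟩ := h
      exact Finset.ne_of_mem_erase hx rfl⟩
    have hVW : ∀ x ∈ V, x = y ∨ x ∈ W := fun x hx => by
      by_contra h
      rw [not_or] at h
      have hxS : x ∈ S := Finset.mem_coe.1 (by rw [hS]; exact h.2)
      exact hx.2 (Set.mem_iUnion₂.2 ⟨x, Finset.mem_erase.2 ⟨h.1, hxS⟩, rfl⟩)
    let t' : Fin n → Γ(F, V) := fun i => mres F (inf_le_left : V ≤ V₁) (t i)
    have hty' : lcG t' y hyV = Fintype.linearCombination (X.presheaf.stalk y) v := by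
      exact congrArg (Fintype.linearCombination (X.presheaf.stalk y))
        (funext fun i => (germ_mres F _ hyV _).trans (hty i))
    have hspec : ∀ (x : X) (hx : x ∈ V), Function.Injective (lcG t' x hx) ∧
        C x ≤ LinearMap.range (lcG t' x hx) ∧ ∀ i, F.presheaf.germ V x hx (t' i) ∈ C x := by
      intro x hx
      rcases hVW x hx with rfl | hxW
      · rw [hty']
        refine ⟨hvi, hvC.le, fun i => ?_⟩
        rw [hvC, show F.presheaf.germ V x hx (t' i) = v i from (germ_mres F _ hx _).trans (hty i)]
        exact ⟨Pi.single i 1, by rw [Fintype.linearCombination_apply_single, one_smul]⟩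
      · have hb' := DetDeg13.isBas_bij hWb hxW
        have : lcG t' x hx = lcG (fun i => mres F hW (t i)) x hxW := by
          exact congrArg (Fintype.linearCombination (X.presheaf.stalk x))
            (funext fun i => (germ_mres F _ hx _).trans (germ_mres F hW hxW _).symm)
        rw [this]
        exact ⟨hb'.1, fun a _ => hb'.2 a, fun i => by rw [hC x (hWD hxW)]; trivial⟩
    choose σ hσ using fun i => (exists_preimage_iff F C (t' i)).2 fun x hx => (hspec x hx).2.2 i
    exact ⟨V, σ, hyV, isBas_subMod σ hσ fun x hx => ⟨(hspec x hx).1, (hspec x hx).2.1⟩,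
      le_range_stL_subι σ hσ hyV (hspec y hyV).2.1⟩

/-- Lifts of a basis of the generic stalk to a stalk of a torsion-free module, and a denominator. -/
theorem exists_lattice [IsIntegral X] (hF : Coh.IsQCoh F) (x : X)
    [Module.IsTorsionFree (X.presheaf.stalk x) (F.presheaf.stalk x)]
    [Module.Finite (X.presheaf.stalk x) (F.presheaf.stalk x)]
    {w : Fin n → (F.presheaf.stalk (genericPoint X) : Type u)}
    (hw : Function.Bijective (Fintype.linearCombination (X.presheaf.stalk (genericPoint X)) w)) :
    ∃ (v : Fin n → (F.presheaf.stalk x : Type u)) (t : X.presheaf.stalk x),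
      Function.Injective (Fintype.linearCombination (X.presheaf.stalk x) v) ∧ t ≠ 0 ∧
      (∀ a, t • a ∈ LinearMap.range (Fintype.linearCombination (X.presheaf.stalk x) v)) ∧
      Function.Bijective (Fintype.linearCombination (X.presheaf.stalk (genericPoint X))
        fun i => spF F (genericPoint_specializes x) (v i)) := by
  classical
  let h := genericPoint_specializes (α := X) x
  choose r v hr hrv using fun i => RH26.exists_smul_eq_sp hF h (w i)
  have hη : Function.Bijective (Fintype.linearCombination (X.presheaf.stalk (genericPoint X))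
      fun i => spF F h (v i)) := by
    refine DetDeg13.bijective_linearCombination_of_det hw (Matrix.diagonal fun i => spO h (r i)) ?_ fun j => ?_
    · rw [Matrix.det_diagonal]
      exact IsUnit.prod_iff.2 fun i _ => hr i
    · rw [Finset.sum_eq_single j (fun i _ hij => by rw [Matrix.diagonal_apply_ne _ hij, zero_smul])
        (fun h => absurd (Finset.mem_univ j) h), Matrix.diagonal_apply_eq]
      exact (hrv j).symm
  have hsp : ∀ c, spF F h (Fintype.linearCombination (X.presheaf.stalk x) v c) =
      Fintype.linearCombination (X.presheaf.stalk (genericPoint X)) (fun i => spF F h (v i)) fun i => spO h (c i) := by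
    intro c
    simp only [Fintype.linearCombination_apply, map_sum, spF_smul]
  have hinjO : Function.Injective (spO h) := RH26.sp_injective x
  have hinjF : Function.Injective (spF F h) := RH26.injective_sp_of_isTorsionFree hF x
  have hden : ∀ a : F.presheaf.stalk x, ∃ b : X.presheaf.stalk x, b ≠ 0 ∧
      b • a ∈ LinearMap.range (Fintype.linearCombination (X.presheaf.stalk x) v) := fun a => by
    obtain ⟨c, hc⟩ := hη.2 (spF F h a)
    obtain ⟨b, hb⟩ := IsLocalization.exist_integer_multiples_of_finite
      (nonZeroDivisors (X.presheaf.stalk x)) (S := X.functionField) c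
    choose a' ha' using hb
    refine ⟨b, nonZeroDivisors.coe_ne_zero b, a', hinjF ?_⟩
    rw [hsp, spF_smul, ← hc, ← map_smul]
    refine congrArg _ (funext fun i => ?_)
    exact (ha' i).trans (Algebra.smul_def (b : X.presheaf.stalk x) (c i))
  choose b hb0 hb using hden
  obtain ⟨G, hG⟩ := Module.Finite.fg_top (R := X.presheaf.stalk x) (M := F.presheaf.stalk x)
  refine ⟨v, ∏ g ∈ G, b g, fun c d hcd => funext fun i => hinjO (congrFun (@hη.1 (fun i => spO h (c i)) (fun i => spO h (d i)) ?_) i),
    Finset.prod_ne_zero_iff.2 fun g _ => hb0 g, fun a => ?_, hη⟩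
  · rw [← hsp, ← hsp, hcd]
  · have ha : a ∈ Submodule.span (X.presheaf.stalk x) (G : Set (F.presheaf.stalk x)) := hG ▸ trivial
    induction ha using Submodule.span_induction with
    | mem g hg =>
      rw [← Finset.prod_erase_mul G _ hg, mul_smul]
      exact Submodule.smul_mem _ _ (hb g)
    | zero => rw [smul_zero]; exact zero_mem _
    | add a c _ _ ha hc => rw [smul_add]; exact add_mem ha hc
    | smul r a _ ha => rw [smul_comm]; exact Submodule.smul_mem _ r ha

end Groth.Agent.Curve17
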