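import Groth.Agent.Lib.Curve17.Modif
import Groth.Agent.Lib.RegSmooth17.Scheme
import Groth.Agent.Lib.GeomRed18.Smooth
import Groth.Agent.Lib.CurveCoh17.RegPoint
import Groth.Agent.Lib.CurveCoh17.IdealPow
import Groth.Agent.Lib.CurveCoh17.TensorExact
import Groth.Agent.Lib.RefHull26.Free
import Groth.Agent.Lib.VB17.Proper

/-!
# Modifications on integral curves: regular points, bases, products with invertible submodules
-/

set_option linter.style.haveILetI false
set_option autoImplicit false
set_option backward.isDefEq.respectTransparency.types false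

universe u

open CategoryTheory TopologicalSpace Opposite CategoryTheory.Limits AlgebraicGeometry TensorProduct

namespace Groth.Agent.Curve17

open Groth.Agent.M1 Groth.Agent.M2 Groth.Agent.P1Split Groth.Agent.CurveCoh17

variable {X : Scheme.{u}}

/-- On an integral scheme locally of finite type over a perfect field there is an open of regular points. -/
theorem exists_regular_open (k : Type u) [Field k] [PerfectField k] [X.Over (Spec (CommRingCat.of k))]
    [LocallyOfFinitePresentation (X ↘ Spec (CommRingCat.of k))] [IsIntegral X] :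
    ∃ W : X.Opens, genericPoint X ∈ W ∧ ∀ x ∈ W, IsRegularLocalRing (X.presheaf.stalk x) := by
  refine ⟨(X ↘ Spec (CommRingCat.of k)).smoothLocus, ?_, fun x hx => GeomRed.isRegularLocalRing_of_mem_smoothLocus hx⟩
  letI : Field (X.presheaf.stalk (genericPoint X)) := inferInstanceAs (Field X.functionField)
  haveI : IsRegularLocalRing (X.presheaf.stalk (genericPoint X)) := inferInstance
  exact RegSmooth17.mem_smoothLocus_of_isRegularLocalRing _ _
    (RegSmooth17.formallySmooth_residue_of_perfectField _ _)

/-- Near a point with free stalk a coherent module has a basis of its generic rank. -/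
theorem exists_isBas_of_free_stalk [IsIntegral X] {F : X.Modules} (hF : CohB1.IsFP F) {n : ℕ}
    (hn : Module.finrank (X.presheaf.stalk (genericPoint X)) (F.presheaf.stalk (genericPoint X)) = n) (x : X)
    [Module.Free (X.presheaf.stalk x) (F.presheaf.stalk x)] :
    ∃ (D : X.Opens) (e : Fin n → Γ(F, D)), x ∈ D ∧ IsBas F D e := by
  obtain ⟨U, m, hxU, ⟨φ⟩⟩ := exists_freeMod_of_free_stalk hF x
  have h1 := (isBas_coprod (fun _ : Fin m => Coh.structureModule (U : Scheme.{u})) (fun _ => one ⊤)
    fun _ => isGen_one ⊤).map_iso φ.symm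
  have h2 := P1Split.isBas_of_restrict U.ι _ h1
  have hx : x ∈ U.ι ''ᵁ ⊤ := ⟨⟨x, hxU⟩, trivial, rfl⟩
  have hb := DetDeg13.isBas_bij h2 ((genericPoint_specializes x).mem_open (U.ι ''ᵁ ⊤).2 hx)
  obtain rfl : m = n := by
    rw [← hn, ← (LinearEquiv.ofBijective _ hb).finrank_eq, Module.finrank_fin_fun]
  exact ⟨_, _, hx, h2⟩

theorem free_stalk_of_regular [IsIntegral X] [IsLocallyNoetherian X] (hd : topologicalKrullDim X ≤ 1)
    {F : X.Modules} (hF : Coh.IsCoh F) (hFt : TorSh.IsTorsionFree F) (x : X)
    (hx : IsRegularLocalRing (X.presheaf.stalk x)) : Module.Free (X.presheaf.stalk x) (F.presheaf.stalk x) := by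
  haveI := hx
  haveI := pid_stalk_of_regular hd x
  haveI := hFt x
  exact RH26.free_of_isPrincipal hF

/-- The product with a submodule of the structure sheaf. -/
noncomputable def mulHom {L : X.Modules} (ι : L ⟶ Coh.structureModule X) (F : X.Modules) :
    CohB1.tensorMod L F ⟶ F :=
  tensorMap ι (𝟙 F) ≫ (tensorLUnit F).hom

/-- The product on a pure tensor. -/
theorem stalkLin_mulHom {L : X.Modules} (ι : L ⟶ Coh.structureModule X) (F : X.Modules) (x : X)
    (l : L.presheaf.stalk x) (f : F.presheaf.stalk x) :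
    stalkLin (mulHom ι F) x ((stalkEquiv L F x).symm (l ⊗ₜ[X.presheaf.stalk x] f)) =
      (RH26.str x).symm (stalkLin ι x l) • f := by
  obtain ⟨U, hx, s, t, rfl, rfl⟩ := exists_germ_germ x l f
  have h : (stalkEquiv L F x).symm (L.presheaf.germ U x hx s ⊗ₜ F.presheaf.germ U x hx t) =
      (CohB1.tensorMod L F).presheaf.germ U x hx (tsec L F s t) :=
    (LinearEquiv.symm_apply_eq _).2 (stalkEquiv_tsec L F x hx s t).symm
  rw [h, stalkLin_apply, germ_naturality, stalkLin_apply, germ_naturality, RH26.str_symm_germ]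
  have he : (mulHom ι F).app U (tsec L F s t) = (show Γ(X, U) from ι.app U s) • t := by
    show (tensorLUnit F).hom.app U ((tensorMap ι (𝟙 F)).app U (tsec L F s t)) = _
    rw [tensorMap_tsec]
    exact tensorLUnit_tsec (show Γ(X, U) from ι.app U s) t
  rw [he]
  exact M1.germ_smul F hx _ _

/-- On a point where `L` is free of rank one, every element is a pure tensor with a fixed generator. -/
theorem exists_mulHom_stalk {L : X.Modules} (hL : PicF.IsInvertible L) (ι : L ⟶ Coh.structureModule X) [Mono ι]
    (F : X.Modules) (x : X) :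
    ∃ r : X.presheaf.stalk x, r ≠ 0 ∧ r ∈ Submodule.comap (RH26.str x).toLinearMap
        (LinearMap.range (CohFound.stL ι x)) ∧
      (LinearMap.range (CohFound.stL ι x) = ⊤ → IsUnit r) ∧
      ∀ a : (CohB1.tensorMod L F).presheaf.stalk x, ∃ f : F.presheaf.stalk x,
        stalkLin (mulHom ι F) x a = r • f ∧ (f = 0 → a = 0) := by
  classical
  obtain ⟨e⟩ := CurveCoh17.nonempty_stalk_equiv ((isInvertible_iff_isFinLocFreeOfRank_one L).1 hL) x
  let l₀ := e.symm 1
  have hl : ∀ l, l = e l 0 • l₀ := fun l => by
    apply e.injective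
    rw [map_smul, LinearEquiv.apply_symm_apply]
    funext i
    rw [Fin.fin_one_eq_zero i, Pi.smul_apply, Pi.one_apply, smul_eq_mul, mul_one]
  have hl0 : l₀ ≠ 0 := fun h => one_ne_zero (α := X.presheaf.stalk x) (congrFun (show (1 : Fin 1 → X.presheaf.stalk x) = 0 by
    rw [← e.apply_symm_apply 1]; exact (congrArg e h).trans (map_zero e)) 0)
  let r := (RH26.str x).symm (stalkLin ι x l₀)
  have hinj : Function.Injective (stalkLin ι x) := (M1.mono_iff_stalk ι).1 inferInstance x
  refine ⟨r, fun h => hl0 (hinj ?_), ?_, fun htop => ?_, fun a => ?_⟩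
  · rw [map_zero]; exact (RH26.str x).symm.injective (h.trans (map_zero _).symm)
  · exact ⟨l₀, ((RH26.str x).apply_symm_apply _).symm⟩
  · obtain ⟨l, hl'⟩ := (htop.symm ▸ trivial : RH26.str x 1 ∈ LinearMap.range (CohFound.stL ι x))
    refine IsUnit.of_mul_eq_one_right (e l 0) ((RH26.str x).injective ?_)
    rw [← hl', ← smul_eq_mul, map_smul]
    refine (congrArg (e l 0 • ·) ((RH26.str x).apply_symm_apply _)).trans ?_
    exact (map_smul (stalkLin ι x) _ _).symm.trans (congrArg (stalkLin ι x) (hl l).symm)
  · have hz : ∀ z : (L.presheaf.stalk x : Type u) ⊗[X.presheaf.stalk x] (F.presheaf.stalk x : Type u),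
        ∃ f, z = l₀ ⊗ₜ f := fun z => by
      induction z using TensorProduct.induction_on with
      | zero => exact ⟨0, (TensorProduct.tmul_zero _ _).symm⟩
      | add z w hz hw =>
        obtain ⟨f, rfl⟩ := hz
        obtain ⟨g, rfl⟩ := hw
        exact ⟨f + g, (TensorProduct.tmul_add _ _ _).symm⟩
      | tmul l f => exact ⟨e l 0 • f, by conv_lhs => rw [hl l, TensorProduct.smul_tmul]⟩
    obtain ⟨f, hf⟩ := hz (stalkEquiv L F x a)
    refine ⟨f, ?_, fun h => (stalkEquiv L F x).injective ?_⟩
    · conv_lhs => rw [← (stalkEquiv L F x).symm_apply_apply a, hf]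
      exact stalkLin_mulHom ι F x l₀ f
    · rw [hf, h, TensorProduct.tmul_zero, map_zero]

end Groth.Agent.Curve17
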