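import Groth.Agent.Lib.Curve17.ModifCurve
import Groth.Agent.Lib.AmpleFin18.ProjFree
import Groth.Agent.Lib.DMon9.Pull

/-!
# Invertible modules on a finite birational cover of a curve come from the base
-/

set_option linter.style.haveILetI false
set_option autoImplicit false
set_option backward.isDefEq.respectTransparency.types false

universe u

open CategoryTheory TopologicalSpace Opposite CategoryTheory.Limits AlgebraicGeometry

namespace Groth.Agent.Curve17

open Groth.Agent.M1 Groth.Agent.M2 Groth.Agent.P1Split Groth.Agent.CurveCoh17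

variable {X X' : Scheme.{u}}

set_option backward.isDefEq.respectTransparency false in
theorem bijective_app_of_le (π : X' ⟶ X) (U : X.Opens) [IsIso (π ∣_ U)] {W : X.Opens} (hW : W ≤ U) :
    Function.Bijective (π.app W) := by
  obtain ⟨V, rfl⟩ : ∃ V : (U : Scheme.{u}).Opens, U.ι ''ᵁ V = W :=
    ⟨U.ι ⁻¹ᵁ W, by rw [Scheme.Hom.image_preimage_eq_opensRange_inf, Scheme.Opens.opensRange_ι]; exact inf_eq_right.2 hW⟩
  have h := morphismRestrict_app π U V
  haveI : IsIso ((π ∣_ U).app V) := inferInstance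
  haveI : IsIso (π.app (U.ι ''ᵁ V) ≫ X'.presheaf.map (eqToHom (image_morphismRestrict_preimage π U V)).op) :=
    h ▸ inferInstance
  haveI : IsIso (π.app (U.ι ''ᵁ V)) := IsIso.of_isIso_comp_right _ (X'.presheaf.map (eqToHom (image_morphismRestrict_preimage π U V)).op)
  exact ConcreteCategory.bijective_of_isIso (π.app (U.ι ''ᵁ V))

/-- A basis over the preimage is a basis of the direct image where the map is an isomorphism. -/
theorem isBas_push_of_iso (π : X' ⟶ X) (U : X.Opens) [IsIso (π ∣_ U)] {N : X'.Modules} {n : ℕ} {V : X.Opens}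
    (hV : V ≤ U) {s : Fin n → Γ(N, π ⁻¹ᵁ V)} (hs : IsBas N (π ⁻¹ᵁ V) s) :
    IsBas ((Scheme.Modules.pushforward π).obj N) V (fun i => (s i : Γ((Scheme.Modules.pushforward π).obj N, V))) := by
  intro W hW
  have hle : π ⁻¹ᵁ W ≤ π ⁻¹ᵁ V := fun x hx => hW hx
  exact (hs (π ⁻¹ᵁ W) hle).comp (Equiv.piCongrRight fun _ =>
    Equiv.ofBijective _ (bijective_app_of_le π U (hW.trans hV))).bijective

set_option maxHeartbeats 1000000 in
/-- Invertible modules upstairs come from downstairs. -/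
theorem exists_invertible_pullback_iso [IsIntegral X] [IsNoetherian X] (hd : topologicalKrullDim X ≤ 1)
    (π : X' ⟶ X) [IsFinite π] (U : X.Opens) (hne : (U : Set X).Nonempty) [IsIso (π ∣_ U)]
    (N : X'.Modules) (hN : PicF.IsInvertible N) :
    ∃ L : X.Modules, PicF.IsInvertible L ∧ Nonempty ((Scheme.Modules.pullback π).obj L ≅ N) := by
  classical
  have hN1 := (isInvertible_iff_isFinLocFreeOfRank_one N).1 hN
  have htriv : ∀ x : X, ∃ (V : X.Opens) (s : Fin 1 → Γ(N, π ⁻¹ᵁ V)), x ∈ V ∧ IsBas N (π ⁻¹ᵁ V) s := fun x => by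
    obtain ⟨V₀, hV₀, hxV₀, -⟩ := exists_isAffineOpen_mem_and_subset (x := x) (U := ⊤) trivial
    obtain ⟨D, t, hDW, hZD, ht⟩ := DetDeg13.exists_isBas_finite hN1 (hV₀.preimage π)
      (IsFinite.finite_preimage_singleton π x) fun z (hz : π z = x) => show π z ∈ V₀ from hz ▸ hxV₀
    let V : X.Opens := V₀ ⊓ ⟨(π '' (D : Set X')ᶜ)ᶜ, (π.isClosedMap _ D.2.isClosed_compl).isOpen_compl⟩
    have hVD : π ⁻¹ᵁ V ≤ D := fun z hz => by
      by_contra hn
      exact hz.2 ⟨z, hn, rfl⟩
    exact ⟨V, fun i => mres N hVD (t i), ⟨hxV₀, fun ⟨z, hz, hzx⟩ => hz (hZD hzx)⟩, ht.mres hVD⟩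
  choose V s hxV hs using htriv
  let P := (Scheme.Modules.pushforward π).obj N
  let η := genericPoint X
  have hηU : η ∈ U := ((genericPoint_spec X).mem_open_set_iff U.2).2 (by simpa using hne)
  have hηV : ∀ x, η ∈ V x := fun x => (genericPoint_specializes x).mem_open (V x).2 (hxV x)
  have hbP : ∀ x : X, IsBas P (V x ⊓ U) fun i => mres P (inf_le_left : V x ⊓ U ≤ V x) (s x i : Γ(P, V x)) := fun x =>
    isBas_push_of_iso π U (V := V x ⊓ U) inf_le_right ((hs x).mres (show π ⁻¹ᵁ (V x ⊓ U) ≤ π ⁻¹ᵁ V x from fun z hz => hz.1))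
  let v : ∀ x : X, Fin 1 → (P.presheaf.stalk x : Type u) := fun x i => P.presheaf.germ (V x) x (hxV x) (s x i)
  have hvη : ∀ x, Function.Bijective (Fintype.linearCombination (X.presheaf.stalk η)
      fun i => spF P (genericPoint_specializes x) (v x i)) := fun x => by
    have : (fun i => spF P (genericPoint_specializes x) (v x i)) = fun i => (P.presheaf.germ (V x ⊓ U) η ⟨hηV x, hηU⟩
        (mres P (inf_le_left : V x ⊓ U ≤ V x) (s x i : Γ(P, V x))) : P.presheaf.stalk η) :=
      funext fun i => by rw [spF_germ, germ_mres]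
    rw [this]
    exact DetDeg13.isBas_bij (hbP x) _
  have hvi : ∀ x, Function.Injective (Fintype.linearCombination (X.presheaf.stalk x) (v x)) := fun x c d hcd => by
    funext i
    refine RH26.sp_injective x (congrFun (@(hvη x).1 (fun i => spO (genericPoint_specializes x) (c i))
      (fun i => spO (genericPoint_specializes x) (d i)) ?_) i)
    have h := congrArg (spF P (genericPoint_specializes x)) hcd
    simpa only [Fintype.linearCombination_apply, map_sum, spF_smul] using h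
  let C : ∀ x : X, Submodule (X.presheaf.stalk x) (P.presheaf.stalk x) := fun x =>
    if x ∈ V η ⊓ U then ⊤ else LinearMap.range (Fintype.linearCombination (X.presheaf.stalk x) (v x))
  have hC : ∀ x, C x = LinearMap.range (Fintype.linearCombination (X.presheaf.stalk x) (v x)) := fun x => by
    by_cases hx : x ∈ V η ⊓ U
    · have hb := DetDeg13.isBas_bij (hbP x) (x := x) ⟨hxV x, hx.2⟩
      have : v x = fun i => (P.presheaf.germ (V x ⊓ U) x ⟨hxV x, hx.2⟩
          (mres P (inf_le_left : V x ⊓ U ≤ V x) (s x i : Γ(P, V x))) : P.presheaf.stalk x) :=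
        funext fun i => (germ_mres P (inf_le_left : V x ⊓ U ≤ V x) _ _).symm
      rw [this]
      exact (if_pos hx).trans (LinearMap.range_eq_top.2 hb.2).symm
    · exact if_neg hx
  obtain ⟨hL, hLr⟩ := isFinLocFreeOfRank_subMod (C := C) hd (hbP η) ⟨hηV η, hηU⟩ (fun x hx => if_pos hx)
    fun x _ => ⟨v x, hvi x, hC x, hvη x⟩
  let ι := subι P C
  let α := ((Scheme.Modules.pullbackPushforwardAdjunction π).homEquiv (subMod P C) N).symm ι
  have hα : ((Scheme.Modules.pullbackPushforwardAdjunction π).homEquiv (subMod P C) N) α = ι :=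
    Equiv.apply_symm_apply _ _
  -- near each point the generator lifts to a basis of the submodule
  have hloc : ∀ x : X, ∃ (D : X.Opens) (σ : Fin 1 → Γ(subMod P C, D)) (h : D ≤ V x), x ∈ D ∧
      IsBas (subMod P C) D σ ∧ ∀ i, ι.app D (σ i) = mres P h (s x i : Γ(P, V x)) := fun x => by
    obtain ⟨a, ha⟩ := hLr x (show v x 0 ∈ C x by
      rw [hC x]; exact ⟨Pi.single 0 1, by rw [Fintype.linearCombination_apply_single, one_smul]⟩)
    obtain ⟨W, hxW, a₀, rfl⟩ := (subMod P C).presheaf.exists_germ_eq a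
    rw [CohFound.stL_germ] at ha
    obtain ⟨D₁, hxD₁, i₁, i₂, he⟩ := P.presheaf.germ_eq x hxW (hxV x) _ _ ha
    have hinj := CohFound.stL_injective_of_mono ι x
    let a₁ : Fin 1 → Γ(subMod P C, D₁) := fun _ => mres _ i₁.le a₀
    have ha₁ : ∀ i, ι.app D₁ (a₁ i) = mres P i₂.le (s x i : Γ(P, V x)) := fun i => by
      rw [app_mres, Fin.fin_one_eq_zero i]; exact he
    have key : ∀ c : Fin 1 → X.presheaf.stalk x, CohFound.stL ι x (lcG a₁ x hxD₁ c) =
        Fintype.linearCombination (X.presheaf.stalk x) (v x) c := fun c => by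
      simp only [Fintype.linearCombination_apply, map_sum, map_smul, CohFound.stL_germ, ha₁, germ_mres]
      rfl
    obtain ⟨B, hxB, eB, heB⟩ : ∃ (B : X.Opens) (_ : x ∈ B) (eB : Fin 1 → Γ(subMod P C, B)), IsBas (subMod P C) B eB := by
      obtain ⟨B, eB, hxB, heB⟩ := P1Split.exists_isBas_nhd hL x; exact ⟨B, hxB, eB, heB⟩
    obtain ⟨D, hD, hxD, -, hDb⟩ := exists_isBas_open' heB a₁ hxB hxD₁ ⟨fun c d hcd => hvi x (by
      rw [← key, ← key, hcd]), fun b => by
      obtain ⟨c, hc⟩ := (hC x).le (range_stL_subι_le x ⟨b, rfl⟩)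
      exact ⟨c, hinj ((key c).trans hc)⟩⟩
    exact ⟨D, _, hD.trans i₂.le, hxD, hDb, fun i => by rw [app_mres, ha₁, mres_mres]⟩
  choose D σ hDV hxD hσ hισ using hloc
  have hpush : ∀ {V W : X.Opens} (h : W ≤ V) (t : Γ(P, V)),
      mres P h t = mres N (show π ⁻¹ᵁ W ≤ π ⁻¹ᵁ V from fun z hz => h hz) (t : Γ(N, π ⁻¹ᵁ V)) := fun _ _ => rfl
  have happ : ∀ (x : X) (i : Fin 1), α.app (π ⁻¹ᵁ D x) (pullSec π (subMod P C) (σ x i)) =
      mres N (show π ⁻¹ᵁ D x ≤ π ⁻¹ᵁ V x from fun z hz => hDV x hz) (s x i) := fun x i => by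
    refine (DMon9.homEquiv_app_apply π α (D x) (σ x i)).symm.trans ?_
    refine (congrArg (fun φ : subMod P C ⟶ P => φ.app (D x) (σ x i)) hα).trans ?_
    exact (hισ x i).trans (hpush (hDV x) (s x i : Γ(P, V x)))
  have hcov : ⨆ x, π ⁻¹ᵁ D x = ⊤ := top_le_iff.1 fun z _ => Opens.mem_iSup.2 ⟨π z, hxD (π z)⟩
  have hb1 : ∀ x, IsBas ((Scheme.Modules.pullback π).obj (subMod P C)) (π ⁻¹ᵁ D x)
      (fun i => pullSec π (subMod P C) (σ x i)) := fun x => AmpleFin18.isBas_pullback π (hσ x)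
  have hb2 : ∀ x, IsBas N (π ⁻¹ᵁ D x)
      (fun i => mres N (show π ⁻¹ᵁ D x ≤ π ⁻¹ᵁ V x from fun z hz => hDV x hz) (s x i)) := fun x => (hs x).mres _
  haveI : IsIso α := isIso_of_bases α (fun x : X => π ⁻¹ᵁ D x) hcov _ _ hb1 hb2 happ
  exact ⟨_, (isInvertible_iff_isFinLocFreeOfRank_one _).2 hL, ⟨asIso α⟩⟩

end Groth.Agent.Curve17
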