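import Mathlib.RingTheory.Localization.NumDen
import Mathlib.RingTheory.UniqueFactorizationDomain.Ideal
import Mathlib.Tactic

/-!
# Fractions in a factorial domain
-/

set_option autoImplicit false
universe u

namespace Groth.Agent.Curve17

variable {R K : Type u} [CommRing R] [Field K] [Algebra R K]

/-- `x` is regular at the prime `P`. -/
def RegAt (P : Ideal R) (x : K) : Prop := ∃ a s, s ∉ P ∧ x * algebraMap R K s = algebraMap R K a

/-- `x` is invertible at the prime `P`. -/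
def UnitAt (P : Ideal R) (x : K) : Prop :=
  ∃ a s, a ∉ P ∧ s ∉ P ∧ x * algebraMap R K s = algebraMap R K a

variable {P Q : Ideal R} {x y : K}

theorem UnitAt.regAt (h : UnitAt P x) : RegAt P x :=
  let ⟨a, s, _, hs, e⟩ := h; ⟨a, s, hs, e⟩

theorem unitAt_one [P.IsPrime] : UnitAt P (1 : K) :=
  ⟨1, 1, fun h => Ideal.IsPrime.ne_top ‹_› ((Ideal.eq_top_iff_one P).2 h),
    fun h => Ideal.IsPrime.ne_top ‹_› ((Ideal.eq_top_iff_one P).2 h), by simp⟩

theorem UnitAt.mul [P.IsPrime] (hx : UnitAt P x) (hy : UnitAt P y) : UnitAt P (x * y) := by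
  obtain ⟨a, s, ha, hs, e⟩ := hx
  obtain ⟨b, t, hb, ht, e'⟩ := hy
  refine ⟨a * b, s * t, fun h => ?_, fun h => ?_, by rw [map_mul, map_mul, ← e, ← e']; ring⟩
  · exact (Ideal.IsPrime.mem_or_mem ‹_› h).elim ha hb
  · exact (Ideal.IsPrime.mem_or_mem ‹_› h).elim hs ht

theorem RegAt.mul [P.IsPrime] (hx : RegAt P x) (hy : RegAt P y) : RegAt P (x * y) := by
  obtain ⟨a, s, hs, e⟩ := hx
  obtain ⟨b, t, ht, e'⟩ := hy
  exact ⟨a * b, s * t, fun h => (Ideal.IsPrime.mem_or_mem ‹_› h).elim hs ht,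
    by rw [map_mul, map_mul, ← e, ← e']; ring⟩

variable [IsDomain R] [IsFractionRing R K]

theorem UnitAt.ne_zero (h : UnitAt P x) : x ≠ 0 := by
  obtain ⟨a, s, ha, -, e⟩ := h
  rintro rfl
  rw [zero_mul] at e
  exact ha (by rw [(map_eq_zero_iff _ (IsFractionRing.injective R K)).1 e.symm]; exact P.zero_mem)

theorem UnitAt.inv (h : UnitAt P x) : UnitAt P x⁻¹ := by
  have hx := h.ne_zero
  obtain ⟨a, s, ha, hs, e⟩ := h
  refine ⟨s, a, hs, ha, ?_⟩
  rw [← e]; field_simp

theorem UnitAt.zpow [P.IsPrime] (h : UnitAt P x) (n : ℤ) : UnitAt P (x ^ n) := by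
  induction n using Int.induction_on with
  | zero => simpa using unitAt_one
  | succ n ih => rw [zpow_add_one₀ h.ne_zero]; exact ih.mul h
  | pred n ih => rw [zpow_sub_one₀ h.ne_zero]; exact ih.mul h.inv

theorem unitAt_prod [P.IsPrime] {ι : Type*} (s : Finset ι) (v : ι → K) (h : ∀ i ∈ s, UnitAt P (v i)) :
    UnitAt P (∏ i ∈ s, v i) := by
  classical
  induction s using Finset.induction_on with
  | empty => simpa using unitAt_one
  | insert i s hi ih =>
    rw [Finset.prod_insert hi]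
    exact (h i (Finset.mem_insert_self i s)).mul (ih fun j hj => h j (Finset.mem_insert_of_mem hj))

theorem unitAt_algebraMap [P.IsPrime] {r : R} (h : r ∉ P) : UnitAt P (algebraMap R K r) :=
  ⟨r, 1, h, fun h => Ideal.IsPrime.ne_top ‹_› ((Ideal.eq_top_iff_one P).2 h), by simp⟩

theorem unitAt_of_regAt [P.IsPrime] (hx : RegAt P x) (hx' : RegAt P x⁻¹) (h0 : x ≠ 0) : UnitAt P x := by
  obtain ⟨a, s, hs, e⟩ := hx
  obtain ⟨b, t, ht, e'⟩ := hx'
  refine ⟨a, s, fun ha => ?_, hs, e⟩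
  have : a * b = s * t := IsFractionRing.injective R K (by
    rw [map_mul, map_mul, ← e, ← e']; field_simp)
  exact ((Ideal.IsPrime.mem_or_mem ‹_› (this ▸ P.mul_mem_right b ha : s * t ∈ P)).elim hs ht)

variable [UniqueFactorizationMonoid R]

/-- Regularity is detected by the prime elements in the prime. -/
theorem regAt_of_forall_prime [P.IsPrime]
    (h : ∀ π : R, Prime π → π ∈ P → RegAt (Ideal.span {π}) x) : RegAt P x := by
  refine ⟨IsFractionRing.num R x, IsFractionRing.den R x, fun hden => ?_, ?_⟩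
  · obtain ⟨π, hπP, hπd, hπ⟩ : ∃ π ∈ P, π ∣ (IsFractionRing.den R x : R) ∧ Prime π := by
      have hd0 : (IsFractionRing.den R x : R) ≠ 0 := nonZeroDivisors.ne_zero (IsFractionRing.den R x).2
      obtain ⟨f, hf, hfd⟩ := UniqueFactorizationMonoid.exists_prime_factors _ hd0
      have h1 : f.prod ∈ P := by
        obtain ⟨v, hv⟩ := hfd
        rw [← hv] at hden
        exact (Ideal.IsPrime.mem_or_mem ‹_› hden).resolve_right fun hvP =>
          Ideal.IsPrime.ne_top ‹_› (Ideal.eq_top_of_isUnit_mem _ hvP v.isUnit)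
      obtain ⟨π, hπf, hπP⟩ := (Ideal.IsPrime.multiset_prod_mem_iff_exists_mem ‹_› f).1 h1
      exact ⟨π, hπP, (Multiset.dvd_prod hπf).trans hfd.dvd, hf π hπf⟩
    obtain ⟨a, s, hs, e⟩ := h π hπ hπP
    rw [Ideal.mem_span_singleton] at hs
    have h1 : IsFractionRing.num R x * s = a * (IsFractionRing.den R x : R) := IsFractionRing.injective R K (by
      rw [map_mul, map_mul, ← e]
      have hx : x * algebraMap R K (IsFractionRing.den R x) = algebraMap R K (IsFractionRing.num R x) := by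
        exact IsLocalization.eq_mk'_iff_mul_eq.1 (IsFractionRing.mk'_num_den R x).symm
      rw [← hx]; ring)
    rcases hπ.dvd_or_dvd (h1 ▸ hπd.mul_left a : π ∣ IsFractionRing.num R x * s) with h2 | h2
    · exact hπ.not_unit (IsFractionRing.num_den_reduced R x h2 hπd)
    · exact hs h2
  · exact IsLocalization.eq_mk'_iff_mul_eq.1 (IsFractionRing.mk'_num_den R x).symm

theorem exists_eq_zpow_mul_unitAt {π : R} (hπ : Prime π) {x : K} (hx : x ≠ 0) :
    ∃ n : ℤ, UnitAt (Ideal.span {π}) (x * (algebraMap R K π) ^ n) := by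
  obtain ⟨a, b, hb, rfl⟩ := IsFractionRing.div_surjective R x
  have ha : a ≠ 0 := by rintro rfl; simp at hx
  have hb0 : b ≠ 0 := nonZeroDivisors.ne_zero hb
  obtain ⟨i, a', ha', rfl⟩ := WfDvdMonoid.max_power_factor ha hπ.irreducible
  obtain ⟨j, b', hb', rfl⟩ := WfDvdMonoid.max_power_factor hb0 hπ.irreducible
  refine ⟨(j : ℤ) - i, a', b', by rwa [Ideal.mem_span_singleton], by rwa [Ideal.mem_span_singleton], ?_⟩
  have h1 : algebraMap R K π ≠ 0 := (map_ne_zero_iff _ (IsFractionRing.injective R K)).2 hπ.ne_zero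
  have h2 : algebraMap R K b' ≠ 0 :=
    (map_ne_zero_iff _ (IsFractionRing.injective R K)).2 (fun h => hb' (h ▸ dvd_zero π))
  simp only [map_mul, map_pow, zpow_sub₀ h1, zpow_natCast]
  field_simp

/-- An element with prescribed behaviour at finitely many primes. -/
theorem exists_unitAt_prescribed {ι : Type*} [Finite ι] (π : ι → R) (hπ : ∀ i, Prime (π i))
    (hne : ∀ i j, i ≠ j → ¬ Associated (π i) (π j)) (x : ι → K) (hx : ∀ i, x i ≠ 0) :
    ∃ f : K, f ≠ 0 ∧ (∀ i, UnitAt (Ideal.span {π i}) (x i * f)) ∧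
      ∀ ρ : R, Prime ρ → (∀ i, ¬ Associated ρ (π i)) → UnitAt (Ideal.span {ρ}) f := by
  classical
  haveI := Fintype.ofFinite ι
  choose n hn using fun i => exists_eq_zpow_mul_unitAt (K := K) (hπ i) (hx i)
  have hπ0 : ∀ i, algebraMap R K (π i) ≠ 0 := fun i =>
    (map_ne_zero_iff _ (IsFractionRing.injective R K)).2 (hπ i).ne_zero
  have hu : ∀ i (ρ : R), Prime ρ → ¬ Associated ρ (π i) →
      UnitAt (Ideal.span {ρ}) (algebraMap R K (π i) ^ n i) := fun i ρ hρ hρi =>
    haveI := (Ideal.span_singleton_prime hρ.ne_zero).2 hρ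
    (unitAt_algebraMap fun h => hρi (hρ.associated_of_dvd (hπ i) (Ideal.mem_span_singleton.1 h))).zpow _
  refine ⟨∏ i, algebraMap R K (π i) ^ n i, Finset.prod_ne_zero_iff.2 fun i _ => zpow_ne_zero _ (hπ0 i),
    fun i => ?_, fun ρ hρ hρi => ?_⟩
  · haveI := (Ideal.span_singleton_prime (hπ i).ne_zero).2 (hπ i)
    rw [← Finset.mul_prod_erase _ _ (Finset.mem_univ i), ← mul_assoc]
    exact (hn i).mul (unitAt_prod _ _ fun j hj => hu j _ (hπ i) (hne i j (Finset.ne_of_mem_erase hj).symm))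
  · haveI := (Ideal.span_singleton_prime hρ.ne_zero).2 hρ
    exact unitAt_prod _ _ fun j _ => hu j ρ hρ (hρi j)

end Groth.Agent.Curve17
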